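import Mathlib
import Cfsg.Agent.Lib.Char.Constituent

/-!
Sums of linear characters of finite abelian groups, as used for the tables of `GL(2, q)`.
-/

set_option linter.unusedSectionVars false

namespace Cfsg.Agent.Block.SL2Char

open scoped ComplexConjugate
open Finset

universe u

variable {A : Type u} [CommGroup A] [Fintype A]

/-- The value of a linear character, as a complex number. -/
abbrev cv (l : A →* ℂˣ) (x : A) : ℂ := (l x : ℂ)

theorem cv_mul (l : A →* ℂˣ) (x y : A) : cv l (x * y) = cv l x * cv l y := by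
  simp [cv]

theorem cv_one (l : A →* ℂˣ) : cv l 1 = 1 := by simp [cv]

theorem cv_ne_zero (l : A →* ℂˣ) (x : A) : cv l x ≠ 0 := Units.ne_zero _

theorem cv_inv (l : A →* ℂˣ) (x : A) : cv l x⁻¹ = (cv l x)⁻¹ := by simp [cv]

theorem conj_cv (l : A →* ℂˣ) (x : A) : conj (cv l x) = cv l x⁻¹ :=
  (Cfsg.Agent.Char.IsIrr.apply_inv (Cfsg.Agent.Char.isIrr_linear l) x).symm

theorem mul_conj_cv (l : A →* ℂˣ) (x : A) : cv l x * conj (cv l x) = 1 := by
  rw [conj_cv, ← cv_mul, mul_inv_cancel, cv_one]

theorem sum_cv_ne {l : A →* ℂˣ} (hl : l ≠ 1) : ∑ x : A, cv l x = 0 :=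
  Cfsg.Agent.Char.linear_sum l hl

theorem sum_cv_one {l : A →* ℂˣ} (hl : l = 1) : ∑ x : A, cv l x = (Fintype.card A : ℂ) := by
  subst hl; simp [cv]

theorem div_ne_one {a b : A →* ℂˣ} (h : a ≠ b) : a / b ≠ 1 := fun e => h (div_eq_one.1 e)

theorem cv_div (a b : A →* ℂˣ) (x : A) : cv (a / b) x = cv a x * conj (cv b x) := by
  rw [conj_cv, cv_inv]
  simp [cv, div_eq_mul_inv]

theorem sum_mul_conj_cv (a b : A →* ℂˣ) [Decidable (a = b)] :
    ∑ x : A, cv a x * conj (cv b x) = if a = b then (Fintype.card A : ℂ) else 0 := by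
  simp only [← cv_div]
  split_ifs with h
  · exact sum_cv_one (div_eq_one.2 h)
  · exact sum_cv_ne (div_ne_one h)

/-- A sum of two linear characters determines them. -/
theorem pair_eq {a b c d : A →* ℂˣ} (h : ∀ x, cv a x + cv b x = cv c x + cv d x) :
    (a = c ∧ b = d) ∨ (a = d ∧ b = c) := by
  classical
  have hN : (Fintype.card A : ℂ) ≠ 0 := Nat.cast_ne_zero.2 Fintype.card_ne_zero
  have h1 : ∑ x : A, (cv a x + cv b x) * conj (cv c x) =
      ∑ x : A, (cv c x + cv d x) * conj (cv c x) := sum_congr rfl fun x _ => by rw [h]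
  simp only [add_mul, sum_add_distrib, sum_mul_conj_cv, if_true] at h1
  by_cases hac : a = c
  · subst hac
    exact Or.inl ⟨rfl, MonoidHom.ext fun x => Units.ext (add_left_cancel (h x))⟩
  · by_cases hbc : b = c
    · subst hbc
      refine Or.inr ⟨MonoidHom.ext fun x => Units.ext (add_right_cancel (b := cv b x) ?_), rfl⟩
      rw [add_comm (cv d x)]
      exact h x
    · rw [if_neg hac, if_neg hbc, add_zero] at h1
      exfalso
      split_ifs at h1
      · exact hN (by linear_combination -(1 / 2 : ℂ) * h1)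
      · exact hN (by linear_combination -h1)

end Cfsg.Agent.Block.SL2Char
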