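import Mathlib
import Cfsg.Agent.Lib.Block.SL2Char.Homs
import Cfsg.Agent.Lib.Char.Constituent

/-!
Counting linear characters, and completeness of a list of irreducible characters by degrees.
-/

set_option linter.unusedSectionVars false

namespace Cfsg.Agent.Block.SL2Char

open Finset

universe u

variable {A : Type u} [CommGroup A] [Fintype A]

theorem hasRoots : HasEnoughRootsOfUnity ℂ (Monoid.exponent A) := by
  haveI : NeZero ((Monoid.exponent A : ℕ) : ℂ) :=
    ⟨Nat.cast_ne_zero.2 Monoid.exponent_ne_zero_of_finite⟩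
  infer_instance

theorem card_homs : Nat.card (A →* ℂˣ) = Fintype.card A := by
  haveI := hasRoots (A := A)
  rw [CommGroup.card_monoidHom_of_hasEnoughRootsOfUnity, Nat.card_eq_fintype_card]

theorem finite_homs : Finite (A →* ℂˣ) :=
  Nat.finite_of_card_ne_zero (by rw [card_homs]; exact Fintype.card_ne_zero)

noncomputable instance fintypeHoms : Fintype (A →* ℂˣ) := @Fintype.ofFinite _ finite_homs

theorem card_homs' : Fintype.card (A →* ℂˣ) = Fintype.card A := by
  rw [← Nat.card_eq_fintype_card, card_homs]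

/-- As many linear characters as elements are killed by `k`. -/
theorem card_homs_pow (k : ℕ) :
    Nat.card {α : A →* ℂˣ // ∀ x, cv α (x ^ k) = 1} = Nat.card {x : A // x ^ k = 1} := by
  haveI := hasRoots (A := A)
  set H : Subgroup A := (powMonoidHom k : A →* A).range with hH
  have h1 : Nat.card {α : A →* ℂˣ // ∀ x, cv α (x ^ k) = 1} =
      Nat.card (MonoidHom.domRestrictHom H ℂˣ).ker := by
    refine Nat.card_congr (Equiv.subtypeEquivRight fun α => ?_)
    rw [MonoidHom.mem_ker]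
    refine ⟨fun h => MonoidHom.ext fun y => ?_, fun h x => ?_⟩
    · obtain ⟨x, hx⟩ := y.2
      refine Units.ext ?_
      show (α (y : A) : ℂ) = 1
      rw [← hx]
      exact h x
    · have := DFunLike.congr_fun h (⟨x ^ k, x, rfl⟩ : H)
      exact congrArg Units.val this
  have h2 := Subgroup.card_mul_index (powMonoidHom k : A →* A).ker
  have h3 := Subgroup.card_mul_index H
  rw [Subgroup.index_ker, ← hH] at h2
  have h4 : H.index = Nat.card (powMonoidHom k : A →* A).ker := by
    refine Nat.eq_of_mul_eq_mul_left (Nat.card_pos (α := H)) ?_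
    rw [h3, ← h2, mul_comm]
  rw [h1, CommGroup.card_domRestrictHom_ker, ← Subgroup.index_eq_card, h4]
  exact Nat.card_congr (Equiv.subtypeEquivRight fun x => by simp [MonoidHom.mem_ker])

/-- Images under a two-to-one map. -/
theorem card_image_two {ι β : Type*} [DecidableEq β] [DecidableEq ι] (s : Finset ι) (f : ι → β)
    (σ : ι → ι) (hσ : ∀ i ∈ s, σ i ∈ s ∧ σ i ≠ i ∧ f (σ i) = f i)
    (hf : ∀ i ∈ s, ∀ j ∈ s, f i = f j → j = i ∨ j = σ i) : (s.image f).card * 2 = s.card := by
  rw [card_eq_sum_card_image f s, ← smul_eq_mul, ← sum_const]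
  refine sum_congr rfl fun b hb => ?_
  obtain ⟨i, hi, rfl⟩ := mem_image.1 hb
  obtain ⟨h1, h2, h3⟩ := hσ i hi
  have : s.filter (fun j => f j = f i) = {i, σ i} := by
    ext j
    simp only [mem_filter, mem_insert, mem_singleton]
    refine ⟨fun ⟨hj, e⟩ => hf i hi j hj e.symm, ?_⟩
    rintro (rfl | rfl)
    exacts [⟨hi, rfl⟩, ⟨h1, h3⟩]
  rw [this, card_pair h2.symm]

variable {G : Type*} [Group G] [Fintype G]

/-- A set of irreducible characters with the full sum of squared degrees contains them all. -/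
theorem mem_of_complete {L : Finset (G → ℂ)} (hirr : ∀ f ∈ L, IsIrrCharacter G f)
    (hsum : ∑ f ∈ L, f 1 ^ 2 = (Nat.card G : ℂ)) {χ : G → ℂ} (hχ : IsIrrCharacter G χ) : χ ∈ L := by
  classical
  by_contra hne
  let e : {f // f ∈ L} ↪ IrrCharacter G :=
    ⟨fun f => ⟨f.1, hirr f.1 f.2⟩, fun a b h => Subtype.ext (congrArg (fun φ : IrrCharacter G => (φ : G → ℂ)) h)⟩
  have hnm : (⟨χ, hχ⟩ : IrrCharacter G) ∉ L.attach.map e := fun hm => by
    obtain ⟨f, -, hf⟩ := mem_map.1 hm
    have hf' : f.1 = χ := congrArg (fun φ : IrrCharacter G => (φ : G → ℂ)) hf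
    exact hne (hf' ▸ f.2)
  choose d hd hd' using fun φ : IrrCharacter G => Cfsg.Agent.Char.IsIrr.one_eq_pos φ.2
  have h1 : ∑ φ ∈ insert ⟨χ, hχ⟩ (L.attach.map e), d φ ^ 2 ≤ ∑ φ : IrrCharacter G, d φ ^ 2 :=
    sum_le_sum_of_subset (subset_univ _)
  rw [sum_insert hnm] at h1
  have h2 : ((∑ φ ∈ L.attach.map e, d φ ^ 2 : ℕ) : ℂ) = (Nat.card G : ℂ) := by
    rw [sum_map, ← hsum, ← sum_attach L, Nat.cast_sum]
    refine sum_congr rfl fun f _ => ?_
    rw [Nat.cast_pow]
    exact congrArg (· ^ 2) (hd' (e f)).symm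
  have h3 : ((∑ φ : IrrCharacter G, d φ ^ 2 : ℕ) : ℂ) = (Nat.card G : ℂ) := by
    rw [← Cfsg.Agent.Char.sum_degree_sq (G := G), Nat.cast_sum]
    exact sum_congr rfl fun φ _ => by rw [Nat.cast_pow, hd']
  have h4 : ∑ φ ∈ L.attach.map e, d φ ^ 2 = ∑ φ : IrrCharacter G, d φ ^ 2 :=
    Nat.cast_injective (h2.trans h3.symm)
  have h5 := pow_pos (hd ⟨χ, hχ⟩) 2
  rw [h4] at h1
  omega

/-- The irreducible characters of a given degree in a complete list. -/
theorem card_degree {L : Finset (G → ℂ)} (hirr : ∀ f ∈ L, IsIrrCharacter G f)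
    (hsum : ∑ f ∈ L, f 1 ^ 2 = (Nat.card G : ℂ)) (c : ℂ) :
    Nat.card {χ : IrrCharacter G // (χ : G → ℂ) 1 = c} = (L.filter fun f => f 1 = c).card := by
  rw [← Fintype.card_coe, ← Nat.card_eq_fintype_card]
  exact Nat.card_congr
    { toFun := fun χ => ⟨χ.1.1, mem_filter.2 ⟨mem_of_complete hirr hsum χ.1.2, χ.2⟩⟩
      invFun := fun f => ⟨⟨f.1, hirr f.1 (mem_filter.1 f.2).1⟩, (mem_filter.1 f.2).2⟩
      left_inv := fun χ => rfl
      right_inv := fun f => rfl }

end Cfsg.Agent.Block.SL2Char
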