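import Mathlib

/-!
Conjugacy classes of `GL(2, F)` over a finite field: the four types of representatives, their
centralizers, and the resulting formula for the sum of a class function.
-/

set_option linter.unusedSectionVars false

namespace Cfsg.Agent.Block.SL2Char

open Matrix

universe u v

variable {F : Type u} [Field F]

local notation "GG" => GL (Fin 2) F

/-- A matrix with non-zero determinant, as an element of `GL(2, F)`. -/
noncomputable def mk (A : Matrix (Fin 2) (Fin 2) F) (h : A.det ≠ 0) : GG :=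
  Matrix.GeneralLinearGroup.mkOfDetNeZero A h

@[simp] theorem mk_val (A : Matrix (Fin 2) (Fin 2) F) (h : A.det ≠ 0) :
    ((mk A h : GG) : Matrix (Fin 2) (Fin 2) F) = A := rfl

/-- Scalar matrices. -/
noncomputable def sc (z : Fˣ) : GG :=
  mk !![(z : F), 0; 0, (z : F)] (by simp [det_fin_two])

/-- Diagonal matrices. -/
noncomputable def di (x y : Fˣ) : GG :=
  mk !![(x : F), 0; 0, (y : F)] (by simp [det_fin_two])

/-- A scalar times a unipotent. -/
noncomputable def un (z : Fˣ) : GG :=
  mk !![(z : F), 1; 0, (z : F)] (by simp [det_fin_two])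

@[simp] theorem sc_val (z : Fˣ) :
    ((sc z : GG) : Matrix (Fin 2) (Fin 2) F) = !![(z : F), 0; 0, (z : F)] := rfl

@[simp] theorem di_val (x y : Fˣ) :
    ((di x y : GG) : Matrix (Fin 2) (Fin 2) F) = !![(x : F), 0; 0, (y : F)] := rfl

@[simp] theorem un_val (z : Fˣ) :
    ((un z : GG) : Matrix (Fin 2) (Fin 2) F) = !![(z : F), 1; 0, (z : F)] := rfl

/-- Scalar matrices in `GL(2, F)`. -/
def IsSc (g : GG) : Prop :=
  (g : Matrix (Fin 2) (Fin 2) F) 0 1 = 0 ∧ (g : Matrix (Fin 2) (Fin 2) F) 1 0 = 0 ∧
    (g : Matrix (Fin 2) (Fin 2) F) 0 0 = (g : Matrix (Fin 2) (Fin 2) F) 1 1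

/-- The trace. -/
def tr (g : GG) : F :=
  (g : Matrix (Fin 2) (Fin 2) F) 0 0 + (g : Matrix (Fin 2) (Fin 2) F) 1 1

/-- The determinant, in the field. -/
def dt (g : GG) : F :=
  (g : Matrix (Fin 2) (Fin 2) F) 0 0 * (g : Matrix (Fin 2) (Fin 2) F) 1 1 -
    (g : Matrix (Fin 2) (Fin 2) F) 0 1 * (g : Matrix (Fin 2) (Fin 2) F) 1 0

theorem dt_eq_det (g : GG) : dt g = (g : Matrix (Fin 2) (Fin 2) F).det := (det_fin_two _).symm

theorem dt_ne_zero (g : GG) : dt g ≠ 0 := by
  rw [dt_eq_det]
  exact (Matrix.GeneralLinearGroup.det_ne_zero g)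

theorem tr_eq_trace (g : GG) : tr g = (g : Matrix (Fin 2) (Fin 2) F).trace := (trace_fin_two _).symm

theorem tr_conj (g h : GG) : tr (h * g * h⁻¹) = tr g := by
  rw [tr_eq_trace, tr_eq_trace, GeneralLinearGroup.coe_mul, GeneralLinearGroup.coe_mul,
    Matrix.trace_mul_cycle, ← GeneralLinearGroup.coe_mul, inv_mul_cancel]
  simp

theorem dt_mul (g h : GG) : dt (g * h) = dt g * dt h := by
  rw [dt_eq_det, dt_eq_det, dt_eq_det, GeneralLinearGroup.coe_mul, det_mul]

theorem dt_one : dt (1 : GG) = 1 := by simp [dt_eq_det]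

theorem dt_conj (g h : GG) : dt (h * g * h⁻¹) = dt g := by
  rw [dt_mul, dt_mul, mul_comm (dt h), mul_assoc, ← dt_mul, mul_inv_cancel, dt_one, mul_one]

theorem eq_sc_of_isSc {g : GG} (h : IsSc g) : ∃ z, g = sc z := by
  have h0 : (g : Matrix (Fin 2) (Fin 2) F) 0 0 ≠ 0 := fun h0 => by
    have := dt_ne_zero g
    simp [dt, h.1, h.2.1, h0] at this
  refine ⟨Units.mk0 _ h0, Units.ext (Matrix.ext fun i j => ?_)⟩
  fin_cases i <;> fin_cases j <;> simp [h.1, h.2.1, h.2.2]

theorem isSc_sc (z : Fˣ) : IsSc (sc z) := by simp [IsSc]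

theorem sc_central (z : Fˣ) (g : GG) : g * sc z = sc z * g := by
  refine Units.ext (Matrix.ext fun i j => ?_)
  simp only [GeneralLinearGroup.coe_mul, sc_val]
  fin_cases i <;> fin_cases j <;> simp [Matrix.mul_apply, Fin.sum_univ_two, mul_comm]

theorem isConj_sc {z : Fˣ} {g : GG} : IsConj (sc z) g ↔ g = sc z := by
  refine ⟨fun h => ?_, fun h => h ▸ IsConj.refl _⟩
  obtain ⟨c, rfl⟩ := isConj_iff.1 h
  rw [sc_central, mul_inv_cancel_right]

theorem not_isSc_conj {g : GG} (hg : ¬ IsSc g) (c : GG) : ¬ IsSc (c * g * c⁻¹) := fun h => by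
  obtain ⟨z, hz⟩ := eq_sc_of_isSc h
  refine hg ?_
  have : g = sc z := by
    have h2 : c⁻¹ * (c * g * c⁻¹) * c = c⁻¹ * sc z * c := by rw [hz]
    rw [sc_central, mul_assoc (sc z) c⁻¹, inv_mul_cancel, mul_one] at h2
    rw [← h2]; group
  rw [this]; exact isSc_sc z

/-- A nonscalar matrix is conjugate to its companion matrix. -/
theorem isConj_comp {g : GG} (hg : ¬ IsSc g) :
    IsConj (mk !![0, -dt g; 1, tr g] (by simp [det_fin_two, dt_ne_zero g])) g := by
  obtain ⟨a, b, hab⟩ : ∃ a b : F,
      a * ((g : Matrix (Fin 2) (Fin 2) F) 1 0 * a + (g : Matrix (Fin 2) (Fin 2) F) 1 1 * b) -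
        ((g : Matrix (Fin 2) (Fin 2) F) 0 0 * a + (g : Matrix (Fin 2) (Fin 2) F) 0 1 * b) * b ≠ 0 := by
    by_contra h
    push Not at h
    have h1 := h 1 0
    have h2 := h 0 1
    have h3 := h 1 1
    simp only [mul_one, mul_zero, zero_mul, one_mul, add_zero, zero_add, sub_zero, zero_sub,
      neg_eq_zero] at h1 h2 h3
    refine hg ⟨h2, h1, ?_⟩
    rw [h1, h2, zero_add, add_zero, sub_eq_zero] at h3
    exact h3.symm
  refine isConj_iff.2 ⟨mk !![a, (g : Matrix (Fin 2) (Fin 2) F) 0 0 * a + (g : Matrix (Fin 2) (Fin 2) F) 0 1 * b;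
    b, (g : Matrix (Fin 2) (Fin 2) F) 1 0 * a + (g : Matrix (Fin 2) (Fin 2) F) 1 1 * b]
    (by simpa [det_fin_two] using hab), ?_⟩
  rw [mul_inv_eq_iff_eq_mul]
  refine Units.ext (Matrix.ext fun i j => ?_)
  simp only [GeneralLinearGroup.coe_mul, mk_val]
  fin_cases i <;> fin_cases j <;> simp [Matrix.mul_apply, Fin.sum_univ_two, tr, dt] <;> ring

/-- Nonscalar matrices are conjugate as soon as trace and determinant agree. -/
theorem isConj_iff_tr_dt {g h : GG} (hg : ¬ IsSc g) (hh : ¬ IsSc h) :
    IsConj g h ↔ tr g = tr h ∧ dt g = dt h := by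
  refine ⟨fun hc => ?_, fun ⟨h1, h2⟩ => ?_⟩
  · obtain ⟨c, rfl⟩ := isConj_iff.1 hc
    exact ⟨(tr_conj g c).symm, (dt_conj g c).symm⟩
  · have e := isConj_comp hg
    simp only [h1, h2] at e
    exact e.symm.trans (isConj_comp hh)

theorem not_isSc_di {x y : Fˣ} (h : x ≠ y) : ¬ IsSc (di x y) := fun hs => h (Units.ext (by
  simpa using hs.2.2))

theorem not_isSc_un (z : Fˣ) : ¬ IsSc (un z) := fun h => by simpa using h.1

theorem tr_di (x y : Fˣ) : tr (di x y) = x + y := by simp [tr]
theorem dt_di (x y : Fˣ) : dt (di x y) = x * y := by simp [dt]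
theorem tr_sc (z : Fˣ) : tr (sc z) = z + z := by simp [tr]
theorem dt_sc (z : Fˣ) : dt (sc z) = z * z := by simp [dt]
theorem tr_un (z : Fˣ) : tr (un z) = z + z := by simp [tr]
theorem dt_un (z : Fˣ) : dt (un z) = z * z := by simp [dt]

theorem root_pair {a b x y : F} (h1 : a + b = x + y) (h2 : a * b = x * y) :
    (a = x ∧ b = y) ∨ (a = y ∧ b = x) := by
  have : (a - x) * (a - y) = 0 := by linear_combination a * h1 - h2
  rcases mul_eq_zero.1 this with h | h <;> rw [sub_eq_zero] at h <;> subst h
  · exact Or.inl ⟨rfl, add_left_cancel h1⟩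
  · exact Or.inr ⟨rfl, by linear_combination h1⟩

theorem un_inj {z w : Fˣ} (h1 : (z : F) + z = w + w) (h2 : (z : F) * z = w * w) : z = w := by
  rcases root_pair h1 h2 with h | h <;> exact Units.ext h.1

variable (K : Type v) [Field K] [Algebra F K] [FiniteDimensional F K]
  (hK : Module.finrank F K = 2)

/-- The regular representation of a quadratic extension. -/
noncomputable def ell : Kˣ →* GG :=
  Units.map (Algebra.leftMulMatrix (Module.finBasisOfFinrankEq F K hK)).toMonoidHom

theorem ell_val (l : Kˣ) : ((ell K hK l : GG) : Matrix (Fin 2) (Fin 2) F) =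
    Algebra.leftMulMatrix (Module.finBasisOfFinrankEq F K hK) (l : K) := rfl

theorem ell_injective : Function.Injective (ell (F := F) K hK) := fun a b h =>
  Units.ext (Algebra.leftMulMatrix_injective (Module.finBasisOfFinrankEq F K hK)
    (congrArg Units.val h))

/-- The image of `F` in `K`. -/
noncomputable def emb : Fˣ →* Kˣ := Units.map (algebraMap F K).toMonoidHom

theorem emb_injective : Function.Injective (emb (F := F) K) := fun a b h =>
  Units.ext ((algebraMap F K).injective (congrArg Units.val h))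

theorem emb_val (z : Fˣ) : (emb (F := F) K z : K) = algebraMap F K z := rfl

theorem ell_emb (z : Fˣ) : ell K hK (emb (F := F) K z) = sc z := by
  refine Units.ext ?_
  rw [ell_val, emb_val, AlgHom.commutes, sc_val]
  ext i j
  fin_cases i <;> fin_cases j <;> simp [Matrix.algebraMap_matrix_apply]

/-- Cayley–Hamilton in `K`. -/
theorem root_ell (l : Kˣ) :
    (l : K) ^ 2 - algebraMap F K (tr (ell (F := F) K hK l)) * l +
      algebraMap F K (dt (ell (F := F) K hK l)) = 0 := by
  apply Algebra.leftMulMatrix_injective (Module.finBasisOfFinrankEq F K hK)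
  rw [map_zero, map_add, map_sub, map_pow, map_mul, AlgHom.commutes, AlgHom.commutes, ← ell_val,
    sq]
  ext i j
  fin_cases i <;> fin_cases j <;>
    simp [Matrix.mul_apply, Fin.sum_univ_two, Matrix.algebraMap_matrix_apply, tr, dt] <;> ring

theorem not_isSc_ell {l : Kˣ} (hl : l ∉ (emb (F := F) K).range) : ¬ IsSc (ell (F := F) K hK l) :=
  fun h => by
    obtain ⟨z, hz⟩ := eq_sc_of_isSc h
    rw [← ell_emb K hK z] at hz
    exact hl ⟨z, (ell_injective K hK hz).symm⟩

/-- An element outside `F` has no root of its characteristic polynomial in `F`. -/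
theorem no_root_ell {l : Kˣ} (hl : l ∉ (emb (F := F) K).range) (r : F) :
    r ^ 2 - tr (ell (F := F) K hK l) * r + dt (ell (F := F) K hK l) ≠ 0 := by
  intro h
  have hroot := root_ell K hK l
  have hr : algebraMap F K r ^ 2 - algebraMap F K (tr (ell (F := F) K hK l)) * algebraMap F K r +
      algebraMap F K (dt (ell (F := F) K hK l)) = 0 := by
    have := congrArg (algebraMap F K) h
    simpa using this
  have h2 : ((l : K) - algebraMap F K r) *
      ((l : K) - algebraMap F K (tr (ell (F := F) K hK l) - r)) = 0 := by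
    rw [map_sub]; linear_combination hroot - hr
  have key : ∀ s : F, (l : K) = algebraMap F K s → False := fun s hs => by
    rcases eq_or_ne s 0 with rfl | h0
    · exact l.ne_zero (by rw [hs, map_zero])
    · exact hl ⟨Units.mk0 s h0, Units.ext hs.symm⟩
  rcases mul_eq_zero.1 h2 with h3 | h3 <;> exact key _ (sub_eq_zero.1 h3)

variable [Fintype F]

include hK in
theorem card_K : Nat.card K = Fintype.card F ^ 2 := by
  rw [Module.natCard_eq_pow_finrank (K := F), hK, Nat.card_eq_fintype_card]

theorem frob_fix {l : K} : l ^ Fintype.card F = l ↔ ∃ c : F, l = algebraMap F K c := by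
  refine ⟨fun h => ?_, fun ⟨c, hc⟩ => by rw [hc, ← map_pow, FiniteField.pow_card]⟩
  classical
  by_contra hne
  have hp : (Polynomial.X ^ Fintype.card F - Polynomial.X : Polynomial K) ≠ 0 :=
    FiniteField.X_pow_card_sub_X_ne_zero K Fintype.one_lt_card
  have hsub : insert l (Finset.univ.image (algebraMap F K)) ⊆
      (Polynomial.X ^ Fintype.card F - Polynomial.X : Polynomial K).roots.toFinset := by
    intro y hy
    rw [Multiset.mem_toFinset, Polynomial.mem_roots hp]
    rcases Finset.mem_insert.1 hy with rfl | hy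
    · simp [h]
    · obtain ⟨c, -, rfl⟩ := Finset.mem_image.1 hy
      simp [← map_pow, FiniteField.pow_card]
  have hnm : l ∉ Finset.univ.image (algebraMap F K) := fun hm => by
    obtain ⟨c, -, hc⟩ := Finset.mem_image.1 hm
    exact hne ⟨c, hc.symm⟩
  have h1 := Finset.card_le_card hsub
  rw [Finset.card_insert_of_notMem hnm, Finset.card_image_of_injective _ (algebraMap F K).injective,
    Finset.card_univ] at h1
  have h2 := (Multiset.toFinset_card_le _).trans (Polynomial.card_roots'
    (Polynomial.X ^ Fintype.card F - Polynomial.X : Polynomial K))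
  rw [FiniteField.X_pow_card_sub_X_natDegree_eq K Fintype.one_lt_card] at h2
  omega

theorem pow_card_notMem {l : Kˣ} (hl : l ∉ (emb (F := F) K).range) :
    l ^ Fintype.card F ≠ l := fun h => by
  obtain ⟨c, hc⟩ := (frob_fix K (F := F)).1 (show (l : K) ^ Fintype.card F = l by
    rw [← Units.val_pow_eq_pow_val, h])
  rcases eq_or_ne c 0 with rfl | h0
  · exact l.ne_zero (by rw [hc, map_zero])
  · exact hl ⟨Units.mk0 c h0, Units.ext hc.symm⟩

theorem root_frob (l : Kˣ) :
    ((l : K) ^ Fintype.card F) ^ 2 -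
      algebraMap F K (tr (ell (F := F) K hK l)) * (l : K) ^ Fintype.card F +
      algebraMap F K (dt (ell (F := F) K hK l)) = 0 := by
  have h := congrArg (FiniteField.frobeniusAlgHom F K) (root_ell K hK l)
  simp only [map_add, map_sub, map_pow, map_mul, map_zero, AlgHom.commutes] at h
  rwa [FiniteField.coe_frobeniusAlgHom] at h

theorem tr_dt_ell {l : Kˣ} (hl : l ∉ (emb (F := F) K).range) :
    algebraMap F K (tr (ell (F := F) K hK l)) = (l : K) + (l : K) ^ Fintype.card F ∧
      algebraMap F K (dt (ell (F := F) K hK l)) = (l : K) * (l : K) ^ Fintype.card F := by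
  have h1 := root_ell K hK l
  have h2 := root_frob K hK l
  have hne : (l : K) - (l : K) ^ Fintype.card F ≠ 0 := sub_ne_zero.2 fun h => by
    exact pow_card_notMem K hl (Units.ext (by rw [Units.val_pow_eq_pow_val]; exact h.symm))
  have ht : algebraMap F K (tr (ell (F := F) K hK l)) = (l : K) + (l : K) ^ Fintype.card F := by
    refine mul_right_cancel₀ hne ?_
    linear_combination h2 - h1
  exact ⟨ht, by linear_combination h1 + (l : K) * ht⟩

theorem isConj_ell {l m : Kˣ} (hl : l ∉ (emb (F := F) K).range)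
    (hm : m ∉ (emb (F := F) K).range) :
    IsConj (ell (F := F) K hK l) (ell K hK m) ↔ m = l ∨ m = l ^ Fintype.card F := by
  rw [isConj_iff_tr_dt (not_isSc_ell K hK hl) (not_isSc_ell K hK hm)]
  refine ⟨fun ⟨h1, h2⟩ => ?_, fun h => ?_⟩
  · have hr := root_ell K hK m
    rw [← h1, ← h2, (tr_dt_ell K hK hl).1, (tr_dt_ell K hK hl).2] at hr
    have : ((m : K) - l) * ((m : K) - (l : K) ^ Fintype.card F) = 0 := by linear_combination hr
    rcases mul_eq_zero.1 this with h | h <;> rw [sub_eq_zero] at h
    · exact Or.inl (Units.ext h)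
    · exact Or.inr (Units.ext (by rw [h, Units.val_pow_eq_pow_val]))
  · rcases h with rfl | rfl
    · exact ⟨rfl, rfl⟩
    · have hq : ((l : K) ^ Fintype.card F) ^ Fintype.card F = (l : K) := by
        haveI : Finite K := Module.finite_of_finite F
        haveI := Fintype.ofFinite K
        rw [← pow_mul, ← sq, ← card_K K hK, Nat.card_eq_fintype_card, FiniteField.pow_card]
      constructor <;> refine (algebraMap F K).injective ?_
      · rw [(tr_dt_ell K hK hl).1, (tr_dt_ell K hK hm).1, Units.val_pow_eq_pow_val, hq, add_comm]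
      · rw [(tr_dt_ell K hK hl).2, (tr_dt_ell K hK hm).2, Units.val_pow_eq_pow_val, hq, mul_comm]

theorem not_isConj_di_ell {x y : Fˣ} (hxy : x ≠ y) {l : Kˣ} (hl : l ∉ (emb (F := F) K).range) :
    ¬ IsConj (di x y) (ell K hK l) := fun h => by
  obtain ⟨h1, h2⟩ := (isConj_iff_tr_dt (not_isSc_di hxy) (not_isSc_ell K hK hl)).1 h
  refine no_root_ell K hK hl (x : F) ?_
  rw [← h1, ← h2, tr_di, dt_di]; ring

theorem not_isConj_un_ell (z : Fˣ) {l : Kˣ} (hl : l ∉ (emb (F := F) K).range) :
    ¬ IsConj (un z) (ell K hK l) := fun h => by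
  obtain ⟨h1, h2⟩ := (isConj_iff_tr_dt (not_isSc_un z) (not_isSc_ell K hK hl)).1 h
  refine no_root_ell K hK hl (z : F) ?_
  rw [← h1, ← h2, tr_un, dt_un]; ring

theorem not_isConj_un_di (z : Fˣ) {x y : Fˣ} (hxy : x ≠ y) : ¬ IsConj (un z) (di x y) := fun h => by
  obtain ⟨h1, h2⟩ := (isConj_iff_tr_dt (not_isSc_un z) (not_isSc_di hxy)).1 h
  rw [tr_un, tr_di] at h1
  rw [dt_un, dt_di] at h2
  rcases root_pair h1.symm h2.symm with h | h <;>
    exact hxy (Units.ext (h.1.trans h.2.symm))

theorem isConj_un_un {z w : Fˣ} : IsConj (un z) (un w) ↔ z = w := by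
  refine ⟨fun h => ?_, fun h => h ▸ IsConj.refl _⟩
  obtain ⟨h1, h2⟩ := (isConj_iff_tr_dt (not_isSc_un z) (not_isSc_un w)).1 h
  rw [tr_un, tr_un] at h1
  rw [dt_un, dt_un] at h2
  exact un_inj h1 h2

theorem isConj_di_di {x y a b : Fˣ} (hxy : x ≠ y) (hab : a ≠ b) :
    IsConj (di x y) (di a b) ↔ (a = x ∧ b = y) ∨ (a = y ∧ b = x) := by
  rw [isConj_iff_tr_dt (not_isSc_di hxy) (not_isSc_di hab), tr_di, tr_di, dt_di, dt_di]
  refine ⟨fun ⟨h1, h2⟩ => ?_, ?_⟩
  · rcases root_pair h1.symm h2.symm with h | h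
    · exact Or.inl ⟨Units.ext h.1, Units.ext h.2⟩
    · exact Or.inr ⟨Units.ext h.1, Units.ext h.2⟩
  · rintro (⟨rfl, rfl⟩ | ⟨rfl, rfl⟩)
    · exact ⟨rfl, rfl⟩
    · exact ⟨add_comm _ _, mul_comm _ _⟩

/-- The four types. -/
theorem cases (g : GG) :
    (∃ z, g = sc z) ∨ (∃ z, IsConj (un z) g) ∨ (∃ x y, x ≠ y ∧ IsConj (di x y) g) ∨
      ∃ l : Kˣ, l ∉ (emb (F := F) K).range ∧ IsConj (ell K hK l) g := by
  by_cases hs : IsSc g
  · exact Or.inl (eq_sc_of_isSc hs)
  by_cases hr : ∃ r : F, r ^ 2 - tr g * r + dt g = 0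
  · obtain ⟨r, hr⟩ := hr
    have h0 : r ≠ 0 := fun h => dt_ne_zero g (by simpa [h] using hr)
    have h0' : tr g - r ≠ 0 := fun h => dt_ne_zero g (by linear_combination hr + r * h)
    by_cases he : r = tr g - r
    · refine Or.inr (Or.inl ⟨Units.mk0 r h0, (isConj_iff_tr_dt (not_isSc_un _) hs).2 ?_⟩)
      rw [tr_un, dt_un, Units.val_mk0]
      exact ⟨by linear_combination he, by linear_combination r * he - hr⟩
    · refine Or.inr (Or.inr (Or.inl ⟨Units.mk0 r h0, Units.mk0 _ h0', fun h => he
        (congrArg Units.val h), (isConj_iff_tr_dt (not_isSc_di fun h => he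
        (congrArg Units.val h)) hs).2 ?_⟩))
      rw [tr_di, dt_di, Units.val_mk0, Units.val_mk0]
      exact ⟨by ring, by linear_combination -hr⟩
  · push Not at hr
    obtain ⟨p, hchar⟩ := CharP.exists F
    haveI := hchar
    haveI : Fact p.Prime := ⟨CharP.char_is_prime F p⟩
    set f : Polynomial F := Polynomial.C 1 * Polynomial.X ^ 2 + Polynomial.C (-tr g) * Polynomial.X +
      Polynomial.C (dt g) with hf
    have hdeg : f.natDegree = 2 := Polynomial.natDegree_quadratic one_ne_zero
    have hirr : Irreducible f := by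
      refine (Polynomial.irreducible_iff_roots_eq_zero_of_degree_le_three (by omega) (by omega)).2
        (Multiset.eq_zero_of_forall_notMem fun r hr' => ?_)
      rw [Polynomial.mem_roots (fun h => by rw [h] at hdeg; simp at hdeg)] at hr'
      refine hr r ?_
      rw [Polynomial.IsRoot, hf] at hr'
      simpa [sub_eq_add_neg, add_assoc] using hr'
    haveI := Fact.mk hirr
    have hfr : Module.finrank F (AdjoinRoot f) = 2 := by
      rw [(AdjoinRoot.powerBasis hirr.ne_zero).finrank, AdjoinRoot.powerBasis_dim, hdeg]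
    let e : AdjoinRoot f ≃ₐ[F] K := (FiniteField.algEquivExtension F p 2 (AdjoinRoot f) hfr).trans
      (FiniteField.algEquivExtension F p 2 K hK).symm
    set lam : K := e (AdjoinRoot.root f) with hlam
    have hroot : lam ^ 2 - algebraMap F K (tr g) * lam + algebraMap F K (dt g) = 0 := by
      have h1 : Polynomial.aeval (AdjoinRoot.root f) f = 0 := by
        rw [AdjoinRoot.aeval_eq, AdjoinRoot.mk_self]
      have h2 := congrArg e h1
      rw [map_zero, ← Polynomial.aeval_algHom_apply, ← hlam, hf] at h2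
      simpa [sub_eq_add_neg, add_assoc] using h2
    have hlF : ∀ c : F, lam ≠ algebraMap F K c := fun c hc => by
      refine hr c ((algebraMap F K).injective ?_)
      rw [hc] at hroot
      simpa using hroot
    have hl0 : lam ≠ 0 := fun h => hlF 0 (by rw [h, map_zero])
    set l : Kˣ := Units.mk0 lam hl0 with hldef
    have hl : l ∉ (emb (F := F) K).range := fun ⟨z, hz⟩ =>
      hlF z (congrArg Units.val hz).symm
    refine Or.inr (Or.inr (Or.inr ⟨l, hl, (isConj_iff_tr_dt (not_isSc_ell K hK hl) hs).2 ?_⟩))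
    have h1 := root_ell K hK l
    rw [show (l : K) = lam from rfl] at h1
    have ht : tr (ell (F := F) K hK l) = tr g := by
      by_contra hne
      refine hlF ((dt (ell (F := F) K hK l) - dt g) / (tr (ell (F := F) K hK l) - tr g)) ?_
      rw [map_div₀, eq_div_iff (by rw [Ne, map_eq_zero]; exact sub_ne_zero.2 hne), map_sub, map_sub]
      linear_combination hroot - h1
    refine ⟨ht, (algebraMap F K).injective ?_⟩
    rw [ht] at h1
    linear_combination h1 - hroot

/-! ### centralizers -/

theorem card_centralizer_un (z : Fˣ) :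
    Nat.card (Subgroup.centralizer ({(un z : GG)} : Set GG)) =
      Fintype.card F * (Fintype.card F - 1) := by
  classical
  let e : Subgroup.centralizer ({(un z : GG)} : Set GG) ≃ F × Fˣ :=
    { toFun := fun g => (((g : GG) : Matrix (Fin 2) (Fin 2) F) 0 1,
        Units.mk0 (((g : GG) : Matrix (Fin 2) (Fin 2) F) 0 0) fun h0 => by
          have h := congrArg Units.val (Subgroup.mem_centralizer_singleton_iff.1 g.2)
          rw [GeneralLinearGroup.coe_mul, GeneralLinearGroup.coe_mul, ← Matrix.ext_iff] at h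
          have h1 := h 0 0
          simp [Matrix.mul_apply, Fin.sum_univ_two, mul_comm] at h1
          exact dt_ne_zero (g : GG) (by simp [dt, h0, h1]))
      invFun := fun ab => ⟨mk !![(ab.2 : F), ab.1; 0, (ab.2 : F)] (by simp [det_fin_two]),
        Subgroup.mem_centralizer_singleton_iff.2 (Units.ext (Matrix.ext fun i j => by
          simp only [GeneralLinearGroup.coe_mul, mk_val, un_val]
          fin_cases i <;> fin_cases j <;> simp [Matrix.mul_apply, Fin.sum_univ_two, mul_comm] <;>
            ring))⟩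
      left_inv := fun g => by
        have h := congrArg Units.val (Subgroup.mem_centralizer_singleton_iff.1 g.2)
        rw [GeneralLinearGroup.coe_mul, GeneralLinearGroup.coe_mul, ← Matrix.ext_iff] at h
        have h1 := h 0 0
        have h2 := h 0 1
        simp [Matrix.mul_apply, Fin.sum_univ_two, mul_comm] at h1 h2
        have h3 : ((g : GG) : Matrix (Fin 2) (Fin 2) F) 0 0 =
            ((g : GG) : Matrix (Fin 2) (Fin 2) F) 1 1 := by linear_combination h2
        refine Subtype.ext (Units.ext (Matrix.ext fun i j => ?_))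
        fin_cases i <;> fin_cases j <;> simp [h1, h3]
      right_inv := fun ab => by
        refine Prod.ext ?_ (Units.ext ?_) <;> simp }
  rw [Nat.card_congr e, Nat.card_prod, Nat.card_eq_fintype_card, Nat.card_units,
    Nat.card_eq_fintype_card]

theorem card_centralizer_di {x y : Fˣ} (hxy : x ≠ y) :
    Nat.card (Subgroup.centralizer ({(di x y : GG)} : Set GG)) = (Fintype.card F - 1) ^ 2 := by
  classical
  have hd : ∀ g : Subgroup.centralizer ({(di x y : GG)} : Set GG),
      ((g : GG) : Matrix (Fin 2) (Fin 2) F) 0 1 = 0 ∧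
        ((g : GG) : Matrix (Fin 2) (Fin 2) F) 1 0 = 0 := fun g => by
    have h := congrArg Units.val (Subgroup.mem_centralizer_singleton_iff.1 g.2)
    rw [GeneralLinearGroup.coe_mul, GeneralLinearGroup.coe_mul, ← Matrix.ext_iff] at h
    have h1 := h 0 1
    have h2 := h 1 0
    simp [Matrix.mul_apply, Fin.sum_univ_two] at h1 h2
    have hne : (x : F) - (y : F) ≠ 0 := sub_ne_zero.2 fun h => hxy (Units.ext h)
    exact ⟨(mul_eq_zero.1 (show ((x : F) - y) * ((g : GG) : Matrix (Fin 2) (Fin 2) F) 0 1 = 0 by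
        linear_combination -h1)).resolve_left hne,
      (mul_eq_zero.1 (show ((x : F) - y) * ((g : GG) : Matrix (Fin 2) (Fin 2) F) 1 0 = 0 by
        linear_combination h2)).resolve_left hne⟩
  let e : Subgroup.centralizer ({(di x y : GG)} : Set GG) ≃ Fˣ × Fˣ :=
    { toFun := fun g => (Units.mk0 (((g : GG) : Matrix (Fin 2) (Fin 2) F) 0 0) fun h0 =>
          dt_ne_zero (g : GG) (by simp [dt, h0, (hd g).1]),
        Units.mk0 (((g : GG) : Matrix (Fin 2) (Fin 2) F) 1 1) fun h0 =>
          dt_ne_zero (g : GG) (by simp [dt, h0, (hd g).1]))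
      invFun := fun ab => ⟨di ab.1 ab.2,
        Subgroup.mem_centralizer_singleton_iff.2 (Units.ext (Matrix.ext fun i j => by
          simp only [GeneralLinearGroup.coe_mul, di_val]
          fin_cases i <;> fin_cases j <;> simp [Matrix.mul_apply, Fin.sum_univ_two, mul_comm]))⟩
      left_inv := fun g => by
        refine Subtype.ext (Units.ext (Matrix.ext fun i j => ?_))
        fin_cases i <;> fin_cases j <;> simp [(hd g).1, (hd g).2]
      right_inv := fun ab => by
        refine Prod.ext (Units.ext ?_) (Units.ext ?_) <;> simp }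
  rw [Nat.card_congr e, Nat.card_prod, Nat.card_units, Nat.card_eq_fintype_card, sq]

theorem mem_centralizer_ell {l : Kˣ} (hl : l ∉ (emb (F := F) K).range) (g : GG) :
    g ∈ Subgroup.centralizer ({ell (F := F) K hK l} : Set GG) ↔ ∃ m, ell K hK m = g := by
  refine ⟨fun hg => ?_, ?_⟩
  · haveI : Finite K := Module.finite_of_finite F
    have hg' : (g : Matrix (Fin 2) (Fin 2) F) *
        Algebra.leftMulMatrix (Module.finBasisOfFinrankEq F K hK) (l : K) =
        Algebra.leftMulMatrix (Module.finBasisOfFinrankEq F K hK) (l : K) * g :=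
      congrArg Units.val (Subgroup.mem_centralizer_singleton_iff.1 hg)
    set b := Module.finBasisOfFinrankEq F K hK
    let T : K →ₗ[F] K := Matrix.toLin b b (g : Matrix (Fin 2) (Fin 2) F)
    have hTl : ∀ v, T ((l : K) * v) = (l : K) * T v := fun v => by
      have h1 : T.comp (Algebra.lmul F K (l : K)) = (Algebra.lmul F K (l : K)).comp T := by
        refine (LinearMap.toMatrix b b).injective ?_
        rw [LinearMap.toMatrix_comp b b b, LinearMap.toMatrix_comp b b b,
          ← Algebra.leftMulMatrix_apply, LinearMap.toMatrix_toLin]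
        exact hg'
      exact LinearMap.congr_fun h1 v
    have hspan : ∀ v : K, ∃ a c : F, v = algebraMap F K a + algebraMap F K c * (l : K) := by
      have hli : LinearIndependent F ![(1 : K), (l : K)] := by
        rw [LinearIndependent.pair_iff]
        intro s t hst
        rw [Algebra.smul_def, Algebra.smul_def, mul_one] at hst
        by_cases ht : t = 0
        · subst ht
          exact ⟨(algebraMap F K).injective (by simpa using hst), rfl⟩
        · exfalso
          have hl' : (l : K) = algebraMap F K (-s / t) := by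
            rw [map_div₀, eq_div_iff (by rwa [Ne, map_eq_zero]), map_neg]
            linear_combination hst
          exact hl ⟨Units.mk0 (-s / t) (fun h => l.ne_zero (by rw [hl', h, map_zero])),
            Units.ext hl'.symm⟩
      intro v
      have htop := hli.span_eq_top_of_card_eq_finrank (by simp [hK])
      have hv : v ∈ Submodule.span F (Set.range ![(1 : K), (l : K)]) := htop ▸ Submodule.mem_top
      rw [Matrix.range_cons, Matrix.range_cons, Matrix.range_empty, Set.union_empty,
        Set.singleton_union, Submodule.mem_span_pair] at hv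
      obtain ⟨a, c, rfl⟩ := hv
      exact ⟨a, c, by rw [Algebra.smul_def, Algebra.smul_def, mul_one]⟩
    have hT : ∀ v, T v = T 1 * v := by
      intro v
      obtain ⟨a, c, rfl⟩ := hspan v
      have e1 : algebraMap F K a + algebraMap F K c * (l : K) = a • (1 : K) + c • ((l : K) * 1) := by
        rw [Algebra.smul_def, Algebra.smul_def, mul_one, mul_one]
      conv_lhs => rw [e1, map_add, map_smul, map_smul, hTl, Algebra.smul_def, Algebra.smul_def]
      ring
    have hlm : Algebra.leftMulMatrix b (T 1) = (g : Matrix (Fin 2) (Fin 2) F) := by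
      rw [Algebra.leftMulMatrix_apply, show Algebra.lmul F K (T 1) = T from
        LinearMap.ext fun v => (hT v).symm, LinearMap.toMatrix_toLin]
    have hT0 : T 1 ≠ 0 := fun h0 => by
      rw [h0, map_zero] at hlm
      exact dt_ne_zero g (by rw [dt_eq_det, ← hlm, Matrix.det_zero])
    exact ⟨Units.mk0 _ hT0, Units.ext hlm⟩
  · rintro ⟨m, rfl⟩
    rw [Subgroup.mem_centralizer_singleton_iff, ← map_mul, ← map_mul, mul_comm]

theorem card_centralizer_ell {l : Kˣ} (hl : l ∉ (emb (F := F) K).range) :
    Nat.card (Subgroup.centralizer ({ell (F := F) K hK l} : Set GG)) = Fintype.card F ^ 2 - 1 := by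
  have h : Subgroup.centralizer ({ell (F := F) K hK l} : Set GG) = (ell (F := F) K hK).range :=
    Subgroup.ext fun g => mem_centralizer_ell K hK hl g
  rw [h, Nat.card_congr (MonoidHom.ofInjective (ell_injective K hK)).toEquiv.symm, Nat.card_units,
    card_K K hK]

theorem card_conj (r : GG) :
    Nat.card {g : GG // IsConj r g} *
      Nat.card (Subgroup.centralizer ({r} : Set GG)) = Nat.card GG := by
  have h1 := Subgroup.card_eq_card_quotient_mul_card_subgroup (Subgroup.centralizer ({r} : Set GG))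
  rw [h1]
  congr 1
  have e : MulAction.stabilizer (ConjAct GG) r =
      (Subgroup.centralizer ({r} : Set GG)).map (ConjAct.toConjAct : GG ≃* ConjAct GG).toMonoidHom := by
    ext x
    rw [MulAction.mem_stabilizer_iff, ConjAct.smul_def, mul_inv_eq_iff_eq_mul, Subgroup.mem_map]
    refine ⟨fun h => ⟨ConjAct.ofConjAct x, Subgroup.mem_centralizer_singleton_iff.2 h, rfl⟩, ?_⟩
    rintro ⟨y, hy, rfl⟩
    exact Subgroup.mem_centralizer_singleton_iff.1 hy
  have h2 := MulAction.index_stabilizer (ConjAct GG) r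
  rw [e, Subgroup.index_map_of_bijective (f := (ConjAct.toConjAct : GG ≃* ConjAct GG).toMonoidHom)
    (MulEquiv.bijective _), Subgroup.index_eq_card] at h2
  rw [h2, ← Nat.card_coe_set_eq]
  refine Nat.card_congr (Equiv.subtypeEquivRight fun g => ?_)
  rw [MulAction.mem_orbit_iff, isConj_iff]
  exact ⟨fun ⟨c, hc⟩ => ⟨ConjAct.toConjAct c, by simpa [ConjAct.smul_def] using hc⟩,
    fun ⟨c, hc⟩ => ⟨ConjAct.ofConjAct c, by rw [← ConjAct.smul_def]; exact hc⟩⟩

end Cfsg.Agent.Block.SL2Char
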