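import Mathlib
import Cfsg.Agent.Lib.Block.SL2Char.Classes
import Cfsg.Prelude.Def_Characters

/-!
The sum of a class function of `GL(2, F)` over the group, and over `SL(2, F)`, by representatives.
-/

set_option linter.unusedSectionVars false

namespace Cfsg.Agent.Block.SL2Char

open Matrix Finset

universe u v

variable {F : Type u} [Field F] [Fintype F] [DecidableEq F]

local notation "GG" => GL (Fin 2) F

theorem card_GG :
    (Nat.card GG : ℂ) = ((Fintype.card F : ℂ) ^ 2 - 1) * ((Fintype.card F : ℂ) ^ 2 - Fintype.card F) := by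
  have h : Nat.card GG = (Fintype.card F ^ 2 - 1) * (Fintype.card F ^ 2 - Fintype.card F) := by
    rw [Matrix.card_GL_field]
    simp [Fin.prod_univ_two]
  rw [h, Nat.cast_mul, Nat.cast_sub (Nat.one_le_pow 2 _ Fintype.card_pos), Nat.cast_sub
    (Nat.le_self_pow two_ne_zero _)]
  push_cast
  ring

theorem one_lt_cardF : (1 : ℝ) < Fintype.card F := by exact_mod_cast Fintype.one_lt_card

theorem cardF_cast_ne : (Fintype.card F : ℂ) ≠ 0 ∧ (Fintype.card F : ℂ) - 1 ≠ 0 ∧
    (Fintype.card F : ℂ) + 1 ≠ 0 := by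
  refine ⟨Nat.cast_ne_zero.2 Fintype.card_ne_zero, sub_ne_zero.2 ?_, ?_⟩
  · rw [Ne, Nat.cast_eq_one]; exact Fintype.one_lt_card.ne'
  · exact_mod_cast Nat.succ_ne_zero (Fintype.card F)

theorem card_units_cast : (Fintype.card Fˣ : ℂ) = (Fintype.card F : ℂ) - 1 := by
  rw [Fintype.card_units, Nat.cast_sub Fintype.card_pos, Nat.cast_one]

theorem classSize_un (z : Fˣ) :
    (Nat.card {g : GG // IsConj (un z) g} : ℂ) = (Fintype.card F : ℂ) ^ 2 - 1 := by
  have h := congrArg (Nat.cast (R := ℂ)) (card_conj (un z))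
  rw [card_centralizer_un, Nat.cast_mul, Nat.cast_mul, Nat.cast_sub Fintype.card_pos, card_GG,
    Nat.cast_one] at h
  refine mul_right_cancel₀ (mul_ne_zero (cardF_cast_ne (F := F)).1 (cardF_cast_ne (F := F)).2.1)
    (h.trans ?_)
  ring

theorem classSize_di {x y : Fˣ} (hxy : x ≠ y) :
    (Nat.card {g : GG // IsConj (di x y) g} : ℂ) =
      (Fintype.card F : ℂ) * ((Fintype.card F : ℂ) + 1) := by
  have h := congrArg (Nat.cast (R := ℂ)) (card_conj (di x y))
  rw [card_centralizer_di hxy, Nat.cast_mul, Nat.cast_pow, Nat.cast_sub Fintype.card_pos, card_GG,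
    Nat.cast_one] at h
  refine mul_right_cancel₀ (pow_ne_zero 2 (cardF_cast_ne (F := F)).2.1) (h.trans ?_)
  ring

variable (K : Type v) [Field K] [Algebra F K] [Fintype K] [DecidableEq K]
  (hK : Module.finrank F K = 2)

theorem classSize_ell {l : Kˣ} (hl : l ∉ (emb (F := F) K).range)
    :
    (Nat.card {g : GG // IsConj (ell (F := F) K hK l) g} : ℂ) =
      (Fintype.card F : ℂ) * ((Fintype.card F : ℂ) - 1) := by
  have h := congrArg (Nat.cast (R := ℂ)) (card_conj (ell (F := F) K hK l))
  rw [card_centralizer_ell K hK hl, Nat.cast_mul,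
    Nat.cast_sub (Nat.one_le_pow 2 _ Fintype.card_pos), Nat.cast_pow, card_GG, Nat.cast_one] at h
  refine mul_right_cancel₀ ?_ (h.trans ?_) (b := ((Fintype.card F : ℂ) ^ 2 - 1))
  · rw [show (Fintype.card F : ℂ) ^ 2 - 1 =
      ((Fintype.card F : ℂ) - 1) * ((Fintype.card F : ℂ) + 1) by ring]
    exact mul_ne_zero (cardF_cast_ne (F := F)).2.1 (cardF_cast_ne (F := F)).2.2
  · ring

/-- The elements of `Kˣ` outside `F`. -/
noncomputable def outF : Finset Kˣ :=
  haveI := Classical.decPred fun l : Kˣ => l ∉ (emb (F := F) K).range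
  univ.filter fun l => l ∉ (emb (F := F) K).range

theorem mem_outF {l : Kˣ} : l ∈ outF (F := F) K ↔ l ∉ (emb (F := F) K).range := by
  simp [outF]

/-- Pairs of distinct units. -/
noncomputable def offDi : Finset (Fˣ × Fˣ) := univ.filter fun p => p.1 ≠ p.2

theorem mem_offDi {p : Fˣ × Fˣ} : p ∈ offDi (F := F) ↔ p.1 ≠ p.2 := by simp [offDi]

/-- Class functions of `GL(2, F)` are determined on the representatives. -/
theorem classFun_ext {f h : GG → ℂ} (hf : IsClassFunction GG f) (hh : IsClassFunction GG h)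
    (h1 : ∀ z, f (sc z) = h (sc z)) (h2 : ∀ z, f (un z) = h (un z))
    (h3 : ∀ x y, x ≠ y → f (di x y) = h (di x y))
    (h4 : ∀ l, l ∉ (emb (F := F) K).range → f (ell K hK l) = h (ell K hK l)) : f = h := by
  funext g
  have key : ∀ r, IsConj r g → f r = h r → f g = h g := fun r hr e => by
    obtain ⟨c, rfl⟩ := isConj_iff.1 hr
    rw [hf, hh, e]
  rcases cases K hK g with ⟨z, rfl⟩ | ⟨z, hz⟩ | ⟨x, y, hxy, hz⟩ | ⟨l, hl, hz⟩
  · exact h1 z
  · exact key _ hz (h2 z)
  · exact key _ hz (h3 x y hxy)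
  · exact key _ hz (h4 l hl)

theorem weight (g : GG) [DecidableRel (fun a b : GG => IsConj a b)] :
    (∑ z : Fˣ, if sc z = g then (1 : ℂ) else 0) + (∑ z : Fˣ, if IsConj (un z) g then (1 : ℂ) else 0) +
      (1 / 2 : ℂ) * (∑ p ∈ offDi (F := F), if IsConj (di p.1 p.2) g then (1 : ℂ) else 0) +
      (1 / 2 : ℂ) * (∑ l ∈ outF (F := F) K, if IsConj (ell (F := F) K hK l) g then (1 : ℂ) else 0) = 1 := by
  have hsc : ∀ r, ¬ IsSc r → IsConj r g → (∑ z : Fˣ, if sc z = g then (1 : ℂ) else 0) = 0 :=
    fun r hr hrg => sum_eq_zero fun z _ => if_neg fun e => hr (by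
      obtain rfl := isConj_sc.1 (e ▸ hrg.symm : IsConj (sc z) r)
      exact isSc_sc z)
  rcases cases K hK g with ⟨w, rfl⟩ | ⟨w, hw⟩ | ⟨a, b, hab, hw⟩ | ⟨m, hm, hw⟩
  · have h1 : (∑ z : Fˣ, if sc z = sc w then (1 : ℂ) else 0) = 1 := by
      rw [sum_eq_single w]
      · simp
      · intro z _ hz
        rw [if_neg fun e => hz (Units.ext (by
          simpa using congrArg (fun g : GG => (g : Matrix (Fin 2) (Fin 2) F) 0 0) e))]
      · simp
    rw [h1, sum_eq_zero, sum_eq_zero, sum_eq_zero]
    · ring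
    · exact fun l hl => if_neg fun (e : IsConj _ (sc w)) => not_isSc_ell K hK ((mem_outF K).1 hl)
        (by rw [isConj_sc.1 e.symm]; exact isSc_sc w)
    · exact fun p hp => if_neg fun (e : IsConj _ (sc w)) => not_isSc_di (mem_offDi.1 hp)
        (by rw [isConj_sc.1 e.symm]; exact isSc_sc w)
    · exact fun z _ => if_neg fun (e : IsConj _ (sc w)) => not_isSc_un z
        (by rw [isConj_sc.1 e.symm]; exact isSc_sc w)
  · rw [hsc _ (not_isSc_un w) hw, sum_eq_single w, if_pos hw, sum_eq_zero, sum_eq_zero]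
    · ring
    · exact fun l hl => if_neg fun e => not_isConj_un_ell K hK w ((mem_outF K).1 hl)
        (hw.trans e.symm)
    · exact fun p hp => if_neg fun e => not_isConj_un_di w (mem_offDi.1 hp) (hw.trans e.symm)
    · exact fun z _ hz => if_neg fun e => hz (isConj_un_un.1 (e.trans hw.symm))
    · simp
  · have h3 : (∑ p ∈ offDi (F := F), if IsConj (di p.1 p.2) g then (1 : ℂ) else 0) = 2 := by
      have hset : (offDi (F := F)).filter (fun p => IsConj (di p.1 p.2) g) = {(a, b), (b, a)} := by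
        ext p
        simp only [mem_filter, mem_offDi, mem_insert, mem_singleton, Prod.ext_iff]
        refine ⟨fun ⟨hp, e⟩ => (isConj_di_di hab hp).1 (hw.trans e.symm), fun h => ?_⟩
        have hp : p.1 ≠ p.2 := by
          rcases h with ⟨h1, h2⟩ | ⟨h1, h2⟩ <;> rw [h1, h2]
          exacts [hab, hab.symm]
        exact ⟨hp, ((isConj_di_di hab hp).2 h).symm.trans hw⟩
      rw [← sum_filter, hset, sum_pair fun e => hab (congrArg Prod.fst e)]
      norm_num
    rw [hsc _ (not_isSc_di hab) hw, h3, sum_eq_zero, sum_eq_zero]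
    · ring
    · exact fun l hl => if_neg fun e => not_isConj_di_ell K hK hab ((mem_outF K).1 hl)
        (hw.trans e.symm)
    · exact fun z _ => if_neg fun e => not_isConj_un_di z hab (e.trans hw.symm)
  · have h4 : (∑ l ∈ outF (F := F) K, if IsConj (ell (F := F) K hK l) g then (1 : ℂ) else 0) = 2 := by
      have hmq : m ^ Fintype.card F ∉ (emb (F := F) K).range := by
        rintro ⟨z, hz⟩
        refine hm ⟨z, ?_⟩
        have hmm : (m ^ Fintype.card F) ^ Fintype.card F = m := by
          rw [← pow_mul, ← sq]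
          refine Units.ext ?_
          rw [Units.val_pow_eq_pow_val, ← card_K K hK, Nat.card_eq_fintype_card,
            FiniteField.pow_card]
        rw [← hz, ← map_pow] at hmm
        rw [← hmm]
        congr 1
        exact Units.ext (by rw [Units.val_pow_eq_pow_val, FiniteField.pow_card])
      have hset : (outF (F := F) K).filter (fun l => IsConj (ell (F := F) K hK l) g) =
          {m, m ^ Fintype.card F} := by
        ext l
        simp only [mem_filter, mem_outF, mem_insert, mem_singleton]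
        refine ⟨fun ⟨hl, e⟩ => (isConj_ell K hK hm hl).1 (hw.trans e.symm), fun h => ?_⟩
        have hl : l ∉ (emb (F := F) K).range := by
          rcases h with rfl | rfl
          exacts [hm, hmq]
        exact ⟨hl, ((isConj_ell K hK hm hl).2 h).symm.trans hw⟩
      rw [← sum_filter, hset, sum_pair (pow_card_notMem K hm).symm]
      norm_num
    rw [hsc _ (not_isSc_ell K hK hm) hw, h4, sum_eq_zero, sum_eq_zero]
    · ring
    · exact fun p hp => if_neg fun e => not_isConj_di_ell K hK (mem_offDi.1 hp) hm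
        (e.trans hw.symm)
    · exact fun z _ => if_neg fun e => not_isConj_un_ell K hK z hm (e.trans hw.symm)

/-- Summation of a class function over `GL(2, F)`. -/
theorem sum_GG {f : GG → ℂ} (hf : IsClassFunction GG f) :
    ∑ g : GG, f g = ∑ z : Fˣ, f (sc z) +
      ((Fintype.card F : ℂ) ^ 2 - 1) * ∑ z : Fˣ, f (un z) +
      (Fintype.card F : ℂ) * ((Fintype.card F : ℂ) + 1) / 2 *
        ∑ p ∈ offDi (F := F), f (di p.1 p.2) +
      (Fintype.card F : ℂ) * ((Fintype.card F : ℂ) - 1) / 2 *
        ∑ l ∈ outF (F := F) K, f (ell (F := F) K hK l) := by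
  classical
  have hcl : ∀ (r : GG) (S : ℂ), (Nat.card {g : GG // IsConj r g} : ℂ) = S →
      ∑ g : GG, f g * (if IsConj r g then (1 : ℂ) else 0) = S * f r := by
    intro r S hS
    simp only [mul_ite, mul_one, mul_zero]
    rw [← sum_filter, sum_congr rfl (fun g hg => (show f g = f r by
      obtain ⟨c, rfl⟩ := isConj_iff.1 (mem_filter.1 hg).2
      exact hf _ _)), sum_const, nsmul_eq_mul, ← hS, Nat.card_eq_fintype_card,
      Fintype.card_subtype]
  calc ∑ g : GG, f g = ∑ g : GG, f g * ((∑ z : Fˣ, if sc z = g then (1 : ℂ) else 0) +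
        (∑ z : Fˣ, if IsConj (un z) g then (1 : ℂ) else 0) +
        (1 / 2 : ℂ) * (∑ p ∈ offDi (F := F), if IsConj (di p.1 p.2) g then (1 : ℂ) else 0) +
        (1 / 2 : ℂ) * (∑ l ∈ outF (F := F) K, if IsConj (ell (F := F) K hK l) g then (1 : ℂ) else 0)) :=
        sum_congr rfl fun g _ => by rw [weight K hK g, mul_one]
    _ = (∑ z : Fˣ, ∑ g : GG, f g * if sc z = g then (1 : ℂ) else 0) +
        (∑ z : Fˣ, ∑ g : GG, f g * if IsConj (un z) g then (1 : ℂ) else 0) +
        (1 / 2 : ℂ) * (∑ p ∈ offDi (F := F), ∑ g : GG, f g * if IsConj (di p.1 p.2) g then (1 : ℂ) else 0) +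
        (1 / 2 : ℂ) * (∑ l ∈ outF (F := F) K, ∑ g : GG,
          f g * if IsConj (ell (F := F) K hK l) g then (1 : ℂ) else 0) := by
        simp only [mul_add, sum_add_distrib, mul_left_comm (f _) (1 / 2 : ℂ), ← Finset.mul_sum]
        simp only [Finset.mul_sum]
        rw [sum_comm (t := (univ : Finset Fˣ)), sum_comm (t := (univ : Finset Fˣ)),
          sum_comm (t := offDi (F := F)), sum_comm (t := outF (F := F) K)]
    _ = _ := by
        rw [sum_congr rfl (fun z _ => hcl (un z) _ (classSize_un z)),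
          sum_congr rfl (fun p hp => hcl (di p.1 p.2) _ (classSize_di (mem_offDi.1 hp))),
          sum_congr rfl (fun l hl => hcl (ell (F := F) K hK l) _
            (classSize_ell K hK ((mem_outF K).1 hl)))]
        simp only [mul_ite, mul_one, mul_zero, sum_ite_eq, mem_univ, if_true, ← Finset.mul_sum]
        ring

local notation "SS" => Matrix.SpecialLinearGroup (Fin 2) F

theorem dt_toGL (s : SS) : dt (SpecialLinearGroup.toGL s : GG) = 1 := by
  rw [dt_eq_det]; exact s.2

theorem sum_SS (f : GG → ℂ) :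
    ∑ s : SS, f (SpecialLinearGroup.toGL s) = ∑ g : GG, if dt g = 1 then f g else 0 := by
  rw [← sum_filter]
  refine sum_bij (fun s _ => SpecialLinearGroup.toGL s) (fun s _ => by simp [dt_toGL])
    (fun a _ b _ h => SpecialLinearGroup.toGL_injective h) (fun g hg => ?_) fun _ _ => rfl
  exact ⟨⟨(g : Matrix (Fin 2) (Fin 2) F), (dt_eq_det g).symm.trans (mem_filter.1 hg).2⟩,
    mem_univ _, Units.ext rfl⟩

theorem card_SS :
    (Nat.card SS : ℂ) = (Fintype.card F : ℂ) * ((Fintype.card F : ℂ) ^ 2 - 1) := by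
  have hs : Function.Surjective (Matrix.GeneralLinearGroup.det : GG →* Fˣ) := fun x =>
    ⟨di x 1, Units.ext (by simp [det_fin_two])⟩
  have h := Subgroup.card_mul_index (Matrix.GeneralLinearGroup.det : GG →* Fˣ).ker
  rw [Subgroup.index_ker, MonoidHom.range_eq_top.2 hs, Subgroup.card_top] at h
  have e : Nat.card SS = Nat.card (Matrix.GeneralLinearGroup.det : GG →* Fˣ).ker :=
    Nat.card_congr
      { toFun := fun s => ⟨SpecialLinearGroup.toGL s, MonoidHom.mem_ker.2 (Units.ext s.2)⟩
        invFun := fun g => ⟨((g : GG) : Matrix (Fin 2) (Fin 2) F),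
          congrArg Units.val (MonoidHom.mem_ker.1 g.2)⟩
        left_inv := fun s => rfl
        right_inv := fun g => Subtype.ext (Units.ext rfl) }
  have h' := congrArg (Nat.cast (R := ℂ)) h
  rw [← e, Nat.cast_mul, card_GG, Nat.card_eq_fintype_card (α := Fˣ), card_units_cast] at h'
  refine mul_right_cancel₀ (cardF_cast_ne (F := F)).2.1 (h'.trans ?_)
  ring

/-- Summation over `SL(2, F)` of a class function of `GL(2, F)`. -/
theorem sum_SS_eq {f : GG → ℂ} (hf : IsClassFunction GG f) :
    ∑ s : SS, f (SpecialLinearGroup.toGL s) =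
      ∑ z ∈ (univ : Finset Fˣ).filter (fun z => z * z = 1), f (sc z) +
      ((Fintype.card F : ℂ) ^ 2 - 1) *
        ∑ z ∈ (univ : Finset Fˣ).filter (fun z => z * z = 1), f (un z) +
      (Fintype.card F : ℂ) * ((Fintype.card F : ℂ) + 1) / 2 *
        ∑ x ∈ (univ : Finset Fˣ).filter (fun x => x ≠ x⁻¹), f (di x x⁻¹) +
      (Fintype.card F : ℂ) * ((Fintype.card F : ℂ) - 1) / 2 *
        ∑ l ∈ (outF (F := F) K).filter (fun l => l ^ (Fintype.card F + 1) = 1),
          f (ell (F := F) K hK l) := by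
  have hu : ∀ z : Fˣ, ((z : F) * z = 1) ↔ z * z = 1 := fun z => by
    rw [Units.ext_iff, Units.val_mul, Units.val_one]
  rw [sum_SS, sum_GG K hK (f := fun g => if dt g = 1 then f g else 0)
    (fun g h => by simp only [dt_conj, hf g h])]
  congr 1
  congr 1
  congr 1
  · rw [sum_filter]; exact sum_congr rfl fun z _ => by simp only [dt_sc, hu]
  · congr 1
    rw [sum_filter]; exact sum_congr rfl fun z _ => by simp only [dt_un, hu]
  · congr 1
    rw [← sum_filter]
    refine (sum_bij (fun x _ => (x, x⁻¹)) (fun x hx => ?_) (fun a _ b _ h => congrArg Prod.fst h)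
      (fun p hp => ?_) fun _ _ => rfl).symm
    · simp only [mem_filter, mem_univ, true_and] at hx
      simp only [mem_filter, mem_offDi, dt_di]
      exact ⟨hx, x.mul_inv⟩
    · obtain ⟨hp1, hp2⟩ := mem_filter.1 hp
      rw [dt_di] at hp2
      have : p.2 = p.1⁻¹ := eq_inv_of_mul_eq_one_right (Units.ext hp2)
      exact ⟨p.1, mem_filter.2 ⟨mem_univ _, this ▸ mem_offDi.1 hp1⟩, Prod.ext rfl this.symm⟩
  · congr 1
    rw [sum_filter]
    refine sum_congr rfl fun l hl => ?_
    have hd := (tr_dt_ell K hK ((mem_outF K).1 hl)).2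
    have : dt (ell (F := F) K hK l) = 1 ↔ l ^ (Fintype.card F + 1) = 1 := by
      rw [← (algebraMap F K).injective.eq_iff, hd, map_one, Units.ext_iff,
        Units.val_pow_eq_pow_val, Units.val_one, pow_succ']
    simp only [this]

end Cfsg.Agent.Block.SL2Char
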