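import Mathlib
import Cfsg.Agent.Lib.Block.SL2Char.Sum
import Cfsg.Agent.Lib.Block.SL2Char.Homs
import Cfsg.Prelude.Def_ParabolicCharacters
import Cfsg.Agent.Lib.Char.Induce
import Cfsg.Agent.Lib.Char.Constituent

/-!
The irreducible characters of `GL(2, q)` on the representatives: linear, Steinberg twists,
principal series and discrete series.
-/

set_option linter.unusedSectionVars false

namespace Cfsg.Agent.Block.SL2Char

open Matrix Finset
open scoped ComplexConjugate

universe u v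

variable {F : Type u} [Field F] [Fintype F] [DecidableEq F]

local notation "GG" => GL (Fin 2) F
local notation "BB" => Cfsg.upperTriangularGL 2 F

theorem irr_of_norm_one_pos {G : Type*} [Group G] [Fintype G] {f : G → ℂ}
    (h : IsGeneralizedCharacter G f) (h1 : classInner f f = 1) {n : ℕ} (hn : f 1 = n) :
    IsIrrCharacter G f := by
  refine (Cfsg.Agent.Char.IsGenChar.norm_one h h1).resolve_right fun hneg => ?_
  obtain ⟨m, hm, hm1⟩ := Cfsg.Agent.Char.IsIrr.one_eq_pos hneg
  simp only [Pi.neg_apply, hn] at hm1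
  have : ((m + n : ℕ) : ℂ) = 0 := by push_cast; linear_combination -hm1
  rw [Nat.cast_eq_zero] at this
  omega

theorem mem_BB {g : GG} : g ∈ BB ↔ (g : Matrix (Fin 2) (Fin 2) F) 1 0 = 0 := by
  change (g : Matrix (Fin 2) (Fin 2) F).BlockTriangular id ↔ _
  refine ⟨fun h => h (show (id (0 : Fin 2)) < id 1 by decide), fun h i j hij => ?_⟩
  fin_cases i <;> fin_cases j <;> simp at hij ⊢
  exact h

theorem diag_ne_zero {g : GG} (hg : g ∈ BB) :
    (g : Matrix (Fin 2) (Fin 2) F) 0 0 ≠ 0 ∧ (g : Matrix (Fin 2) (Fin 2) F) 1 1 ≠ 0 := by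
  have h := dt_ne_zero g
  simp only [dt, mem_BB.1 hg, mul_zero, sub_zero] at h
  exact ⟨left_ne_zero_of_mul h, right_ne_zero_of_mul h⟩

/-- The diagonal of an upper triangular matrix. -/
noncomputable def diagHom : BB →* Fˣ × Fˣ where
  toFun b := (Units.mk0 _ (diag_ne_zero b.2).1, Units.mk0 _ (diag_ne_zero b.2).2)
  map_one' := Prod.ext (Units.ext (by simp)) (Units.ext (by simp))
  map_mul' a b := Prod.ext
    (Units.ext (by simp [Matrix.mul_apply, Fin.sum_univ_two, mem_BB.1 b.2]))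
    (Units.ext (by simp [Matrix.mul_apply, Fin.sum_univ_two, mem_BB.1 a.2]))

/-- The linear character of the upper triangular subgroup. -/
noncomputable def bHom (α β : Fˣ →* ℂˣ) : BB →* ℂˣ :=
  (α.comp (MonoidHom.fst Fˣ Fˣ) * β.comp (MonoidHom.snd Fˣ Fˣ)).comp (diagHom (F := F))

theorem bHom_apply (α β : Fˣ →* ℂˣ) (b : BB) (x y : Fˣ)
    (hx : ((b : GG) : Matrix (Fin 2) (Fin 2) F) 0 0 = x)
    (hy : ((b : GG) : Matrix (Fin 2) (Fin 2) F) 1 1 = y) :
    (bHom α β b : ℂ) = cv α x * cv β y := by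
  have : diagHom b = (x, y) := Prod.ext (Units.ext hx) (Units.ext hy)
  simp [bHom, cv, this]

theorem card_BB : (Nat.card BB : ℂ) = (Fintype.card F : ℂ) * ((Fintype.card F : ℂ) - 1) ^ 2 := by
  let e : BB ≃ Fˣ × Fˣ × F :=
    { toFun := fun b => ((diagHom b).1, (diagHom b).2, ((b : GG) : Matrix (Fin 2) (Fin 2) F) 0 1)
      invFun := fun t => ⟨mk !![(t.1 : F), t.2.2; 0, (t.2.1 : F)] (by simp [det_fin_two]),
        mem_BB.2 (by simp)⟩
      left_inv := fun b => by
        refine Subtype.ext (Units.ext (Matrix.ext fun i j => ?_))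
        fin_cases i <;> fin_cases j <;> simp [diagHom, mem_BB.1 b.2]
      right_inv := fun t => by
        refine Prod.ext (Units.ext ?_) (Prod.ext (Units.ext ?_) ?_) <;> simp [diagHom] }
  rw [Nat.card_congr e, Nat.card_eq_fintype_card, Fintype.card_prod, Fintype.card_prod]
  push_cast [card_units_cast]
  ring

theorem card_BB_ne : (Nat.card BB : ℂ) ≠ 0 := Nat.cast_ne_zero.2 Nat.card_pos.ne'

/-- The principal series. -/
noncomputable def vI (α β : Fˣ →* ℂˣ) : GG → ℂ := Cfsg.indFun BB fun b => (bHom α β b : ℂ)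

theorem isChar_vI (α β : Fˣ →* ℂˣ) : IsCharacter GG (vI α β) :=
  Cfsg.Agent.Char.isCharacter_indFun BB
    (Cfsg.Agent.Char.IsIrr.isCharacter (Cfsg.Agent.Char.isIrr_linear (bHom α β)))

theorem vI_sc (α β : Fˣ →* ℂˣ) (z : Fˣ) :
    vI α β (sc z) = ((Fintype.card F : ℂ) + 1) * (cv α z * cv β z) := by
  have h : ∀ u : GG, Cfsg.extendByZero BB (fun b => (bHom α β b : ℂ)) (u⁻¹ * sc z * u) =
      cv α z * cv β z := fun u => by
    rw [mul_assoc, ← sc_central, inv_mul_cancel_left,
      Cfsg.Agent.Char.extendByZero_of_mem _ (mem_BB.2 (by simp : (sc z : GG).1 1 0 = 0))]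
    exact bHom_apply α β _ z z (by simp) (by simp)
  simp only [vI, Cfsg.indFun, h, sum_const, card_univ, ← Nat.card_eq_fintype_card (α := GG),
    nsmul_eq_mul, card_GG]
  rw [inv_mul_eq_iff_eq_mul₀ card_BB_ne, card_BB]
  ring

theorem conj_entries (g u : GG) (i j : Fin 2) :
    ((u : Matrix (Fin 2) (Fin 2) F) * ((u⁻¹ * g * u : GG) : Matrix (Fin 2) (Fin 2) F)) i j =
      ((g : Matrix (Fin 2) (Fin 2) F) * (u : Matrix (Fin 2) (Fin 2) F)) i j := by
  rw [← GeneralLinearGroup.coe_mul, ← GeneralLinearGroup.coe_mul,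
    show u * (u⁻¹ * g * u) = g * u by group]

theorem vI_un (α β : Fˣ →* ℂˣ) (z : Fˣ) : vI α β (un z) = cv α z * cv β z := by
  classical
  have h : ∀ u : GG, Cfsg.extendByZero BB (fun b => (bHom α β b : ℂ)) (u⁻¹ * un z * u) =
      if u ∈ BB then cv α z * cv β z else 0 := by
    intro u
    have e00 := conj_entries (un z) u 0 0
    have e10 := conj_entries (un z) u 1 0
    have e11 := conj_entries (un z) u 1 1
    simp only [Matrix.mul_apply, Fin.sum_univ_two, un_val, Matrix.of_apply, Matrix.cons_val',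
      Matrix.cons_val_zero, Matrix.cons_val_one, Matrix.cons_val_fin_one, zero_mul, zero_add,
      one_mul] at e00 e10 e11
    split_ifs with hu
    · have h0 := mem_BB.1 hu
      obtain ⟨h00, h11⟩ := diag_ne_zero hu
      simp only [h0, zero_mul, mul_zero, zero_add] at e00 e10 e11
      have hM : ((u⁻¹ * un z * u : GG) : Matrix (Fin 2) (Fin 2) F) 1 0 = 0 :=
        (mul_eq_zero.1 e10).resolve_left h11
      rw [Cfsg.Agent.Char.extendByZero_of_mem _ (mem_BB.2 hM)]
      refine bHom_apply α β _ z z ?_ ?_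
      · simp only [hM, mul_zero, add_zero] at e00
        exact mul_left_cancel₀ h00 (e00.trans (mul_comm _ _))
      · exact mul_left_cancel₀ h11 (e11.trans (mul_comm _ _))
    · refine Cfsg.Agent.Char.extendByZero_not_mem _ fun hM => hu (mem_BB.2 ?_)
      rw [mem_BB] at hM
      simp only [hM, mul_zero, add_zero] at e00 e10
      have : (u : Matrix (Fin 2) (Fin 2) F) 1 0 * (u : Matrix (Fin 2) (Fin 2) F) 1 0 = 0 := by
        linear_combination (u : Matrix (Fin 2) (Fin 2) F) 0 0 * e10 -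
          (u : Matrix (Fin 2) (Fin 2) F) 1 0 * e00
      exact mul_self_eq_zero.1 this
  simp only [vI, Cfsg.indFun, h]
  rw [← sum_filter, sum_const, nsmul_eq_mul, ← Fintype.card_subtype, ← Nat.card_eq_fintype_card,
    inv_mul_eq_iff_eq_mul₀ card_BB_ne]

theorem vI_di (α β : Fˣ →* ℂˣ) {x y : Fˣ} (hxy : x ≠ y) :
    vI α β (di x y) = cv α x * cv β y + cv α y * cv β x := by
  classical
  have h : ∀ u : GG, Cfsg.extendByZero BB (fun b => (bHom α β b : ℂ)) (u⁻¹ * di x y * u) =
      (if u ∈ BB then cv α x * cv β y else 0) +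
      (if (u : Matrix (Fin 2) (Fin 2) F) 0 0 = 0 then cv α y * cv β x else 0) := by
    intro u
    have e00 := conj_entries (di x y) u 0 0
    have e10 := conj_entries (di x y) u 1 0
    have e01 := conj_entries (di x y) u 0 1
    have e11 := conj_entries (di x y) u 1 1
    simp only [Matrix.mul_apply, Fin.sum_univ_two, di_val, Matrix.of_apply, Matrix.cons_val',
      Matrix.cons_val_zero, Matrix.cons_val_one, Matrix.cons_val_fin_one, zero_mul, zero_add,
      add_zero] at e00 e10 e01 e11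
    have hdu := dt_ne_zero u
    by_cases hu : u ∈ BB
    · have h0 := mem_BB.1 hu
      obtain ⟨h00, h11⟩ := diag_ne_zero hu
      simp only [h0, zero_mul, mul_zero, zero_add] at e00 e10 e11
      have hM : ((u⁻¹ * di x y * u : GG) : Matrix (Fin 2) (Fin 2) F) 1 0 = 0 :=
        (mul_eq_zero.1 e10).resolve_left h11
      rw [if_pos hu, if_neg h00, add_zero,
        Cfsg.Agent.Char.extendByZero_of_mem _ (mem_BB.2 hM)]
      refine bHom_apply α β _ x y ?_ ?_
      · simp only [hM, mul_zero, add_zero] at e00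
        exact mul_left_cancel₀ h00 (e00.trans (mul_comm _ _))
      · exact mul_left_cancel₀ h11 (e11.trans (mul_comm _ _))
    · rw [if_neg hu, zero_add]
      have h10 : (u : Matrix (Fin 2) (Fin 2) F) 1 0 ≠ 0 := fun h => hu (mem_BB.2 h)
      split_ifs with h0
      · have h01 : (u : Matrix (Fin 2) (Fin 2) F) 0 1 ≠ 0 := fun h => hdu (by simp [dt, h0, h])
        simp only [h0, zero_mul, mul_zero, zero_add] at e00 e01
        have hM : ((u⁻¹ * di x y * u : GG) : Matrix (Fin 2) (Fin 2) F) 1 0 = 0 :=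
          (mul_eq_zero.1 e00).resolve_left h01
        rw [Cfsg.Agent.Char.extendByZero_of_mem _ (mem_BB.2 hM)]
        refine bHom_apply α β _ y x ?_ ?_
        · simp only [hM, mul_zero, add_zero] at e10
          exact mul_left_cancel₀ h10 (e10.trans (mul_comm _ _))
        · exact mul_left_cancel₀ h01 (e01.trans (mul_comm _ _))
      · refine Cfsg.Agent.Char.extendByZero_not_mem _ fun hM => ?_
        rw [mem_BB] at hM
        simp only [hM, mul_zero, add_zero] at e00 e10
        have : ((x : F) - y) * ((u : Matrix (Fin 2) (Fin 2) F) 0 0 *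
            (u : Matrix (Fin 2) (Fin 2) F) 1 0) = 0 := by
          linear_combination (u : Matrix (Fin 2) (Fin 2) F) 0 0 * e10 -
            (u : Matrix (Fin 2) (Fin 2) F) 1 0 * e00
        rcases mul_eq_zero.1 this with h' | h'
        · exact hxy (Units.ext (sub_eq_zero.1 h'))
        · exact (mul_ne_zero h0 h10) h'
  have hcard : Nat.card {u : GG // (u : Matrix (Fin 2) (Fin 2) F) 0 0 = 0} = Nat.card BB := by
    let w : GG := mk !![0, 1; 1, 0] (by simp [det_fin_two])
    refine Nat.card_congr (Equiv.subtypeEquiv (Equiv.mulLeft w) fun u => ?_)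
    rw [mem_BB]
    simp [w, Matrix.mul_apply, Fin.sum_univ_two]
  simp only [vI, Cfsg.indFun, h, sum_add_distrib]
  rw [← sum_filter, ← sum_filter, sum_const, sum_const, nsmul_eq_mul, nsmul_eq_mul,
    ← Fintype.card_subtype, ← Fintype.card_subtype, ← Nat.card_eq_fintype_card,
    ← Nat.card_eq_fintype_card, hcard, inv_mul_eq_iff_eq_mul₀ card_BB_ne]
  exact (mul_add _ _ _).symm

variable (K : Type v) [Field K] [Algebra F K] [Fintype K] [DecidableEq K]
  (hK : Module.finrank F K = 2)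

theorem vI_ell (α β : Fˣ →* ℂˣ) {l : Kˣ} (hl : l ∉ (emb (F := F) K).range) :
    vI α β (ell K hK l) = 0 := by
  refine Cfsg.Agent.Char.indFun_eq_zero_of_not_conj _ _ fun u hu => ?_
  exfalso
  have h10 := mem_BB.1 hu
  have htr : tr (u⁻¹ * ell (F := F) K hK l * u) = tr (ell (F := F) K hK l) := by
    simpa using tr_conj (ell (F := F) K hK l) u⁻¹
  have hdt : dt (u⁻¹ * ell (F := F) K hK l * u) = dt (ell (F := F) K hK l) := by
    simpa using dt_conj (ell (F := F) K hK l) u⁻¹
  refine no_root_ell K hK hl (((u⁻¹ * ell (F := F) K hK l * u : GG) :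
    Matrix (Fin 2) (Fin 2) F) 0 0) ?_
  rw [← htr, ← hdt, tr, dt, h10]
  ring

/-- Induction from the nonsplit torus. -/
noncomputable def vC (θ : Kˣ →* ℂˣ) : GG → ℂ :=
  Cfsg.indFun (ell (F := F) K hK).range
    fun c => cv θ ((MonoidHom.ofInjective (ell_injective K hK)).symm c)

theorem isChar_vC (θ : Kˣ →* ℂˣ) : IsCharacter GG (vC (F := F) K hK θ) :=
  Cfsg.Agent.Char.isCharacter_indFun _ (Cfsg.Agent.Char.IsIrr.isCharacter
    (Cfsg.Agent.Char.isIrr_linear
      (θ.comp (MonoidHom.ofInjective (ell_injective (F := F) K hK)).symm.toMonoidHom)))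

theorem symm_ell (m : Kˣ) (h : ell (F := F) K hK m ∈ (ell (F := F) K hK).range) :
    (MonoidHom.ofInjective (ell_injective K hK)).symm ⟨ell (F := F) K hK m, h⟩ = m := by
  apply (MonoidHom.ofInjective (ell_injective (F := F) K hK)).injective
  rw [MulEquiv.apply_symm_apply]
  rfl

theorem card_range_ell :
    (Nat.card (ell (F := F) K hK).range : ℂ) = (Fintype.card F : ℂ) ^ 2 - 1 := by
  rw [Nat.card_congr (MonoidHom.ofInjective (ell_injective K hK)).toEquiv.symm, Nat.card_units,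
    card_K K hK, Nat.cast_sub (Nat.one_le_pow 2 _ Fintype.card_pos)]
  norm_num

theorem vC_sc (θ : Kˣ →* ℂˣ) (z : Fˣ) :
    vC (F := F) K hK θ (sc z) =
      (Fintype.card F : ℂ) * ((Fintype.card F : ℂ) - 1) * cv θ (emb (F := F) K z) := by
  have h : ∀ u : GG, Cfsg.extendByZero (ell (F := F) K hK).range
      (fun c => cv θ ((MonoidHom.ofInjective (ell_injective K hK)).symm c)) (u⁻¹ * sc z * u) =
      cv θ (emb (F := F) K z) := fun u => by
    rw [mul_assoc, ← sc_central, inv_mul_cancel_left, ← ell_emb K hK z,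
      Cfsg.Agent.Char.extendByZero_of_mem _
        (show ell (F := F) K hK (emb (F := F) K z) ∈ (ell (F := F) K hK).range from ⟨_, rfl⟩), symm_ell]
  simp only [vC, Cfsg.indFun, h, sum_const, card_univ, ← Nat.card_eq_fintype_card (α := GG),
    nsmul_eq_mul, card_GG]
  rw [inv_mul_eq_iff_eq_mul₀ (Nat.cast_ne_zero.2 Nat.card_pos.ne'), card_range_ell]
  ring

theorem vC_eq_zero (θ : Kˣ →* ℂˣ) {g : GG}
    (hg : ∀ l : Kˣ, ¬ IsConj (ell (F := F) K hK l) g) : vC (F := F) K hK θ g = 0 := by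
  refine Cfsg.Agent.Char.indFun_eq_zero_of_not_conj _ _ fun u hu => ?_
  exfalso
  obtain ⟨l, hl⟩ := hu
  exact hg l (isConj_iff.2 ⟨u, by rw [hl]; group⟩)

theorem vC_un (θ : Kˣ →* ℂˣ) (z : Fˣ) : vC (F := F) K hK θ (un z) = 0 :=
  vC_eq_zero K hK θ fun l h => by
    by_cases hl : l ∈ (emb (F := F) K).range
    · obtain ⟨w, rfl⟩ := hl
      rw [ell_emb] at h
      exact not_isSc_un z (by rw [isConj_sc.1 h]; exact isSc_sc w)
    · exact not_isConj_un_ell K hK z hl h.symm

theorem vC_di (θ : Kˣ →* ℂˣ) {x y : Fˣ} (hxy : x ≠ y) : vC (F := F) K hK θ (di x y) = 0 :=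
  vC_eq_zero K hK θ fun l h => by
    by_cases hl : l ∈ (emb (F := F) K).range
    · obtain ⟨w, rfl⟩ := hl
      rw [ell_emb] at h
      exact not_isSc_di hxy (by rw [isConj_sc.1 h]; exact isSc_sc w)
    · exact not_isConj_di_ell K hK hxy hl h.symm

theorem card_carry {g r : GG} (h : IsConj g r) :
    Nat.card {u : GG // u⁻¹ * g * u = r} = Nat.card (Subgroup.centralizer ({g} : Set GG)) := by
  obtain ⟨c, rfl⟩ := isConj_iff.1 h
  refine Nat.card_congr (Equiv.subtypeEquiv (Equiv.mulRight c) fun u => ?_)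
  rw [Equiv.coe_mulRight, Subgroup.mem_centralizer_singleton_iff, eq_comm]
  constructor
  · intro e
    calc u * c * g = u * (c * g * c⁻¹) * c := by group
      _ = g * (u * c) := by rw [e]; group
  · intro e
    calc c * g * c⁻¹ = u⁻¹ * (u * c * g) * c⁻¹ := by group
      _ = u⁻¹ * g * u := by rw [e]; group

theorem pow_card_notMem_range {l : Kˣ} (hK : Module.finrank F K = 2)
    (hl : l ∉ (emb (F := F) K).range) :
    l ^ Fintype.card F ∉ (emb (F := F) K).range := by
  rintro ⟨z, hz⟩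
  refine hl ⟨z, ?_⟩
  have hmm : (l ^ Fintype.card F) ^ Fintype.card F = l := by
    rw [← pow_mul, ← sq]
    refine Units.ext ?_
    rw [Units.val_pow_eq_pow_val, ← card_K K hK, Nat.card_eq_fintype_card, FiniteField.pow_card]
  rw [← hz, ← map_pow] at hmm
  rw [← hmm]
  congr 1
  exact Units.ext (by rw [Units.val_pow_eq_pow_val, FiniteField.pow_card])

theorem vC_ell (θ : Kˣ →* ℂˣ) {l : Kˣ} (hl : l ∉ (emb (F := F) K).range) :
    vC (F := F) K hK θ (ell K hK l) = cv θ l + cv θ (l ^ Fintype.card F) := by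
  classical
  have hne : ell (F := F) K hK l ≠ ell K hK (l ^ Fintype.card F) :=
    fun e => pow_card_notMem K hl (ell_injective K hK e).symm
  have h : ∀ u : GG, Cfsg.extendByZero (ell (F := F) K hK).range
      (fun c => cv θ ((MonoidHom.ofInjective (ell_injective K hK)).symm c))
        (u⁻¹ * ell (F := F) K hK l * u) =
      (if u⁻¹ * ell (F := F) K hK l * u = ell K hK l then cv θ l else 0) +
      (if u⁻¹ * ell (F := F) K hK l * u = ell K hK (l ^ Fintype.card F)
        then cv θ (l ^ Fintype.card F) else 0) := by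
    intro u
    by_cases hu : u⁻¹ * ell (F := F) K hK l * u ∈ (ell (F := F) K hK).range
    · obtain ⟨m, hm⟩ := hu
      have hmem : m ∉ (emb (F := F) K).range := by
        rintro ⟨w, rfl⟩
        rw [ell_emb] at hm
        refine not_isSc_ell K hK hl ?_
        have : ell (F := F) K hK l = u * sc w * u⁻¹ := by rw [hm]; group
        rw [this, sc_central, mul_inv_cancel_right]
        exact isSc_sc w
      have hconj : IsConj (ell (F := F) K hK l) (ell K hK m) :=
        isConj_iff.2 ⟨u⁻¹, by rw [inv_inv, hm]⟩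
      rw [← hm, Cfsg.Agent.Char.extendByZero_of_mem _
        (show ell (F := F) K hK m ∈ (ell (F := F) K hK).range from ⟨_, rfl⟩), symm_ell]
      rcases (isConj_ell K hK hl hmem).1 hconj with rfl | rfl
      · rw [if_pos rfl, if_neg hne, add_zero]
      · rw [if_neg hne.symm, if_pos rfl, zero_add]
    · rw [Cfsg.Agent.Char.extendByZero_not_mem _ hu, if_neg fun e => hu ⟨l, Eq.symm e⟩,
        if_neg fun e => hu ⟨l ^ Fintype.card F, Eq.symm e⟩, add_zero]
  have hc : IsConj (ell (F := F) K hK l) (ell K hK (l ^ Fintype.card F)) :=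
    (isConj_ell K hK hl (pow_card_notMem_range K hK hl)).2 (Or.inr rfl)
  simp only [vC, Cfsg.indFun, h, sum_add_distrib]
  rw [← sum_filter, ← sum_filter, sum_const, sum_const, nsmul_eq_mul, nsmul_eq_mul,
    ← Fintype.card_subtype, ← Fintype.card_subtype, ← Nat.card_eq_fintype_card,
    ← Nat.card_eq_fintype_card, card_carry (IsConj.refl _), card_carry hc,
    card_centralizer_ell K hK hl, inv_mul_eq_iff_eq_mul₀ (Nat.cast_ne_zero.2 Nat.card_pos.ne'),
    card_range_ell, Nat.cast_sub (Nat.one_le_pow 2 _ Fintype.card_pos)]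
  push_cast
  ring

/-- The determinant. -/
noncomputable def detu : GG →* Fˣ := Matrix.GeneralLinearGroup.det

theorem detu_val (g : GG) : ((detu g : Fˣ) : F) = dt g := (dt_eq_det g).symm

theorem detu_eq {g : GG} {w : Fˣ} (h : dt g = w) : detu g = w := Units.ext ((detu_val g).trans h)

/-- The linear characters. -/
noncomputable def vL (α : Fˣ →* ℂˣ) : GG → ℂ := fun g => cv α (detu g)

theorem isIrr_vL (α : Fˣ →* ℂˣ) : IsIrrCharacter GG (vL α) :=
  Cfsg.Agent.Char.isIrr_linear (α.comp (detu (F := F)))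

theorem vL_sc (α : Fˣ →* ℂˣ) (z : Fˣ) : vL α (sc z) = cv α z * cv α z := by
  rw [vL, detu_eq (w := z * z) (by simp [dt_sc]), cv_mul]

theorem vL_un (α : Fˣ →* ℂˣ) (z : Fˣ) : vL α (un z) = cv α z * cv α z := by
  rw [vL, detu_eq (w := z * z) (by simp [dt_un]), cv_mul]

theorem vL_di (α : Fˣ →* ℂˣ) (x y : Fˣ) : vL α (di x y) = cv α x * cv α y := by
  rw [vL, detu_eq (w := x * y) (by simp [dt_di]), cv_mul]

/-- The Steinberg character. -/
noncomputable def vS : GG → ℂ := vI (F := F) 1 1 - vL 1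

theorem vL_one (g : GG) : vL (F := F) 1 g = 1 := by simp [vL, cv]

theorem vS_sc (z : Fˣ) : vS (F := F) (sc z) = Fintype.card F := by
  simp [vS, vI_sc, vL_one, cv]

theorem vS_un (z : Fˣ) : vS (F := F) (un z) = 0 := by simp [vS, vI_un, vL_one, cv]

theorem vS_di {x y : Fˣ} (h : x ≠ y) : vS (F := F) (di x y) = 1 := by
  simp [vS, vI_di 1 1 h, vL_one, cv]

theorem vS_ell {l : Kˣ} (hl : l ∉ (emb (F := F) K).range) : vS (F := F) (ell K hK l) = -1 := by
  simp [vS, vI_ell K hK 1 1 hl, vL_one]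

theorem isGen_vS : IsGeneralizedCharacter GG (vS (F := F)) :=
  Cfsg.Agent.Char.IsGenChar.sub (Cfsg.Agent.Char.IsGenChar.of_isCharacter (isChar_vI 1 1))
    (Cfsg.Agent.Char.IsGenChar.of_isCharacter (Cfsg.Agent.Char.IsIrr.isCharacter (isIrr_vL 1)))

/-- The discrete series. -/
noncomputable def vD (θ : Kˣ →* ℂˣ) : GG → ℂ :=
  vS (F := F) * vI (θ.comp (emb K)) 1 - vI (θ.comp (emb K)) 1 - vC (F := F) K hK θ

theorem isGen_vD (θ : Kˣ →* ℂˣ) : IsGeneralizedCharacter GG (vD (F := F) K hK θ) :=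
  Cfsg.Agent.Char.IsGenChar.sub (Cfsg.Agent.Char.IsGenChar.sub
    (Cfsg.Agent.Char.IsGenChar.mul isGen_vS
      (Cfsg.Agent.Char.IsGenChar.of_isCharacter (isChar_vI _ 1)))
    (Cfsg.Agent.Char.IsGenChar.of_isCharacter (isChar_vI _ 1)))
    (Cfsg.Agent.Char.IsGenChar.of_isCharacter (isChar_vC K hK θ))

theorem vD_sc (θ : Kˣ →* ℂˣ) (z : Fˣ) :
    vD (F := F) K hK θ (sc z) = ((Fintype.card F : ℂ) - 1) * cv θ (emb (F := F) K z) := by
  simp only [vD, Pi.sub_apply, Pi.mul_apply, vS_sc, vI_sc, vC_sc]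
  simp only [cv, MonoidHom.comp_apply, MonoidHom.one_apply, Units.val_one]
  ring

theorem vD_un (θ : Kˣ →* ℂˣ) (z : Fˣ) :
    vD (F := F) K hK θ (un z) = -cv θ (emb (F := F) K z) := by
  simp only [vD, Pi.sub_apply, Pi.mul_apply, vS_un, vI_un, vC_un]
  simp only [cv, MonoidHom.comp_apply, MonoidHom.one_apply, Units.val_one]
  ring

theorem vD_di (θ : Kˣ →* ℂˣ) {x y : Fˣ} (h : x ≠ y) : vD (F := F) K hK θ (di x y) = 0 := by
  simp [vD, vS_di h, vC_di K hK θ h]

theorem vD_ell (θ : Kˣ →* ℂˣ) {l : Kˣ} (hl : l ∉ (emb (F := F) K).range) :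
    vD (F := F) K hK θ (ell K hK l) = -(cv θ l + cv θ (l ^ Fintype.card F)) := by
  simp [vD, vI_ell K hK _ _ hl, vC_ell K hK θ hl]

theorem sum_outF (f : Kˣ → ℂ) :
    ∑ l ∈ outF (F := F) K, f l = ∑ l : Kˣ, f l - ∑ z : Fˣ, f (emb (F := F) K z) := by
  classical
  have h1 := sum_filter_add_sum_filter_not (univ : Finset Kˣ) (· ∉ (emb (F := F) K).range) f
  have h2 : (univ : Finset Kˣ).filter (fun l => ¬ l ∉ (emb (F := F) K).range) =
      (univ : Finset Fˣ).image (emb (F := F) K) := by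
    ext l
    simp [MonoidHom.mem_range]
  rw [h2, sum_image fun a _ b _ h => emb_injective K h] at h1
  have h3 : (univ : Finset Kˣ).filter (· ∉ (emb (F := F) K).range) = outF (F := F) K := by
    ext l; simp [mem_outF]
  rw [h3] at h1
  linear_combination h1

theorem sum_offDi (f : Fˣ × Fˣ → ℂ) :
    ∑ p ∈ offDi (F := F), f p = ∑ x : Fˣ, ∑ y : Fˣ, f (x, y) - ∑ z : Fˣ, f (z, z) := by
  have h1 := sum_filter_add_sum_filter_not (univ : Finset (Fˣ × Fˣ)) (fun p => p.1 ≠ p.2) f
  have h2 : (univ : Finset (Fˣ × Fˣ)).filter (fun p => ¬ p.1 ≠ p.2) =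
      (univ : Finset Fˣ).image (fun z => (z, z)) := by
    ext ⟨a, b⟩
    simp [eq_comm]
  rw [h2, sum_image fun a _ b _ h => congrArg Prod.fst h, Fintype.sum_prod_type] at h1
  rw [offDi]
  linear_combination h1

theorem card_unitsK : (Fintype.card Kˣ : ℂ) = (Fintype.card F : ℂ) ^ 2 - 1 ∨
    Module.finrank F K ≠ 2 := by
  by_cases h : Module.finrank F K = 2
  · left
    rw [Fintype.card_units, ← Nat.card_eq_fintype_card, card_K K h,
      Nat.cast_sub (Nat.one_le_pow 2 _ Fintype.card_pos)]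
    norm_num
  · exact Or.inr h

include hK in
theorem card_unitsK' : (Fintype.card Kˣ : ℂ) = (Fintype.card F : ℂ) ^ 2 - 1 :=
  (card_unitsK K).resolve_right (not_not.2 hK)

include K hK in
theorem isIrr_vI {α β : Fˣ →* ℂˣ} (h : α ≠ β) : IsIrrCharacter GG (vI α β) := by
  classical
  refine irr_of_norm_one_pos (Cfsg.Agent.Char.IsGenChar.of_isCharacter (isChar_vI α β)) ?_
    (n := Fintype.card F + 1) ?_
  · rw [classInner, sum_GG K hK (fun g k => by
      simp only [Cfsg.Agent.Char.IsChar.classFun (isChar_vI α β) g k])]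
    have hz : ∀ z, cv α z * cv β z * conj (cv α z * cv β z) = 1 := fun z => by
      rw [map_mul, mul_mul_mul_comm, mul_conj_cv, mul_conj_cv, one_mul]
    have h1 : ∀ z : Fˣ, vI α β (sc z) * conj (vI α β (sc z)) = ((Fintype.card F : ℂ) + 1) ^ 2 :=
      fun z => by
        rw [vI_sc, map_mul, mul_mul_mul_comm, hz, map_add, map_natCast, map_one, mul_one, sq]
    have h2 : ∀ z : Fˣ, vI α β (un z) * conj (vI α β (un z)) = 1 := fun z => by rw [vI_un, hz]
    have h3 : ∀ p ∈ offDi (F := F), vI α β (di p.1 p.2) * conj (vI α β (di p.1 p.2)) =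
        2 + cv (α / β) p.1 * conj (cv (α / β) p.2) + cv (α / β) p.2 * conj (cv (α / β) p.1) := by
      intro p hp
      rw [vI_di α β (mem_offDi.1 hp), cv_div, cv_div, map_add, map_mul, map_mul, map_mul, map_mul,
        Complex.conj_conj, Complex.conj_conj]
      linear_combination mul_conj_cv α p.1 * (cv β p.2 * conj (cv β p.2)) + mul_conj_cv β p.2 +
        mul_conj_cv α p.2 * (cv β p.1 * conj (cv β p.1)) + mul_conj_cv β p.1
    have h4 : ∀ l ∈ outF (F := F) K, vI α β (ell K hK l) * conj (vI α β (ell K hK l)) = 0 :=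
      fun l hl => by rw [vI_ell K hK α β ((mem_outF K).1 hl), zero_mul]
    rw [sum_congr rfl (fun z _ => h1 z), sum_congr rfl (fun z _ => h2 z), sum_congr rfl h3,
      sum_congr rfl h4, sum_offDi]
    have hs : ∑ x : Fˣ, cv (α / β) x = 0 := sum_cv_ne (div_ne_one h)
    have hd : ∀ z : Fˣ, cv (α / β) z * conj (cv (α / β) z) = 1 := mul_conj_cv _
    simp only [sum_add_distrib, sum_const, card_univ, nsmul_eq_mul, card_units_cast,
      ← Finset.mul_sum, ← Finset.sum_mul, ← map_sum, hs, hd, map_zero, mul_zero, zero_mul,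
      add_zero, card_GG]
    rw [inv_mul_eq_iff_eq_mul₀ (by rw [← card_GG]; exact Nat.cast_ne_zero.2 Nat.card_pos.ne')]
    ring
  · rw [vI, Cfsg.Agent.Char.indFun_one_eq, map_one, Units.val_one, mul_one]
    have := congrArg (Nat.cast (R := ℂ)) (Subgroup.index_mul_card BB)
    rw [Nat.cast_mul, card_GG, card_BB] at this
    push_cast
    refine mul_right_cancel₀ (mul_ne_zero (cardF_cast_ne (F := F)).1
      (pow_ne_zero 2 (cardF_cast_ne (F := F)).2.1)) (this.trans ?_)
    ring

theorem sc_one : sc (1 : Fˣ) = (1 : GG) := by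
  refine Units.ext (Matrix.ext fun i j => ?_)
  fin_cases i <;> fin_cases j <;> simp

theorem vD_one (θ : Kˣ →* ℂˣ) : vD (F := F) K hK θ 1 = ((Fintype.card F - 1 : ℕ) : ℂ) := by
  rw [← sc_one, vD_sc, map_one, cv_one, mul_one, Nat.cast_sub Fintype.card_pos, Nat.cast_one]

/-- The regularity condition of the discrete series. -/
def Regular (θ : Kˣ →* ℂˣ) : Prop :=
  ∃ l : Kˣ, cv θ (l ^ Fintype.card F) ≠ cv θ l

theorem isIrr_vD {θ : Kˣ →* ℂˣ} (h : Regular (F := F) K θ) :
    IsIrrCharacter GG (vD (F := F) K hK θ) := by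
  classical
  refine irr_of_norm_one_pos (isGen_vD K hK θ) ?_ (vD_one K hK θ)
  rw [classInner, sum_GG K hK (fun g k => by
    simp only [Cfsg.Agent.Char.IsGenChar.classFun (isGen_vD K hK θ) g k])]
  have h1 : ∀ z : Fˣ, vD (F := F) K hK θ (sc z) * conj (vD (F := F) K hK θ (sc z)) =
      ((Fintype.card F : ℂ) - 1) ^ 2 := fun z => by
    rw [vD_sc, map_mul, mul_mul_mul_comm, mul_conj_cv, map_sub, map_natCast, map_one, mul_one, sq]
  have h2 : ∀ z : Fˣ, vD (F := F) K hK θ (un z) * conj (vD (F := F) K hK θ (un z)) = 1 :=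
    fun z => by rw [vD_un, map_neg, neg_mul_neg, mul_conj_cv]
  have h3 : ∀ p ∈ offDi (F := F),
      vD (F := F) K hK θ (di p.1 p.2) * conj (vD (F := F) K hK θ (di p.1 p.2)) = 0 :=
    fun p hp => by rw [vD_di K hK θ (mem_offDi.1 hp), zero_mul]
  let ψ : Kˣ →* ℂˣ := θ / θ.comp (powMonoidHom (Fintype.card F))
  have hψ : ψ ≠ 1 := fun e => by
    obtain ⟨l, hl⟩ := h
    have e' : θ = θ.comp (powMonoidHom (Fintype.card F)) := div_eq_one.1 e
    exact hl (congrArg Units.val (DFunLike.congr_fun e' l)).symm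
  have hψv : ∀ l, cv ψ l = cv θ l * conj (cv θ (l ^ Fintype.card F)) := fun l => by
    rw [cv_div]; rfl
  have h4 : ∀ l ∈ outF (F := F) K,
      vD (F := F) K hK θ (ell K hK l) * conj (vD (F := F) K hK θ (ell K hK l)) =
      2 + cv ψ l + conj (cv ψ l) := fun l hl => by
    rw [vD_ell K hK θ ((mem_outF K).1 hl), hψv, map_neg, neg_mul_neg, map_add, map_mul,
      Complex.conj_conj]
    linear_combination mul_conj_cv θ l + mul_conj_cv θ (l ^ Fintype.card F)
  rw [sum_congr rfl (fun z _ => h1 z), sum_congr rfl (fun z _ => h2 z), sum_congr rfl h3,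
    sum_congr rfl h4, sum_outF]
  have hs : ∑ l : Kˣ, cv ψ l = 0 := sum_cv_ne hψ
  have hz : ∀ z : Fˣ, cv ψ (emb (F := F) K z) = 1 := fun z => by
    rw [hψv, ← map_pow, show z ^ Fintype.card F = z from Units.ext (by
      rw [Units.val_pow_eq_pow_val, FiniteField.pow_card]), mul_conj_cv]
  simp only [sum_add_distrib, sum_const, card_univ, nsmul_eq_mul, card_units_cast,
    card_unitsK' K hK, ← map_sum, hs, hz, map_zero, map_one, mul_zero, add_zero,
    card_GG]
  rw [inv_mul_eq_iff_eq_mul₀ (by rw [← card_GG]; exact Nat.cast_ne_zero.2 Nat.card_pos.ne')]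
  ring

include K hK in
theorem isIrr_vS : IsIrrCharacter GG (vS (F := F)) := by
  classical
  refine irr_of_norm_one_pos isGen_vS ?_ (n := Fintype.card F) ?_
  · rw [classInner, sum_GG K hK (fun g k => by
      simp only [Cfsg.Agent.Char.IsGenChar.classFun isGen_vS g k])]
    have h3 : ∀ p ∈ offDi (F := F), vS (F := F) (di p.1 p.2) * conj (vS (F := F) (di p.1 p.2)) = 1 :=
      fun p hp => by rw [vS_di (mem_offDi.1 hp), map_one, one_mul]
    have h4 : ∀ l ∈ outF (F := F) K, vS (F := F) (ell K hK l) * conj (vS (F := F) (ell K hK l)) = 1 :=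
      fun l hl => by rw [vS_ell K hK ((mem_outF K).1 hl), map_neg, map_one, neg_mul_neg, one_mul]
    rw [sum_congr rfl h3, sum_congr rfl h4, sum_outF, sum_offDi]
    simp only [vS_sc, vS_un, map_natCast, map_zero, mul_zero, sum_const, card_univ, nsmul_eq_mul,
      card_units_cast, card_unitsK' K hK, card_GG, mul_one]
    rw [inv_mul_eq_iff_eq_mul₀ (by rw [← card_GG]; exact Nat.cast_ne_zero.2 Nat.card_pos.ne')]
    ring
  · rw [← sc_one, vS_sc]

end Cfsg.Agent.Block.SL2Char
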