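import Mathlib
import Cfsg.Agent.Lib.Block.SL2Char.GL
import Cfsg.Agent.Lib.Block.SL2Char.Count

/-!
The complete list of irreducible characters of `GL(2, q)`.
-/

set_option linter.unusedSectionVars false

namespace Cfsg.Agent.Block.SL2Char

open Matrix Finset

universe u v

variable {F : Type u} [Field F] [Fintype F] [DecidableEq F]

local notation "GG" => GL (Fin 2) F

theorem vL_inj : Function.Injective (vL (F := F)) := fun a b h => MonoidHom.ext fun x => Units.ext <| by
  have := congrFun h (di x 1)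
  simpa [vL_di, cv] using this

theorem vLS_inj : Function.Injective (fun α : Fˣ →* ℂˣ => fun g => vL α g * vS (F := F) g) :=
  fun a b h => MonoidHom.ext fun x => Units.ext <| by
    by_cases hx : x = 1
    · simp [hx]
    · have := congrFun h (di x 1)
      simpa [vL_di, vS_di hx, cv] using this

theorem vI_comm (α β : Fˣ →* ℂˣ) {K : Type v} [Field K] [Algebra F K] [Fintype K] [DecidableEq K]
    (hK : Module.finrank F K = 2) : vI α β = vI β α :=
  classFun_ext K hK (Cfsg.Agent.Char.IsChar.classFun (isChar_vI α β))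
    (Cfsg.Agent.Char.IsChar.classFun (isChar_vI β α))
    (fun z => by rw [vI_sc, vI_sc]; ring) (fun z => by rw [vI_un, vI_un]; ring)
    (fun x y h => by rw [vI_di α β h, vI_di β α h]; ring)
    (fun l hl => by rw [vI_ell K hK α β hl, vI_ell K hK β α hl])

theorem vI_inj {α β γ δ : Fˣ →* ℂˣ} (h : vI α β = vI γ δ) :
    (α = γ ∧ β = δ) ∨ (α = δ ∧ β = γ) := by
  have hq : (Fintype.card F : ℂ) + 1 ≠ 0 := (cardF_cast_ne (F := F)).2.2
  -- the identity on all pairs, read on the two coordinates
  have key : ∀ x y : Fˣ, cv α x * cv β y + cv α y * cv β x = cv γ x * cv δ y + cv γ y * cv δ x := by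
    intro x y
    by_cases hxy : x = y
    · subst hxy
      have := congrFun h (sc x)
      rw [vI_sc, vI_sc] at this
      linear_combination 2 * mul_left_cancel₀ hq this
    · have := congrFun h (di x y)
      rwa [vI_di α β hxy, vI_di γ δ hxy] at this
  let P : (Fˣ →* ℂˣ) → (Fˣ →* ℂˣ) → (Fˣ × Fˣ →* ℂˣ) := fun a b =>
    a.comp (MonoidHom.fst Fˣ Fˣ) * b.comp (MonoidHom.snd Fˣ Fˣ)
  have hP : ∀ a b c d, P a b = P c d → a = c ∧ b = d := fun a b c d e =>
    ⟨MonoidHom.ext fun x => by simpa [P] using DFunLike.congr_fun e (x, 1),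
      MonoidHom.ext fun x => by simpa [P] using DFunLike.congr_fun e (1, x)⟩
  have hk : ∀ p : Fˣ × Fˣ, cv (P α β) p + cv (P β α) p = cv (P γ δ) p + cv (P δ γ) p := fun p => by
    have := key p.1 p.2
    simp only [cv, P, MonoidHom.mul_apply, MonoidHom.comp_apply, Units.val_mul,
      MonoidHom.coe_fst, MonoidHom.coe_snd] at this ⊢
    linear_combination this
  rcases pair_eq hk with ⟨h1, -⟩ | ⟨h1, -⟩
  · exact Or.inl (hP _ _ _ _ h1)
  · exact Or.inr (hP _ _ _ _ h1)

/-- Pairs of distinct characters. -/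
noncomputable def pairs (F : Type u) [Field F] [Fintype F] [DecidableEq F] :
    Finset ((Fˣ →* ℂˣ) × (Fˣ →* ℂˣ)) :=
  haveI := Classical.decEq (Fˣ →* ℂˣ)
  univ.filter fun p => p.1 ≠ p.2

theorem mem_pairs {p : (Fˣ →* ℂˣ) × (Fˣ →* ℂˣ)} : p ∈ pairs F ↔ p.1 ≠ p.2 := by simp [pairs]

theorem card_pairs : (pairs F).card + (Fintype.card F - 1) = (Fintype.card F - 1) ^ 2 := by
  classical
  have h : pairs F = (univ : Finset (Fˣ →* ℂˣ)).offDiag := by
    ext p; simp [mem_pairs]
  rw [h, offDiag_card, card_univ, card_homs', Fintype.card_units, sq, Nat.sub_add_cancel]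
  exact Nat.le_mul_self _

variable (K : Type v) [Field K] [Algebra F K] [Fintype K] [DecidableEq K]
  (hK : Module.finrank F K = 2)

/-- The regular characters of `Kˣ`. -/
noncomputable def regs : Finset (Kˣ →* ℂˣ) :=
  haveI := Classical.decPred fun θ : Kˣ →* ℂˣ => Regular (F := F) K θ
  univ.filter fun θ => Regular (F := F) K θ

theorem mem_regs {θ : Kˣ →* ℂˣ} : θ ∈ regs (F := F) K ↔ Regular (F := F) K θ := by simp [regs]

theorem not_regular_iff {θ : Kˣ →* ℂˣ} :
    ¬ Regular (F := F) K θ ↔ ∀ l, cv θ (l ^ (Fintype.card F - 1)) = 1 := by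
  simp only [Regular, not_exists, ne_eq, not_not]
  refine forall_congr' fun l => ?_
  conv_lhs =>
    rw [show Fintype.card F = Fintype.card F - 1 + 1 from (Nat.sub_add_cancel Fintype.card_pos).symm,
      pow_succ, cv_mul]
  exact ⟨fun h => (mul_eq_right₀ (cv_ne_zero θ l)).1 h, fun h => by rw [h, one_mul]⟩

include hK in
theorem card_regs : (regs (F := F) K).card + (Fintype.card F - 1) = Fintype.card F ^ 2 - 1 := by
  classical
  have h1 := card_filter_add_card_filter_not (s := (univ : Finset (Kˣ →* ℂˣ)))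
    (fun θ => Regular (F := F) K θ)
  have h2 : (regs (F := F) K) = univ.filter fun θ => Regular (F := F) K θ := by
    ext; simp [mem_regs]
  have h3 : ((univ : Finset (Kˣ →* ℂˣ)).filter fun θ => ¬ Regular (F := F) K θ).card =
      Fintype.card F - 1 := by
    rw [← Fintype.card_subtype, ← Nat.card_eq_fintype_card,
      Nat.card_congr (Equiv.subtypeEquivRight fun θ => not_regular_iff K (θ := θ)), card_homs_pow,
      show {x : Kˣ // x ^ (Fintype.card F - 1) = 1} = {x : Kˣ // x ^ (Fintype.card F - 1) = 1}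
        from rfl]
    have e : ∀ x : Kˣ, x ^ (Fintype.card F - 1) = 1 ↔ x ∈ (emb (F := F) K).range := by
      intro x
      refine ⟨fun h => ?_, ?_⟩
      · by_contra hx
        refine pow_card_notMem K hx ?_
        rw [show Fintype.card F = Fintype.card F - 1 + 1 from
          (Nat.sub_add_cancel Fintype.card_pos).symm, pow_succ, h, one_mul]
      · rintro ⟨z, rfl⟩
        rw [← map_pow, ← Fintype.card_units, pow_card_eq_one, map_one]
    rw [Nat.card_congr (Equiv.subtypeEquivRight e),
      ← Nat.card_congr (MonoidHom.ofInjective (emb_injective (F := F) K)).toEquiv, Nat.card_units,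
      Nat.card_eq_fintype_card]
  rw [h3, ← h2, card_univ, card_homs', Fintype.card_units, ← Nat.card_eq_fintype_card (α := K),
    card_K K hK] at h1
  exact h1

theorem pow_card_pow_card (hK : Module.finrank F K = 2) (l : Kˣ) :
    (l ^ Fintype.card F) ^ Fintype.card F = l := by
  rw [← pow_mul, ← sq]
  refine Units.ext ?_
  rw [Units.val_pow_eq_pow_val, ← card_K K hK, Nat.card_eq_fintype_card, FiniteField.pow_card]

/-- The conjugate character. -/
noncomputable def twist (θ : Kˣ →* ℂˣ) : Kˣ →* ℂˣ := θ.comp (powMonoidHom (Fintype.card F))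

theorem cv_twist (θ : Kˣ →* ℂˣ) (l : Kˣ) :
    cv (twist (F := F) K θ) l = cv θ (l ^ Fintype.card F) := rfl

theorem cv_twist_emb (θ : Kˣ →* ℂˣ) (z : Fˣ) :
    cv (twist (F := F) K θ) (emb (F := F) K z) = cv θ (emb (F := F) K z) := by
  rw [cv_twist, ← map_pow, show z ^ Fintype.card F = z from Units.ext (by
    rw [Units.val_pow_eq_pow_val, FiniteField.pow_card])]

theorem vD_twist (θ : Kˣ →* ℂˣ) :
    vD (F := F) K hK (twist (F := F) K θ) = vD (F := F) K hK θ :=
  classFun_ext K hK (Cfsg.Agent.Char.IsGenChar.classFun (isGen_vD K hK _))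
    (Cfsg.Agent.Char.IsGenChar.classFun (isGen_vD K hK θ))
    (fun z => by rw [vD_sc, vD_sc, cv_twist_emb]) (fun z => by rw [vD_un, vD_un, cv_twist_emb])
    (fun x y h => by rw [vD_di K hK _ h, vD_di K hK θ h])
    (fun l hl => by
      rw [vD_ell K hK _ hl, vD_ell K hK θ hl, cv_twist, cv_twist, pow_card_pow_card K hK, add_comm])

theorem vD_inj {θ φ : Kˣ →* ℂˣ} (h : vD (F := F) K hK θ = vD K hK φ) :
    φ = θ ∨ φ = twist (F := F) K θ := by
  have hq : (Fintype.card F : ℂ) - 1 ≠ 0 := (cardF_cast_ne (F := F)).2.1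
  have key : ∀ l, cv φ l + cv (twist (F := F) K φ) l = cv θ l + cv (twist (F := F) K θ) l := by
    intro l
    by_cases hl : l ∈ (emb (F := F) K).range
    · obtain ⟨z, rfl⟩ := hl
      have := congrFun h (sc z)
      rw [vD_sc, vD_sc] at this
      rw [cv_twist_emb, cv_twist_emb, mul_left_cancel₀ hq this]
    · have := congrFun h (ell K hK l)
      rw [vD_ell K hK θ hl, vD_ell K hK φ hl, neg_inj] at this
      rw [cv_twist, cv_twist, this]
  rcases pair_eq key with ⟨h1, -⟩ | ⟨h1, -⟩
  · exact Or.inl h1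
  · exact Or.inr h1

/-- Linear characters, as functions. -/
noncomputable def listL : Finset (GG → ℂ) :=
  univ.image (vL (F := F))

/-- Twisted Steinberg characters. -/
noncomputable def listS : Finset (GG → ℂ) :=
  univ.image fun α : Fˣ →* ℂˣ => fun g => vL α g * vS (F := F) g

/-- Principal series. -/
noncomputable def listI : Finset (GG → ℂ) :=
  (pairs F).image fun p => vI p.1 p.2

/-- Discrete series. -/
noncomputable def listD : Finset (GG → ℂ) :=
  (regs (F := F) K).image (vD (F := F) K hK)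

theorem mem_listL {f : GG → ℂ} : f ∈ listL (F := F) ↔ ∃ α, f = vL α := by
  simp [listL, eq_comm]

theorem mem_listS {f : GG → ℂ} :
    f ∈ listS (F := F) ↔ ∃ α : Fˣ →* ℂˣ, f = fun g => vL α g * vS (F := F) g := by
  simp [listS, eq_comm]

theorem mem_listI {f : GG → ℂ} : f ∈ listI (F := F) ↔ ∃ α β, α ≠ β ∧ f = vI α β := by
  simp [listI, mem_pairs, eq_comm]

theorem mem_listD {f : GG → ℂ} :
    f ∈ listD (F := F) K hK ↔ ∃ θ, Regular (F := F) K θ ∧ f = vD (F := F) K hK θ := by
  simp [listD, mem_regs, eq_comm]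

theorem values_listL {f : GG → ℂ} (h : f ∈ listL (F := F)) : f 1 = 1 ∧ f (un 1) = 1 := by
  obtain ⟨α, rfl⟩ := mem_listL.1 h
  rw [← sc_one, vL_sc, vL_un]
  simp [cv]

theorem values_listS {f : GG → ℂ} (h : f ∈ listS (F := F)) :
    f 1 = Fintype.card F ∧ f (un 1) = 0 := by
  obtain ⟨α, rfl⟩ := mem_listS.1 h
  simp only [← sc_one, vL_sc, vL_un, vS_sc, vS_un]
  simp [cv]

theorem values_listI {f : GG → ℂ} (h : f ∈ listI (F := F)) :
    f 1 = (Fintype.card F : ℂ) + 1 ∧ f (un 1) = 1 := by
  obtain ⟨α, β, -, rfl⟩ := mem_listI.1 h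
  rw [← sc_one, vI_sc, vI_un]
  simp [cv]

theorem values_listD {f : GG → ℂ} (h : f ∈ listD (F := F) K hK) :
    f 1 = (Fintype.card F : ℂ) - 1 ∧ f (un 1) = -1 := by
  obtain ⟨θ, -, rfl⟩ := (mem_listD K hK).1 h
  rw [← sc_one, vD_sc, vD_un]
  simp [cv]

theorem card_listL : (listL (F := F)).card = Fintype.card F - 1 := by
  rw [listL, card_image_of_injective _ vL_inj, card_univ, card_homs', Fintype.card_units]

theorem card_listS : (listS (F := F)).card = Fintype.card F - 1 := by
  rw [listS, card_image_of_injective _ vLS_inj, card_univ, card_homs', Fintype.card_units]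

include K hK in
theorem card_listI :
    (listI (F := F)).card * 2 + (Fintype.card F - 1) = (Fintype.card F - 1) ^ 2 := by
  classical
  rw [← card_pairs]
  congr 1
  convert card_image_two (pairs F) (fun p => vI p.1 p.2) (fun p => (p.2, p.1)) ?_ ?_
  · rw [listI]
  · intro p hp
    refine ⟨mem_pairs.2 (mem_pairs.1 hp).symm, fun e => mem_pairs.1 hp ?_, vI_comm p.2 p.1 hK⟩
    exact (congrArg Prod.fst e).symm
  · intro p _ r _ e
    rcases vI_inj e with ⟨h1, h2⟩ | ⟨h1, h2⟩
    · exact Or.inl (Prod.ext h1.symm h2.symm)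
    · exact Or.inr (Prod.ext h2.symm h1.symm)

theorem card_listD :
    (listD (F := F) K hK).card * 2 + (Fintype.card F - 1) = Fintype.card F ^ 2 - 1 := by
  classical
  rw [← card_regs K hK]
  congr 1
  convert card_image_two (regs (F := F) K) (vD (F := F) K hK) (twist (F := F) K) ?_ ?_
  · rw [listD]
  · intro θ hθ
    obtain ⟨l, hl⟩ := (mem_regs K).1 hθ
    refine ⟨(mem_regs K).2 ⟨l, ?_⟩, fun e => hl ?_, vD_twist K hK θ⟩
    · rw [cv_twist, cv_twist, pow_card_pow_card K hK]
      exact Ne.symm hl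
    · rw [← cv_twist, e]
  · intro θ _ φ _ e
    exact vD_inj K hK e

/-- All irreducible characters of `GL(2, F)`. -/
noncomputable def listAll : Finset (GG → ℂ) :=
  listL ∪ listS ∪ listI ∪ listD (F := F) K hK

theorem mem_listAll {f : GG → ℂ} : f ∈ listAll (F := F) K hK ↔
    f ∈ listL ∨ f ∈ listS ∨ f ∈ listI ∨ f ∈ listD (F := F) K hK := by
  simp [listAll, or_assoc]

theorem listAll_irr : ∀ f ∈ listAll (F := F) K hK, IsIrrCharacter GG f := by
  intro f hf
  rcases (mem_listAll K hK).1 hf with h | h | h | h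
  · obtain ⟨α, rfl⟩ := mem_listL.1 h
    exact isIrr_vL α
  · obtain ⟨α, rfl⟩ := mem_listS.1 h
    exact Cfsg.Agent.Char.IsIrr.mul_linear (isIrr_vS K hK) (α.comp (detu (F := F)))
  · obtain ⟨α, β, hne, rfl⟩ := mem_listI.1 h
    exact isIrr_vI K hK hne
  · obtain ⟨θ, hθ, rfl⟩ := (mem_listD K hK).1 h
    exact isIrr_vD K hK hθ

theorem sum_listAll (g : (GG → ℂ) → ℂ) :
    ∑ f ∈ listAll (F := F) K hK, g f = ∑ f ∈ listL, g f + ∑ f ∈ listS, g f + ∑ f ∈ listI, g f +
      ∑ f ∈ listD (F := F) K hK, g f := by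
  classical
  have hq : (Fintype.card F : ℂ) ≠ 0 := (cardF_cast_ne (F := F)).1
  rw [listAll, sum_union, sum_union, sum_union]
  all_goals rw [disjoint_left]; intro f hf hf'
  · obtain ⟨-, h1⟩ := values_listL hf
    obtain ⟨-, h2⟩ := values_listS hf'
    rw [h1] at h2; exact one_ne_zero h2
  · obtain ⟨hi, h2⟩ := values_listI hf'
    rcases mem_union.1 hf with hf | hf
    · rw [(values_listL hf).1] at hi
      exact hq (by linear_combination -hi)
    · rw [(values_listS hf).1] at hi
      exact one_ne_zero (by linear_combination -hi : (1 : ℂ) = 0)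
  · obtain ⟨-, h2⟩ := values_listD K hK hf'
    rcases mem_union.1 hf with hf | hf
    · rcases mem_union.1 hf with hf | hf
      · rw [(values_listL hf).2] at h2; norm_num at h2
      · rw [(values_listS hf).2] at h2; norm_num at h2
    · rw [(values_listI hf).2] at h2; norm_num at h2

theorem listAll_sum : ∑ f ∈ listAll (F := F) K hK, f 1 ^ 2 = (Nat.card GG : ℂ) := by
  rw [sum_listAll, sum_congr rfl fun f hf => by rw [(values_listL hf).1],
    sum_congr rfl (fun f hf => by rw [(values_listS hf).1] : ∀ f ∈ listS (F := F), f 1 ^ 2 = _),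
    sum_congr rfl (fun f hf => by rw [(values_listI hf).1] : ∀ f ∈ listI (F := F), f 1 ^ 2 = _),
    sum_congr rfl (fun f hf => by rw [(values_listD K hK hf).1] :
      ∀ f ∈ listD (F := F) K hK, f 1 ^ 2 = _)]
  simp only [sum_const, nsmul_eq_mul, card_listL, card_listS, card_GG]
  have hI := congrArg (Nat.cast (R := ℂ)) (card_listI (F := F) K hK)
  have hD := congrArg (Nat.cast (R := ℂ)) (card_listD (F := F) K hK)
  simp only [Nat.cast_add, Nat.cast_mul, Nat.cast_pow, Nat.cast_sub Fintype.card_pos,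
    Nat.cast_sub (Nat.one_le_pow 2 _ Fintype.card_pos), Nat.cast_ofNat, Nat.cast_one] at hI hD ⊢
  linear_combination ((Fintype.card F : ℂ) + 1) ^ 2 / 2 * hI +
    ((Fintype.card F : ℂ) - 1) ^ 2 / 2 * hD

theorem irr_mem_listAll {χ : GG → ℂ} (h : IsIrrCharacter GG χ) : χ ∈ listAll (F := F) K hK :=
  mem_of_complete (listAll_irr K hK) (listAll_sum K hK) h

end Cfsg.Agent.Block.SL2Char
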