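import Mathlib
import Cfsg.Agent.Lib.Block.SL2Char.GLTable

/-!
The character table of `GL(2, q)`, in a form that does not mention the quadratic extension.
-/

set_option linter.unusedSectionVars false

namespace Cfsg.Agent.Block.SL2Char

open Matrix Finset

universe u

variable {F : Type u} [Field F] [Fintype F] [DecidableEq F]

local notation "GG" => GL (Fin 2) F

variable (F) in
/-- A quadratic extension of a finite field exists. -/
theorem exists_model : ∃ (K : Type) (_ : Field K) (_ : Algebra F K) (_ : Fintype K)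
    (_ : DecidableEq K), Module.finrank F K = 2 := by
  classical
  obtain ⟨p, hp⟩ := CharP.exists F
  haveI := hp
  haveI : Fact p.Prime := ⟨CharP.char_is_prime F p⟩
  exact ⟨FiniteField.Extension F p 2, inferInstance, inferInstance, Fintype.ofFinite _,
    Classical.decEq _, FiniteField.finrank_extension F p 2⟩

theorem eq_di_of_diag {g : GG} (h01 : (g : Matrix (Fin 2) (Fin 2) F) 0 1 = 0)
    (h10 : (g : Matrix (Fin 2) (Fin 2) F) 1 0 = 0)
    (hne : (g : Matrix (Fin 2) (Fin 2) F) 0 0 ≠ (g : Matrix (Fin 2) (Fin 2) F) 1 1) :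
    ∃ x y : Fˣ, x ≠ y ∧ g = di x y := by
  obtain ⟨h0, h1⟩ := diag_ne_zero (mem_BB.2 h10)
  refine ⟨Units.mk0 _ h0, Units.mk0 _ h1, fun e => hne (congrArg Units.val e), ?_⟩
  refine Units.ext (Matrix.ext fun i j => ?_)
  fin_cases i <;> fin_cases j <;> simp [h01, h10]

theorem ell_of_noeig {g : GG}
    (h : ∀ (c : F) (v : Fin 2 → F), v ≠ 0 → (g : Matrix (Fin 2) (Fin 2) F).mulVec v ≠ c • v)
    (K : Type*) [Field K] [Algebra F K] [Fintype K] [DecidableEq K]
    (hK : Module.finrank F K = 2) :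
    ∃ l : Kˣ, l ∉ (emb (F := F) K).range ∧ IsConj (ell (F := F) K hK l) g := by
  have hne : ∀ r : GG, (r : Matrix (Fin 2) (Fin 2) F) 1 0 = 0 → IsConj r g → False := by
    intro r hr hrg
    obtain ⟨c, rfl⟩ := isConj_iff.1 hrg
    refine h ((r : Matrix (Fin 2) (Fin 2) F) 0 0) ((c : Matrix (Fin 2) (Fin 2) F) *ᵥ ![1, 0]) ?_ ?_
    · intro e
      have := congrArg ((c⁻¹ : GG) : Matrix (Fin 2) (Fin 2) F).mulVec e
      rw [Matrix.mulVec_mulVec, ← GeneralLinearGroup.coe_mul, inv_mul_cancel, Matrix.mulVec_zero]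
        at this
      simpa using congrFun this 0
    · rw [Matrix.mulVec_mulVec, ← GeneralLinearGroup.coe_mul, inv_mul_cancel_right,
        GeneralLinearGroup.coe_mul, ← Matrix.mulVec_mulVec, ← Matrix.mulVec_smul]
      congr 1
      ext i
      fin_cases i <;> simp [Matrix.mulVec, dotProduct, Fin.sum_univ_two, hr]
  rcases cases K hK g with ⟨z, rfl⟩ | ⟨z, hz⟩ | ⟨x, y, -, hz⟩ | hh
  · exact (hne (sc z) (by simp) (IsConj.refl _)).elim
  · exact (hne (un z) (by simp) hz).elim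
  · exact (hne (di x y) (by simp) hz).elim
  · exact hh

theorem apply_eq_of_conj {f : GG → ℂ} (hf : IsIrrCharacter GG f) {r g : GG} (h : IsConj r g) :
    f g = f r := by
  obtain ⟨c, rfl⟩ := isConj_iff.1 h
  exact Cfsg.Agent.Char.IsIrr.classFun hf r c

theorem cardF_sub_one {q : ℕ} (hq : 1 ≤ q) : ((q - 1 : ℕ) : ℂ) = (q : ℂ) - 1 := by
  rw [Nat.cast_sub hq, Nat.cast_one]

variable (K : Type*) [Field K] [Algebra F K] [Fintype K] [DecidableEq K]
  (hK : Module.finrank F K = 2)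

include hK in
/-- The degrees, with the value at the basic unipotent element. -/
theorem irr_cases {χ : GG → ℂ} (h : IsIrrCharacter GG χ) :
    (χ ∈ listL ∧ χ 1 = 1 ∧ χ (un 1) = 1) ∨
    (χ ∈ listS ∧ χ 1 = Fintype.card F ∧ χ (un 1) = 0) ∨
    (χ ∈ listI ∧ χ 1 = (Fintype.card F : ℂ) + 1 ∧ χ (un 1) = 1) ∨
    (χ ∈ listD (F := F) K hK ∧ χ 1 = (Fintype.card F : ℂ) - 1 ∧ χ (un 1) = -1) := by
  rcases (mem_listAll K hK).1 (irr_mem_listAll K hK h) with hl | hl | hl | hl
  · exact Or.inl ⟨hl, values_listL hl⟩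
  · exact Or.inr (Or.inl ⟨hl, values_listS hl⟩)
  · exact Or.inr (Or.inr (Or.inl ⟨hl, values_listI hl⟩))
  · exact Or.inr (Or.inr (Or.inr ⟨hl, values_listD K hK hl⟩))

theorem natCast_ne {a b : ℕ} (h : a ≠ b) : (a : ℂ) ≠ b := fun e => h (Nat.cast_injective e)

/-- Counting by degree in a list with four constant degrees. -/
theorem count_by_degree {G : Type*} [Group G] [Fintype G] {L A B C D : Finset (G → ℂ)}
    (hirr : ∀ f ∈ L, IsIrrCharacter G f) (hsum : ∑ f ∈ L, f 1 ^ 2 = (Nat.card G : ℂ))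
    (hL : ∀ f, f ∈ L ↔ f ∈ A ∨ f ∈ B ∨ f ∈ C ∨ f ∈ D) {a b c d : ℂ}
    (hA : ∀ f ∈ A, f 1 = a) (hB : ∀ f ∈ B, f 1 = b) (hC : ∀ f ∈ C, f 1 = c) (hD : ∀ f ∈ D, f 1 = d)
    (hab : a ≠ b) (hac : a ≠ c) (had : a ≠ d) :
    Nat.card {χ : IrrCharacter G // (χ : G → ℂ) 1 = a} = A.card := by
  classical
  rw [card_degree hirr hsum]
  congr 1
  ext f
  simp only [mem_filter, hL]
  refine ⟨fun ⟨hf, e⟩ => ?_, fun hf => ⟨Or.inl hf, hA f hf⟩⟩
  rcases hf with hf | hf | hf | hf
  · exact hf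
  · exact absurd (e.symm.trans (hB f hf)) hab
  · exact absurd (e.symm.trans (hC f hf)) hac
  · exact absurd (e.symm.trans (hD f hf)) had

end Cfsg.Agent.Block.SL2Char
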