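import Mathlib
import Cfsg.Agent.Lib.Block.SL2Char.GLFacts
import Cfsg.Agent.Lib.Char.Clifford
import Cfsg.Agent.Lib.Char.Kernel
import Cfsg.Agent.Lib.Char.Quotient

/-!
Restriction from `GL(2, q)` to `SL(2, q)`: sums, conjugation by `GL(2, q)`, norm one or two.
-/

set_option linter.unusedSectionVars false

namespace Cfsg.Agent.Block.SL2Char

open Matrix Finset
open scoped ComplexConjugate

universe u v

variable {F : Type u} [Field F] [Fintype F] [DecidableEq F]

local notation "GG" => GL (Fin 2) F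
local notation "SS" => Matrix.SpecialLinearGroup (Fin 2) F
local notation "tg" => (Matrix.SpecialLinearGroup.toGL : SS →* GG)

/-- An element of `GL(2, F)` of determinant one, in `SL(2, F)`. -/
noncomputable def mkS (g : GG) (h : dt g = 1) : SS :=
  ⟨(g : Matrix (Fin 2) (Fin 2) F), by rw [← dt_eq_det]; exact h⟩

@[simp] theorem toGL_mkS (g : GG) (h : dt g = 1) : tg (mkS g h) = g := Units.ext rfl

/-- Conjugation by `GL(2, F)` on `SL(2, F)`. -/
noncomputable def cjS (x : GG) : SS ≃* SS where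
  toFun s := mkS (x * tg s * x⁻¹) (by rw [dt_conj, dt_toGL])
  invFun s := mkS (x⁻¹ * tg s * x⁻¹⁻¹) (by rw [dt_conj, dt_toGL])
  left_inv s := SpecialLinearGroup.toGL_injective (by
    show tg _ = tg s
    rw [toGL_mkS, toGL_mkS]; group)
  right_inv s := SpecialLinearGroup.toGL_injective (by
    show tg _ = tg s
    rw [toGL_mkS, toGL_mkS]; group)
  map_mul' a b := SpecialLinearGroup.toGL_injective (by
    show tg _ = tg (_ * _)
    rw [toGL_mkS, map_mul, map_mul, toGL_mkS, toGL_mkS]; group)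

@[simp] theorem toGL_cjS (x : GG) (s : SS) : tg (cjS x s) = x * tg s * x⁻¹ :=
  toGL_mkS _ (by rw [dt_conj, dt_toGL])

theorem eq_cjS {x : GG} {s t : SS} (h : tg t = x * tg s * x⁻¹) : t = cjS x s :=
  SpecialLinearGroup.toGL_injective (h.trans (toGL_cjS x s).symm)

theorem cjS_mul (x y : GG) (s : SS) : cjS (x * y) s = cjS x (cjS y s) :=
  SpecialLinearGroup.toGL_injective (by
    show tg _ = tg _
    rw [toGL_cjS, toGL_cjS, toGL_cjS]; group)

theorem cjS_toGL (y s : SS) : cjS (tg y) s = y * s * y⁻¹ :=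
  SpecialLinearGroup.toGL_injective (by
    show tg _ = tg _
    rw [toGL_cjS, map_mul, map_mul, map_inv])

theorem cjS_of_commute {x : GG} {s : SS} (h : x * tg s = tg s * x) : cjS x s = s :=
  SpecialLinearGroup.toGL_injective (by
    show tg _ = tg _
    rw [toGL_cjS, h, mul_inv_cancel_right])

/-- Invariant under conjugation by `GL(2, F)`. -/
def InvS (f : SS → ℂ) : Prop := ∀ (x : GG) (s : SS), f (cjS x s) = f s

theorem classFun_cjS {f : SS → ℂ} (hf : IsClassFunction SS f) (y s : SS) :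
    f (cjS (tg y) s) = f s := by
  rw [cjS_toGL]; exact hf s y

/-- An element centralized by matrices of every determinant. -/
def FullDet (g : GG) : Prop := ∀ d : Fˣ, ∃ c : GG, c * g = g * c ∧ detu c = d

theorem fullDet_conj {g : GG} (h : FullDet g) (x : GG) : FullDet (x * g * x⁻¹) := fun d => by
  obtain ⟨c, hc, hd⟩ := h d
  refine ⟨x * c * x⁻¹, ?_, ?_⟩
  · calc x * c * x⁻¹ * (x * g * x⁻¹) = x * (c * g) * x⁻¹ := by group
      _ = x * g * x⁻¹ * (x * c * x⁻¹) := by rw [hc]; group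
  · rw [map_mul, map_mul, map_inv, hd, mul_comm (detu x), mul_inv_cancel_right]

theorem exists_toGL_of_detu {g : GG} (h : detu g = 1) : ∃ y : SS, tg y = g := by
  refine ⟨mkS g ?_, toGL_mkS _ _⟩
  rw [← detu_val, h, Units.val_one]

theorem eq_of_fullDet {f : SS → ℂ} (hf : IsClassFunction SS f) {s : SS} (hs : FullDet (tg s))
    (x : GG) : f (cjS x s) = f s := by
  obtain ⟨c, hc, hd⟩ := hs (detu x)
  obtain ⟨y, hy⟩ := exists_toGL_of_detu (g := x * c⁻¹) (by
    rw [map_mul, map_inv, hd, mul_inv_cancel])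
  rw [show x = tg y * c by rw [hy, inv_mul_cancel_right], cjS_mul, cjS_of_commute hc,
    classFun_cjS hf]

theorem fullDet_sc (z : Fˣ) : FullDet (sc z : GG) := fun d =>
  ⟨di d 1, sc_central z _, detu_eq (by simp [dt_di])⟩

theorem fullDet_di (x y : Fˣ) : FullDet (di x y : GG) := fun d =>
  ⟨di d 1, Units.ext (by simp [Matrix.mul_fin_two, mul_comm]), detu_eq (by simp [dt_di])⟩

/-! ### the elements killed by `q + 1` and the roots of unity of order two -/

/-- The square roots of one. -/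
def Z2 (F : Type u) [Field F] [Fintype F] [DecidableEq F] : Finset Fˣ :=
  univ.filter fun z => z * z = 1

theorem mem_Z2 {z : Fˣ} : z ∈ Z2 F ↔ z * z = 1 := by simp [Z2]

theorem one_mem_Z2 : (1 : Fˣ) ∈ Z2 F := mem_Z2.2 (one_mul 1)

theorem inv_eq_of_mem_Z2 {z : Fˣ} (h : z ∈ Z2 F) : z⁻¹ = z := inv_eq_of_mul_eq_one_right (mem_Z2.1 h)

theorem ne_inv_iff {x : Fˣ} : x ≠ x⁻¹ ↔ x ∉ Z2 F := by
  rw [mem_Z2, ne_eq, eq_inv_iff_mul_eq_one]

theorem eq_one_or_neg {z : Fˣ} (h : z ∈ Z2 F) : z = 1 ∨ z = -1 := by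
  have h' : (z : F) * z = 1 := congrArg Units.val (mem_Z2.1 h)
  rcases mul_self_eq_one_iff.1 h' with h1 | h1
  · exact Or.inl (Units.ext h1)
  · exact Or.inr (Units.ext (by simpa using h1))

theorem neg_one_mem_Z2 : (-1 : Fˣ) ∈ Z2 F := mem_Z2.2 (by simp)

theorem card_Z2_odd (hodd : Odd (Fintype.card F)) : (Z2 F).card = 2 := by
  have hne : (-1 : F) ≠ 1 := by
    intro h
    have hc : CharP F 2 := CharTwo.of_one_ne_zero_of_two_eq_zero one_ne_zero
      (by linear_combination -h)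
    exact (Nat.not_even_iff_odd.2 hodd) (even_iff_two_dvd.2
      ((CharP.cast_eq_zero_iff F 2 _).1 (FiniteField.cast_card_eq_zero F)))
  rw [show Z2 F = {1, -1} by
    ext z
    simp only [mem_insert, mem_singleton]
    exact ⟨eq_one_or_neg, by rintro (rfl | rfl) <;> [exact one_mem_Z2; exact neg_one_mem_Z2]⟩]
  exact card_pair fun h => hne (by simpa using congrArg Units.val h.symm)

theorem card_Z2_even [CharP F 2] : (Z2 F).card = 1 := by
  rw [show Z2 F = {1} by
    ext z
    simp only [mem_singleton]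
    refine ⟨fun h => ?_, fun h => h ▸ one_mem_Z2⟩
    rcases eq_one_or_neg h with rfl | rfl
    · rfl
    · exact Units.ext (by simp [CharTwo.neg_eq])]
  exact card_singleton _

theorem cv_sq_Z2 {α : Fˣ →* ℂˣ} {z : Fˣ} (h : z ∈ Z2 F) : cv α z * cv α z = 1 := by
  rw [← cv_mul, mem_Z2.1 h, cv_one]

theorem conj_cv_Z2 {α : Fˣ →* ℂˣ} {z : Fˣ} (h : z ∈ Z2 F) : conj (cv α z) = cv α z := by
  rw [conj_cv, inv_eq_of_mem_Z2 h]

variable (K : Type v) [Field K] [Algebra F K] [Fintype K] [DecidableEq K]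
  (hK : Module.finrank F K = 2)

variable (F) in
/-- The elements of norm one. -/
noncomputable def U1 : Subgroup Kˣ := (powMonoidHom (Fintype.card F + 1) : Kˣ →* Kˣ).ker

theorem mem_U1 {l : Kˣ} : l ∈ U1 F K ↔ l ^ (Fintype.card F + 1) = 1 := by
  simp [U1, MonoidHom.mem_ker]

noncomputable instance fintypeU1 : Fintype (U1 F K) := Fintype.ofFinite _

include hK in
theorem card_unitsK_nat : Nat.card Kˣ = (Fintype.card F - 1) * (Fintype.card F + 1) := by
  rw [Nat.card_units, card_K K hK, mul_comm, ← Nat.sq_sub_sq, one_pow]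

include hK in
theorem card_U1 : Fintype.card (U1 F K) = Fintype.card F + 1 := by
  rw [← Nat.card_eq_fintype_card, U1, IsCyclic.card_powMonoidHom_ker, card_unitsK_nat K hK,
    Nat.gcd_eq_right (dvd_mul_left _ _)]

/-- A square root of one, as an element of norm one. -/
noncomputable def embU (z : Fˣ) (h : z ∈ Z2 F) : U1 F K := ⟨emb (F := F) K z, (mem_U1 K).2 <| by
  rw [← map_pow, show Fintype.card F + 1 = (Fintype.card F - 1) + 2 by
    have := Fintype.card_pos (α := F); omega, pow_add, ← Fintype.card_units, pow_card_eq_one,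
    one_mul, sq, mem_Z2.1 h, map_one]⟩

theorem val_embU (z : Fˣ) (h : z ∈ Z2 F) : (embU K z h : Kˣ) = emb (F := F) K z := rfl

theorem mem_range_iff (l : U1 F K) :
    (l : Kˣ) ∈ (emb (F := F) K).range ↔ ∃ z, ∃ h : z ∈ Z2 F, embU K z h = l := by
  refine ⟨fun ⟨z, hz⟩ => ?_, fun ⟨z, h, e⟩ => ⟨z, by rw [← e]; rfl⟩⟩
  refine ⟨z, mem_Z2.2 ?_, Subtype.ext hz⟩
  have h1 := (mem_U1 K).1 l.2
  rw [← hz, ← map_pow, show Fintype.card F + 1 = (Fintype.card F - 1) + 2 by
    have := Fintype.card_pos (α := F); omega, pow_add, ← Fintype.card_units, pow_card_eq_one,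
    one_mul, sq] at h1
  exact emb_injective K (h1.trans (map_one _).symm)

theorem sq_eq_one_iff_mem_range (l : U1 F K) :
    l * l = 1 ↔ (l : Kˣ) ∈ (emb (F := F) K).range := by
  refine ⟨fun h => ?_, fun h => ?_⟩
  · have h' : ((l : Kˣ) : K) * (l : Kˣ) = 1 :=
      congrArg (fun u : U1 F K => ((u : Kˣ) : K)) h
    rcases mul_self_eq_one_iff.1 h' with h1 | h1
    · exact ⟨1, Units.ext (by rw [map_one, Units.val_one, h1])⟩
    · exact ⟨-1, Units.ext (by simp [emb, h1])⟩
  · obtain ⟨z, hz, rfl⟩ := (mem_range_iff K l).1 h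
    exact Subtype.ext (by
      simp only [Subgroup.coe_mul, val_embU, ← map_mul, mem_Z2.1 hz, map_one, Subgroup.coe_one])

theorem sum_U1 (f : U1 F K → ℂ) :
    ∑ l : U1 F K, f l =
      ∑ l ∈ (univ : Finset (U1 F K)).filter (fun l => ¬ l * l = 1), f l +
        ∑ z ∈ (Z2 F).attach, f (embU K z.1 z.2) := by
  classical
  rw [← sum_filter_add_sum_filter_not univ (fun l : U1 F K => ¬ l * l = 1) f]
  congr 1
  refine (sum_bij (fun z _ => embU K z.1 z.2) (fun z _ => ?_) (fun a _ b _ e => ?_)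
    (fun l hl => ?_) fun _ _ => rfl).symm
  · simpa using (sq_eq_one_iff_mem_range K _).2 ⟨z.1, rfl⟩
  · exact Subtype.ext (emb_injective K (congrArg Subtype.val e))
  · obtain ⟨z, hz, e⟩ := (mem_range_iff K l).1 ((sq_eq_one_iff_mem_range K l).1 (by simpa using hl))
    exact ⟨⟨z, hz⟩, mem_attach _ _, e⟩

theorem sum_outF_U1 (f : Kˣ → ℂ) :
    ∑ l ∈ (outF (F := F) K).filter (fun l => l ^ (Fintype.card F + 1) = 1), f l =
      ∑ l ∈ (univ : Finset (U1 F K)).filter (fun l => ¬ l * l = 1), f l := by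
  classical
  refine sum_bij (fun l hl => (⟨l, (mem_U1 K).2 (mem_filter.1 hl).2⟩ : U1 F K)) (fun l hl => ?_)
    (fun a _ b _ e => congrArg Subtype.val e) (fun l hl => ?_) fun _ _ => rfl
  · simp only [mem_filter, mem_univ, true_and, sq_eq_one_iff_mem_range]
    exact (mem_outF K).1 (mem_filter.1 hl).1
  · simp only [mem_filter, mem_univ, true_and, sq_eq_one_iff_mem_range] at hl
    exact ⟨l, mem_filter.2 ⟨(mem_outF K).2 hl, (mem_U1 K).1 l.2⟩, rfl⟩

include hK in
/-- The sum over `SL(2, F)` of a class function of `GL(2, F)` with constant values at the scalar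
and unipotent representatives. -/
theorem sum_SS_master {f : GG → ℂ} (hf : IsClassFunction GG f) {A B G0 H0 : ℂ} {g : Fˣ → ℂ}
    {h : U1 F K → ℂ} (hA : ∀ z ∈ Z2 F, f (sc z) = A) (hB : ∀ z ∈ Z2 F, f (un z) = B)
    (hg : ∀ x, x ≠ x⁻¹ → f (di x x⁻¹) = g x) (hgZ : ∀ z ∈ Z2 F, g z = G0)
    (hh : ∀ l : U1 F K, (l : Kˣ) ∉ (emb (F := F) K).range → f (ell K hK l) = h l)
    (hhZ : ∀ z (hz : z ∈ Z2 F), h (embU K z hz) = H0) :
    ∑ s : SS, f (tg s) = ((Z2 F).card : ℂ) * A +
      ((Fintype.card F : ℂ) ^ 2 - 1) * (((Z2 F).card : ℂ) * B) +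
      (Fintype.card F : ℂ) * ((Fintype.card F : ℂ) + 1) / 2 *
        (∑ x : Fˣ, g x - ((Z2 F).card : ℂ) * G0) +
      (Fintype.card F : ℂ) * ((Fintype.card F : ℂ) - 1) / 2 *
        (∑ l : U1 F K, h l - ((Z2 F).card : ℂ) * H0) := by
  classical
  rw [sum_SS_eq K hK hf, show (univ : Finset Fˣ).filter (fun z => z * z = 1) = Z2 F from rfl]
  congr 1
  congr 1
  congr 1
  · rw [sum_congr rfl hA, sum_const, nsmul_eq_mul]
  · rw [sum_congr rfl hB, sum_const, nsmul_eq_mul]
  · congr 1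
    rw [sum_congr rfl fun x hx => hg x (mem_filter.1 hx).2,
      show (univ : Finset Fˣ).filter (fun x => x ≠ x⁻¹) = univ \ Z2 F by
        ext x; simp [ne_inv_iff],
      sum_sdiff_eq_sub (subset_univ _), sum_congr rfl hgZ, sum_const, nsmul_eq_mul]
  · congr 1
    rw [sum_outF_U1, sum_congr rfl fun l hl => hh l (by
        simpa [sq_eq_one_iff_mem_range] using hl),
      sum_U1, sum_congr rfl (fun (z : {z // z ∈ Z2 F}) _ => hhZ z.1 z.2), sum_const, card_attach, nsmul_eq_mul,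
      add_sub_cancel_right]

/-- Restriction to `SL(2, F)`. -/
noncomputable def resS (f : GG → ℂ) : SS → ℂ := fun s => f (tg s)

theorem resS_apply (f : GG → ℂ) (s : SS) : resS f s = f (tg s) := rfl

theorem resS_one (f : GG → ℂ) : resS f 1 = f 1 := by rw [resS_apply, map_one]

theorem isChar_resS {f : GG → ℂ} (hf : IsCharacter GG f) : IsCharacter SS (resS f) :=
  Cfsg.Agent.Char.IsChar.comp tg hf

theorem invS_resS {f : GG → ℂ} (hf : IsClassFunction GG f) : InvS (resS f) := fun x s => by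
  rw [resS_apply, resS_apply, toGL_cjS]; exact hf _ _

/-- The norm of a restriction. -/
theorem norm_resS {f : GG → ℂ} {T : ℂ} (h : ∑ s : SS, f (tg s) * conj (f (tg s)) =
    (Fintype.card F : ℂ) * ((Fintype.card F : ℂ) ^ 2 - 1) * T) :
    classInner (resS f) (resS f) = T := by
  rw [classInner]
  simp only [resS_apply]
  rw [h, ← card_SS, inv_mul_cancel_left₀ (Nat.cast_ne_zero.2 Nat.card_pos.ne')]

include hK in
/-- Two class functions of `GL(2, F)` agreeing at the representatives in `SL(2, F)`. -/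
theorem resS_ext {f h : GG → ℂ} (hf : IsClassFunction GG f) (hh : IsClassFunction GG h)
    (h1 : ∀ z ∈ Z2 F, f (sc z) = h (sc z)) (h2 : ∀ z ∈ Z2 F, f (un z) = h (un z))
    (h3 : ∀ x, x ≠ x⁻¹ → f (di x x⁻¹) = h (di x x⁻¹))
    (h4 : ∀ l : U1 F K, (l : Kˣ) ∉ (emb (F := F) K).range → f (ell K hK l) = h (ell K hK l)) :
    resS f = resS h := by
  funext s
  have hd := dt_toGL s
  have key : ∀ r, IsConj r (tg s) → (dt r = 1 → f r = h r) → f (tg s) = h (tg s) := by
    intro r hr e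
    obtain ⟨c, hc⟩ := isConj_iff.1 hr
    rw [← hc, dt_conj] at hd
    rw [← hc, hf, hh, e hd]
  simp only [resS_apply]
  rcases cases K hK (tg s) with ⟨z, hz⟩ | ⟨z, hz⟩ | ⟨x, y, hxy, hz⟩ | ⟨l, hl, hz⟩
  · rw [hz, dt_sc] at hd
    rw [hz]
    exact h1 z (mem_Z2.2 (Units.ext hd))
  · refine key _ hz fun e => ?_
    rw [dt_un] at e
    exact h2 z (mem_Z2.2 (Units.ext e))
  · refine key _ hz fun e => ?_
    rw [dt_di] at e
    obtain rfl : y = x⁻¹ := eq_inv_of_mul_eq_one_right (Units.ext e)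
    exact h3 x hxy
  · refine key _ hz fun e => h4 ⟨l, (mem_U1 K).2 (Units.ext ?_)⟩ hl
    have h5 := congrArg (algebraMap F K) e
    rw [(tr_dt_ell K hK hl).2, map_one] at h5
    rw [Units.val_pow_eq_pow_val, pow_succ', h5, Units.val_one]

theorem split_two {G : Type*} [Group G] [Fintype G] {f : G → ℂ} (hf : IsCharacter G f)
    (h : classInner f f = 2) :
    ∃ a b : G → ℂ, IsIrrCharacter G a ∧ IsIrrCharacter G b ∧ a ≠ b ∧ f = a + b ∧
      classInner f a = 1 ∧ classInner f b = 1 := by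
  classical
  obtain ⟨c, hc, hd⟩ := Cfsg.Agent.Char.IsChar.exists_decomp_inner hf
  have h' := h
  rw [hd, Cfsg.Agent.Char.classInner_sum_sum] at h'
  have hs : ∑ φ : IrrCharacter G, c φ * c φ = 2 := by
    have : ((∑ φ : IrrCharacter G, c φ * c φ : ℕ) : ℂ) = (2 : ℕ) := by simpa using h'
    exact_mod_cast this
  have hle : ∀ φ, c φ = 0 ∨ c φ = 1 := fun φ => by
    have h2 : c φ * c φ ≤ 2 := hs ▸
      single_le_sum (f := fun x => c x * c x) (fun _ _ => Nat.zero_le _) (mem_univ φ)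
    have h3 : c φ < 2 := by nlinarith
    omega
  have hcard : ((univ : Finset (IrrCharacter G)).filter fun φ => c φ = 1).card = 2 := by
    rw [← hs, card_filter]
    exact sum_congr rfl fun φ _ => by rcases hle φ with e | e <;> simp [e]
  obtain ⟨x, y, hxy, hset⟩ := card_eq_two.mp hcard
  have hx' : x ∈ (univ : Finset (IrrCharacter G)).filter fun φ => c φ = 1 := by rw [hset]; simp
  have hy' : y ∈ (univ : Finset (IrrCharacter G)).filter fun φ => c φ = 1 := by rw [hset]; simp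
  have hx : c x = 1 := (mem_filter.mp hx').2
  have hy : c y = 1 := (mem_filter.mp hy').2
  refine ⟨x.1, y.1, x.2, y.2, fun e => hxy (Subtype.ext e), ?_, ?_, ?_⟩
  · rw [hd, ← sum_subset (subset_univ ({x, y} : Finset (IrrCharacter G))) (fun φ _ hn => by
      rw [← hset] at hn
      rcases hle φ with e | e
      · simp [e]
      · exact absurd ((mem_filter (s := univ) (p := fun φ => c φ = 1)).mpr ⟨mem_univ φ, e⟩) hn), sum_pair hxy, hx, hy]
    simp
  · rw [hc x, hx, Nat.cast_one]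
  · rw [hc y, hy, Nat.cast_one]

theorem range_normal : (tg).range.Normal := by
  refine ⟨fun n hn g => ?_⟩
  obtain ⟨s, rfl⟩ := hn
  exact ⟨cjS g s, toGL_cjS g s⟩

/-- A restriction of norm two is the sum of two conjugate irreducibles. -/
theorem exists_halves {f : GG → ℂ} (hf : IsIrrCharacter GG f)
    (h2 : classInner (resS f) (resS f) = 2) :
    ∃ (a b : SS → ℂ) (x : GG), IsIrrCharacter SS a ∧ IsIrrCharacter SS b ∧ a ≠ b ∧
      resS f = a + b ∧ ∀ s, b (cjS x s) = a s := by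
  classical
  obtain ⟨a, b, ha, hb, hne, he, hia, hib⟩ :=
    split_two (isChar_resS (Cfsg.Agent.Char.IsIrr.isCharacter hf)) h2
  haveI := range_normal (F := F)
  let e : SS ≃* (tg).range := MonoidHom.ofInjective SpecialLinearGroup.toGL_injective
  haveI : Fintype (tg).range := Fintype.ofFinite _
  have hin : ∀ c : SS → ℂ, classInner (fun n : (tg).range => f n) (fun n => c (e.symm n)) =
      classInner (resS f) c := fun c => by
    rw [← Cfsg.Agent.Char.classInner_comp_surjective e.toMonoidHom e.surjective]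
    simp only [MulEquiv.coe_toMonoidHom, MulEquiv.symm_apply_apply]
    rfl
  obtain ⟨g, hg⟩ := Cfsg.Agent.Char.exists_conj_of_constituents (tg).range hf
    (Cfsg.Agent.Char.IsIrr.comp_mulEquiv e.symm ha) (Cfsg.Agent.Char.IsIrr.comp_mulEquiv e.symm hb)
    (by rw [hin, hia]; exact one_ne_zero) (by rw [hin, hib]; exact one_ne_zero)
  refine ⟨a, b, g⁻¹, ha, hb, hne, he, fun s => ?_⟩
  have h1 := congrFun hg (e (cjS g⁻¹ s))
  rw [MulEquiv.symm_apply_apply, Cfsg.Agent.Char.conjN_apply] at h1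
  rw [← h1]
  congr 1
  refine (MulEquiv.symm_apply_eq e).2 (Subtype.ext ?_)
  show g * tg (cjS g⁻¹ s) * g⁻¹ = tg s
  rw [toGL_cjS]; group

end Cfsg.Agent.Block.SL2Char
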