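import Mathlib
import Cfsg.Agent.Lib.Block.SL2Char.SLBase

/-!
The characters of `SL(2, q)` restricted from `GL(2, q)`: values, norms, injectivity.
-/

set_option linter.unusedSectionVars false

namespace Cfsg.Agent.Block.SL2Char

open Matrix Finset
open scoped ComplexConjugate

universe u v

variable {F : Type u} [Field F] [Fintype F] [DecidableEq F]

local notation "GG" => GL (Fin 2) F
local notation "SS" => Matrix.SpecialLinearGroup (Fin 2) F
local notation "tg" => (Matrix.SpecialLinearGroup.toGL : SS →* GG)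

theorem cv_one_hom {A : Type*} [CommGroup A] [Fintype A] (x : A) : cv (1 : A →* ℂˣ) x = 1 := by
  simp [cv]

theorem cv_inv_hom {A : Type*} [CommGroup A] [Fintype A] (α : A →* ℂˣ) (x : A) :
    cv α⁻¹ x = cv α x⁻¹ := by simp [cv]

theorem cv_mul_hom {A : Type*} [CommGroup A] [Fintype A] (α β : A →* ℂˣ) (x : A) :
    cv (α * β) x = cv α x * cv β x := by simp [cv]

theorem resS_of_conj {f : GG → ℂ} (hf : IsClassFunction GG f) {r : GG} {s : SS}
    (h : IsConj r (tg s)) : resS f s = f r := by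
  obtain ⟨c, hc⟩ := isConj_iff.1 h
  rw [resS_apply, ← hc, hf]

theorem classFun_vI (α β : Fˣ →* ℂˣ) : IsClassFunction GG (vI α β) :=
  Cfsg.Agent.Char.IsChar.classFun (isChar_vI α β)

theorem classFun_vS : IsClassFunction GG (vS (F := F)) :=
  Cfsg.Agent.Char.IsGenChar.classFun isGen_vS

theorem classFun_vL (α : Fˣ →* ℂˣ) : IsClassFunction GG (vL α) :=
  Cfsg.Agent.Char.IsIrr.classFun (isIrr_vL α)

/-- The element `z` times the basic transvection, for `z * z = 1`. -/
noncomputable def uZ (z : Fˣ) (hz : z ∈ Z2 F) : SS :=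
  mkS (un z) (by rw [dt_un, ← Units.val_mul, mem_Z2.1 hz, Units.val_one])

/-- The basic transvection. -/
noncomputable def uS : SS := uZ (F := F) 1 one_mem_Z2

theorem toGL_uZ (z : Fˣ) (hz : z ∈ Z2 F) : tg (uZ z hz) = un z :=
  toGL_mkS _ (by rw [dt_un, ← Units.val_mul, mem_Z2.1 hz, Units.val_one])

theorem toGL_uS : tg (uS (F := F)) = un 1 := toGL_uZ 1 one_mem_Z2

theorem eq_uS {u : SS} (hu : (u : Matrix (Fin 2) (Fin 2) F) = !![1, 1; 0, 1]) : u = uS :=
  Subtype.ext (by rw [hu]; exact (by simp : (un (1 : Fˣ) : GG).1 = !![1, 1; 0, 1]).symm)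

/-- Principal series on `SL(2, F)`. -/
noncomputable def vIS (α : Fˣ →* ℂˣ) : SS → ℂ := resS (vI α 1)

/-- The Steinberg character on `SL(2, F)`. -/
noncomputable def vSS : SS → ℂ := resS (vS (F := F))

theorem isChar_vIS (α : Fˣ →* ℂˣ) : IsCharacter SS (vIS α) := isChar_resS (isChar_vI α 1)

theorem invS_vIS (α : Fˣ →* ℂˣ) : InvS (vIS α) := invS_resS (classFun_vI α 1)

theorem invS_vSS : InvS (vSS (F := F)) := invS_resS classFun_vS

theorem vIS_one (α : Fˣ →* ℂˣ) : vIS α 1 = (Fintype.card F : ℂ) + 1 := by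
  rw [vIS, resS_one, ← sc_one, vI_sc, cv_one, cv_one]; ring

theorem vIS_uS (α : Fˣ →* ℂˣ) : vIS α uS = 1 := by
  rw [vIS, resS_apply, toGL_uS, vI_un, cv_one, cv_one, one_mul]

theorem vSS_one : vSS (F := F) 1 = Fintype.card F := by rw [vSS, resS_one, ← sc_one, vS_sc]

theorem vSS_uS : vSS (F := F) uS = 0 := by rw [vSS, resS_apply, toGL_uS, vS_un]

variable (K : Type v) [Field K] [Algebra F K] [Fintype K] [DecidableEq K]
  (hK : Module.finrank F K = 2)

include K hK in
theorem norm_vIS (α : Fˣ →* ℂˣ) [Decidable (α * α = 1)] :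
    classInner (vIS α) (vIS α) = if α * α = 1 then 2 else 1 := by
  classical
  refine norm_resS ?_
  rw [sum_SS_master K hK (f := fun g => vI α 1 g * conj (vI α 1 g))
    (fun g k => by simp only [classFun_vI α 1 g k])
    (A := ((Fintype.card F : ℂ) + 1) ^ 2) (B := 1) (G0 := 4) (H0 := 0)
    (g := fun x => 2 + cv (α * α) x + conj (cv (α * α) x)) (h := fun _ => 0)]
  · simp only [sum_add_distrib, sum_const, card_univ, nsmul_eq_mul, card_units_cast, ← map_sum,
      mul_zero, sub_zero]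
    by_cases h : α * α = 1
    · rw [sum_cv_one h, card_units_cast, if_pos h, map_sub, map_natCast, map_one]; ring
    · rw [sum_cv_ne h, if_neg h, map_zero]; ring
  · intro z _
    simp only [vI_sc, cv_one_hom, mul_one, map_mul, map_add, map_natCast, map_one]
    linear_combination ((Fintype.card F : ℂ) + 1) ^ 2 * mul_conj_cv α z
  · intro z _
    simp only [vI_un, cv_one_hom, mul_one]
    exact mul_conj_cv α z
  · intro x hx
    simp only [vI_di α 1 hx, cv_one_hom, mul_one, map_add, conj_cv, inv_inv, cv_mul_hom, cv_mul, map_mul]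
    have h1 : cv α x * cv α x⁻¹ = 1 := by rw [← cv_mul, mul_inv_cancel, cv_one]
    linear_combination 2 * h1
  · intro z hz
    simp only [cv_mul_hom, cv_sq_Z2 hz, map_one]; norm_num
  · intro l hl
    simp only [vI_ell K hK α 1 hl, zero_mul]
  · intros; rfl

include K hK in
theorem norm_vSS : classInner (vSS (F := F)) vSS = 1 := by
  refine norm_resS ?_
  rw [sum_SS_master K hK (f := fun g => vS (F := F) g * conj (vS (F := F) g))
    (fun g k => by simp only [classFun_vS g k])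
    (A := (Fintype.card F : ℂ) ^ 2) (B := 0) (G0 := 1) (H0 := 1)
    (g := fun _ => 1) (h := fun _ => 1)]
  · simp only [sum_const, card_univ, nsmul_eq_mul, card_units_cast, card_U1 K hK, Nat.cast_add,
      Nat.cast_one]
    ring
  · intro z _; simp [vS_sc, sq]
  · intro z _; simp [vS_un]
  · intro x hx; simp [vS_di hx]
  · intros; rfl
  · intro l hl; simp [vS_ell K hK hl]
  · intros; rfl

include K hK in
theorem isIrr_vIS {α : Fˣ →* ℂˣ} (h : α * α ≠ 1) : IsIrrCharacter SS (vIS α) := by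
  classical
  exact Cfsg.Agent.Char.IsChar.irr_of_norm_one (isChar_vIS α) (by rw [norm_vIS K hK, if_neg h])

include K hK in
theorem isIrr_vSS : IsIrrCharacter SS (vSS (F := F)) :=
  Cfsg.Agent.Char.IsChar.irr_of_norm_one
    (isChar_resS (Cfsg.Agent.Char.IsIrr.isCharacter (isIrr_vS K hK))) (norm_vSS K hK)

/-! ### the discrete series -/

theorem exists_extU (φ : U1 F K →* ℂˣ) :
    ∃ θ : Kˣ →* ℂˣ, ∀ l : U1 F K, θ (l : Kˣ) = φ l := by
  haveI := hasRoots (A := Kˣ)
  obtain ⟨θ, hθ⟩ := MonoidHom.domRestrict_surjective (M := ℂ) (U1 F K) φ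
  exact ⟨θ, fun l => DFunLike.congr_fun hθ l⟩

/-- An extension of a character of the norm one group to `Kˣ`. -/
noncomputable def extU (φ : U1 F K →* ℂˣ) : Kˣ →* ℂˣ := (exists_extU K φ).choose

theorem cv_extU (φ : U1 F K →* ℂˣ) (l : U1 F K) :
    cv (extU K φ) (l : Kˣ) = cv φ l :=
  congrArg Units.val ((exists_extU K φ).choose_spec l)

theorem pow_card_U1 (l : U1 F K) : (l : Kˣ) ^ Fintype.card F = ((l⁻¹ : U1 F K) : Kˣ) := by
  rw [Subgroup.coe_inv]
  exact eq_inv_of_mul_eq_one_left (by rw [← pow_succ]; exact (mem_U1 K).1 l.2)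

theorem cv_extU_pow (φ : U1 F K →* ℂˣ) (l : U1 F K) :
    cv (extU K φ) ((l : Kˣ) ^ Fintype.card F) = cv φ l⁻¹ := by
  rw [pow_card_U1, cv_extU]

theorem cv_extU_emb (φ : U1 F K →* ℂˣ) (z : Fˣ) (hz : z ∈ Z2 F) :
    cv (extU K φ) (emb (F := F) K z) = cv φ (embU K z hz) :=
  cv_extU K φ (embU K z hz)

include hK in
theorem range_pow_eq : (powMonoidHom (Fintype.card F - 1) : Kˣ →* Kˣ).range = U1 F K := by
  refine Subgroup.eq_of_le_of_card_ge ?_ ?_
  · rintro _ ⟨l, rfl⟩
    rw [mem_U1, powMonoidHom_apply, ← pow_mul, ← card_unitsK_nat K hK]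
    exact pow_card_eq_one'
  · have h : 0 < Fintype.card F - 1 := by have := Fintype.one_lt_card (α := F); omega
    rw [IsCyclic.card_powMonoidHom_range, card_unitsK_nat K hK,
      Nat.gcd_eq_right (dvd_mul_right _ _), Nat.mul_div_cancel_left _ h, Nat.card_eq_fintype_card,
      card_U1 K hK]

include hK in
theorem regular_extU {φ : U1 F K →* ℂˣ} (h : φ ≠ 1) : Regular (F := F) K (extU K φ) := by
  by_contra hr
  rw [not_regular_iff] at hr
  refine h (MonoidHom.ext fun u => Units.ext ?_)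
  obtain ⟨l, hl⟩ : (u : Kˣ) ∈ (powMonoidHom (Fintype.card F - 1) : Kˣ →* Kˣ).range := by
    rw [range_pow_eq K hK]; exact u.2
  show cv φ u = _
  rw [← cv_extU, ← hl, powMonoidHom_apply, hr l]
  rfl

/-- Discrete series on `SL(2, F)`. -/
noncomputable def vDS (φ : U1 F K →* ℂˣ) : SS → ℂ := resS (vD (F := F) K hK (extU K φ))

theorem classFun_vD (θ : Kˣ →* ℂˣ) : IsClassFunction GG (vD (F := F) K hK θ) :=
  Cfsg.Agent.Char.IsGenChar.classFun (isGen_vD K hK θ)

theorem invS_vDS (φ : U1 F K →* ℂˣ) : InvS (vDS K hK φ) := invS_resS (classFun_vD K hK _)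

theorem vDS_one (φ : U1 F K →* ℂˣ) : vDS K hK φ 1 = (Fintype.card F : ℂ) - 1 := by
  rw [vDS, resS_one, vD_one, cardF_sub_one Fintype.card_pos]

theorem vDS_uS (φ : U1 F K →* ℂˣ) : vDS K hK φ uS = -1 := by
  rw [vDS, resS_apply, toGL_uS, vD_un, map_one, cv_one]

theorem isChar_vDS {φ : U1 F K →* ℂˣ} (h : φ ≠ 1) : IsCharacter SS (vDS K hK φ) :=
  isChar_resS (Cfsg.Agent.Char.IsIrr.isCharacter (isIrr_vD K hK (regular_extU K hK h)))

theorem embU_mul_self (z : Fˣ) (hz : z ∈ Z2 F) : embU K z hz * embU K z hz = 1 :=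
  (sq_eq_one_iff_mem_range K _).2 ⟨z, rfl⟩

theorem norm_vDS (φ : U1 F K →* ℂˣ) [Decidable (φ * φ = 1)] :
    classInner (vDS K hK φ) (vDS K hK φ) = if φ * φ = 1 then 2 else 1 := by
  classical
  refine norm_resS ?_
  rw [sum_SS_master K hK
    (f := fun g => vD (F := F) K hK (extU K φ) g * conj (vD (F := F) K hK (extU K φ) g))
    (fun g k => by simp only [classFun_vD K hK _ g k])
    (A := ((Fintype.card F : ℂ) - 1) ^ 2) (B := 1) (G0 := 0) (H0 := 4)
    (g := fun _ => 0) (h := fun l => 2 + cv (φ * φ) l + conj (cv (φ * φ) l))]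
  · simp only [sum_add_distrib, sum_const, card_univ, nsmul_eq_mul, card_U1 K hK, ← map_sum,
      mul_zero, sub_zero, Nat.cast_add, Nat.cast_one]
    by_cases h : φ * φ = 1
    · rw [sum_cv_one h, card_U1 K hK, if_pos h, Nat.cast_add, Nat.cast_one, map_add, map_natCast,
        map_one]
      ring
    · rw [sum_cv_ne h, if_neg h, map_zero]; ring
  · intro z _
    simp only [vD_sc, map_mul, map_sub, map_natCast, map_one]
    linear_combination ((Fintype.card F : ℂ) - 1) ^ 2 * mul_conj_cv (extU K φ) (emb (F := F) K z)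
  · intro z _
    simp only [vD_un, map_neg, neg_mul_neg]
    exact mul_conj_cv _ _
  · intro x hx; simp [vD_di K hK _ hx]
  · intros; rfl
  · intro l hl
    simp only [vD_ell K hK _ hl, map_neg, neg_mul_neg, map_add, cv_extU, cv_extU_pow, conj_cv,
      inv_inv, cv_mul_hom, cv_mul, map_mul]
    have h1 : cv φ l * cv φ l⁻¹ = 1 := by rw [← cv_mul, mul_inv_cancel, cv_one]
    linear_combination 2 * h1
  · intro z hz
    simp only [cv_mul_hom, ← cv_mul, embU_mul_self, cv_one, map_one]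
    norm_num

theorem ne_one_of_sq_ne {A : Type*} [CommGroup A] {α : A →* ℂˣ} (h : α * α ≠ 1) : α ≠ 1 :=
  fun e => h (MonoidHom.ext fun x => by simp [e])

theorem isIrr_vDS {φ : U1 F K →* ℂˣ} (h : φ * φ ≠ 1) : IsIrrCharacter SS (vDS K hK φ) := by
  classical
  exact Cfsg.Agent.Char.IsChar.irr_of_norm_one (isChar_vDS K hK (ne_one_of_sq_ne h))
    (by rw [norm_vDS K hK, if_neg h])

/-! ### injectivity -/

include K hK in
theorem vIS_inv (α : Fˣ →* ℂˣ) : vIS α⁻¹ = vIS α := by
  refine resS_ext K hK (classFun_vI _ _) (classFun_vI _ _) (fun z hz => ?_) (fun z hz => ?_)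
    (fun x hx => ?_) fun l hl => ?_
  · simp [vI_sc, cv_one_hom, cv_inv_hom, inv_eq_of_mem_Z2 hz]
  · simp [vI_un, cv_one_hom, cv_inv_hom, inv_eq_of_mem_Z2 hz]
  · simp only [vI_di _ _ hx, cv_one_hom, mul_one, cv_inv_hom, inv_inv]
    exact add_comm _ _
  · rw [vI_ell K hK _ _ hl, vI_ell K hK _ _ hl]

include K hK in
theorem vIS_inj {α β : Fˣ →* ℂˣ} (h : vIS α = vIS β) : β = α ∨ β = α⁻¹ := by
  have key : ∀ x, cv β x + cv β⁻¹ x = cv α x + cv α⁻¹ x := by
    intro x
    rw [cv_inv_hom, cv_inv_hom]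
    by_cases hx : x = x⁻¹
    · have hz : x ∈ Z2 F := by
        by_contra hz
        exact ne_inv_iff.2 hz hx
      have := congrFun h (mkS (sc x) (by rw [dt_sc, ← Units.val_mul, mem_Z2.1 hz, Units.val_one]))
      simp only [vIS, resS_apply, toGL_mkS, vI_sc, cv_one_hom, mul_one] at this
      rw [← hx, mul_left_cancel₀ (cardF_cast_ne (F := F)).2.2 this]
    · have := congrFun h (mkS (di x x⁻¹) (by rw [dt_di, ← Units.val_mul, mul_inv_cancel,
        Units.val_one]))
      simp only [vIS, resS_apply, toGL_mkS, vI_di _ _ hx, cv_one_hom, mul_one] at this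
      exact this.symm
  rcases pair_eq key with ⟨h1, -⟩ | ⟨h1, -⟩
  · exact Or.inl h1
  · exact Or.inr h1

theorem vDS_inv (φ : U1 F K →* ℂˣ) : vDS K hK φ⁻¹ = vDS K hK φ := by
  refine resS_ext K hK (classFun_vD K hK _) (classFun_vD K hK _) (fun z hz => ?_) (fun z hz => ?_)
    (fun x hx => ?_) fun l hl => ?_
  · simp only [vD_sc, cv_extU_emb K _ z hz, cv_inv_hom,
      inv_eq_of_mul_eq_one_right (embU_mul_self K z hz)]
  · simp only [vD_un, cv_extU_emb K _ z hz, cv_inv_hom,
      inv_eq_of_mul_eq_one_right (embU_mul_self K z hz)]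
  · rw [vD_di K hK _ hx, vD_di K hK _ hx]
  · simp only [vD_ell K hK _ hl, cv_extU, cv_extU_pow, cv_inv_hom, inv_inv, add_comm]

theorem dt_ell_U1 (l : U1 F K) : dt (ell (F := F) K hK (l : Kˣ)) = 1 := by
  by_cases hl : (l : Kˣ) ∈ (emb (F := F) K).range
  · obtain ⟨z, hz, rfl⟩ := (mem_range_iff K l).1 hl
    rw [val_embU, ell_emb, dt_sc, ← Units.val_mul, mem_Z2.1 hz, Units.val_one]
  · refine (algebraMap F K).injective ?_
    rw [(tr_dt_ell K hK hl).2, map_one, ← pow_succ', ← Units.val_pow_eq_pow_val,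
      (mem_U1 K).1 l.2, Units.val_one]

theorem vDS_inj {φ ψ : U1 F K →* ℂˣ} (h : vDS K hK φ = vDS K hK ψ) : ψ = φ ∨ ψ = φ⁻¹ := by
  have key : ∀ l, cv ψ l + cv ψ⁻¹ l = cv φ l + cv φ⁻¹ l := by
    intro l
    have := congrFun h (mkS (ell (F := F) K hK (l : Kˣ)) (dt_ell_U1 K hK l))
    rw [cv_inv_hom, cv_inv_hom]
    by_cases hl : (l : Kˣ) ∈ (emb (F := F) K).range
    · obtain ⟨z, hz, rfl⟩ := (mem_range_iff K l).1 hl
      simp only [vDS, resS_apply, toGL_mkS, val_embU, ell_emb, vD_sc, cv_extU_emb K _ z hz] at this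
      rw [inv_eq_of_mul_eq_one_right (embU_mul_self K z hz),
        mul_left_cancel₀ (cardF_cast_ne (F := F)).2.1 this]
    · simp only [vDS, resS_apply, toGL_mkS, vD_ell K hK _ hl, cv_extU, cv_extU_pow,
        neg_inj] at this
      exact this.symm
  rcases pair_eq key with ⟨h1, -⟩ | ⟨h1, -⟩
  · exact Or.inl h1
  · exact Or.inr h1

end Cfsg.Agent.Block.SL2Char
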