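import Mathlib
import Cfsg.Agent.Lib.Block.SL2Char.SLFamilies

/-!
The complete list of irreducible characters of `SL(2, q)`.
-/

set_option linter.unusedSectionVars false

namespace Cfsg.Agent.Block.SL2Char

open Matrix Finset
open scoped ComplexConjugate

universe u v

variable {F : Type u} [Field F] [Fintype F] [DecidableEq F]

local notation "GG" => GL (Fin 2) F
local notation "SS" => Matrix.SpecialLinearGroup (Fin 2) F
local notation "tg" => (Matrix.SpecialLinearGroup.toGL : SS →* GG)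

theorem mul_self_eq_one_iff_forall {A : Type*} [CommGroup A] [Fintype A] {α : A →* ℂˣ} :
    α * α = 1 ↔ ∀ x, cv α (x ^ 2) = 1 := by
  simp only [MonoidHom.ext_iff, MonoidHom.mul_apply, MonoidHom.one_apply, Units.ext_iff,
    Units.val_mul, Units.val_one, sq, cv_mul]

/-- As many characters of order at most two as square roots of one. -/
theorem card_sq_one {A : Type*} [CommGroup A] [Fintype A] [DecidableEq A]
    [DecidablePred fun α : A →* ℂˣ => α * α = 1] :
    ((univ : Finset (A →* ℂˣ)).filter fun α => α * α = 1).card =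
      ((univ : Finset A).filter fun x => x * x = 1).card := by
  rw [← Fintype.card_subtype, ← Fintype.card_subtype, ← Nat.card_eq_fintype_card,
    ← Nat.card_eq_fintype_card,
    Nat.card_congr (Equiv.subtypeEquivRight fun α => mul_self_eq_one_iff_forall (α := α)),
    card_homs_pow]
  exact Nat.card_congr (Equiv.subtypeEquivRight fun x => by rw [sq])

variable (K : Type v) [Field K] [Algebra F K] [Fintype K] [DecidableEq K]
  (hK : Module.finrank F K = 2)

theorem card_U1_sq [DecidableEq (U1 F K)] :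
    ((univ : Finset (U1 F K)).filter fun l => l * l = 1).card = (Z2 F).card := by
  rw [← card_attach (s := Z2 F)]
  refine (card_bij (fun z _ => embU K z.1 z.2) (fun z _ => ?_) (fun a _ b _ e => ?_)
    fun l hl => ?_).symm
  · simpa using embU_mul_self K z.1 z.2
  · exact Subtype.ext (emb_injective K (congrArg Subtype.val e))
  · obtain ⟨z, hz, e⟩ := (mem_range_iff K l).1 ((sq_eq_one_iff_mem_range K l).1 (mem_filter.1 hl).2)
    exact ⟨⟨z, hz⟩, mem_attach _ _, e⟩

/-- The parameters of the irreducible principal series. -/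
noncomputable def parI (F : Type u) [Field F] [Fintype F] [DecidableEq F] : Finset (Fˣ →* ℂˣ) :=
  haveI := Classical.decPred fun α : Fˣ →* ℂˣ => α * α ≠ 1
  univ.filter fun α => α * α ≠ 1

theorem mem_parI {α : Fˣ →* ℂˣ} : α ∈ parI F ↔ α * α ≠ 1 := by simp [parI]

/-- The parameters of the irreducible discrete series. -/
noncomputable def parD : Finset (U1 F K →* ℂˣ) :=
  haveI := Classical.decPred fun φ : U1 F K →* ℂˣ => φ * φ ≠ 1
  univ.filter fun φ => φ * φ ≠ 1

theorem mem_parD {φ : U1 F K →* ℂˣ} : φ ∈ parD (F := F) K ↔ φ * φ ≠ 1 := by simp [parD]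

theorem card_parI : (parI F).card + (Z2 F).card = Fintype.card F - 1 := by
  classical
  have h := card_filter_add_card_filter_not (s := (univ : Finset (Fˣ →* ℂˣ))) (fun α => α * α ≠ 1)
  simp only [ne_eq, not_not, card_sq_one, card_univ, card_homs', Fintype.card_units] at h
  rw [show parI F = univ.filter fun α => ¬ α * α = 1 by ext; simp [mem_parI]]
  exact h

include hK in
theorem card_parD : (parD (F := F) K).card + (Z2 F).card = Fintype.card F + 1 := by
  classical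
  have h := card_filter_add_card_filter_not (s := (univ : Finset (U1 F K →* ℂˣ)))
    (fun φ => φ * φ ≠ 1)
  simp only [ne_eq, not_not, card_sq_one, card_U1_sq, card_univ, card_homs', card_U1 K hK] at h
  rw [show parD (F := F) K = univ.filter fun φ => ¬ φ * φ = 1 by ext; simp [mem_parD]]
  exact h

/-- Irreducible principal series of `SL(2, F)`. -/
noncomputable def famC : Finset (SS → ℂ) := (parI F).image vIS

/-- Irreducible discrete series of `SL(2, F)`. -/
noncomputable def famD : Finset (SS → ℂ) := (parD (F := F) K).image (vDS K hK)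

theorem mem_famC {f : SS → ℂ} : f ∈ famC (F := F) ↔ ∃ α, α * α ≠ 1 ∧ f = vIS α := by
  simp [famC, mem_parI, eq_comm]

theorem mem_famD {f : SS → ℂ} : f ∈ famD K hK ↔ ∃ φ, φ * φ ≠ 1 ∧ f = vDS K hK φ := by
  simp [famD, mem_parD, eq_comm]

theorem inv_mul_inv_ne {A : Type*} [CommGroup A] {α : A →* ℂˣ} (h : α * α ≠ 1) :
    α⁻¹ * α⁻¹ ≠ 1 ∧ α⁻¹ ≠ α := by
  refine ⟨fun e => h (MonoidHom.ext fun x => ?_), fun e => h (MonoidHom.ext fun x => ?_)⟩
  · have h1 := DFunLike.congr_fun e x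
    simp only [MonoidHom.mul_apply, MonoidHom.inv_apply, MonoidHom.one_apply] at h1 ⊢
    rwa [← _root_.mul_inv_rev, inv_eq_one] at h1
  · have h1 := DFunLike.congr_fun e x
    simp only [MonoidHom.mul_apply, MonoidHom.inv_apply, MonoidHom.one_apply] at h1 ⊢
    exact inv_eq_iff_mul_eq_one.1 h1

include K hK in
theorem card_famC : (famC (F := F)).card * 2 + (Z2 F).card = Fintype.card F - 1 := by
  classical
  rw [← card_parI]
  congr 1
  convert card_image_two (parI F) vIS (fun α => α⁻¹) ?_ ?_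
  · rw [famC]
  · intro α hα
    exact ⟨mem_parI.2 (inv_mul_inv_ne (mem_parI.1 hα)).1, (inv_mul_inv_ne (mem_parI.1 hα)).2,
      vIS_inv K hK α⟩
  · intro α _ β _ e
    exact vIS_inj K hK e

theorem card_famD : (famD K hK).card * 2 + (Z2 F).card = Fintype.card F + 1 := by
  classical
  rw [← card_parD K hK]
  congr 1
  convert card_image_two (parD (F := F) K) (vDS K hK) (fun φ => φ⁻¹) ?_ ?_
  · rw [famD]
  · intro φ hφ
    exact ⟨(mem_parD K).2 (inv_mul_inv_ne ((mem_parD K).1 hφ)).1,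
      (inv_mul_inv_ne ((mem_parD K).1 hφ)).2, vDS_inv K hK φ⟩
  · intro φ _ ψ _ e
    exact vDS_inj K hK e

open scoped Classical in
/-- The irreducible characters invariant under `GL(2, F)`. -/
noncomputable def wholes : Finset (SS → ℂ) :=
  {fun _ => 1} ∪ {vSS} ∪ famC ∪ famD K hK

theorem mem_wholes {f : SS → ℂ} : f ∈ wholes K hK ↔
    f = (fun _ => 1) ∨ f = vSS ∨ f ∈ famC (F := F) ∨ f ∈ famD K hK := by
  simp [wholes, or_assoc]

theorem wholes_irr : ∀ f ∈ wholes K hK, IsIrrCharacter SS f := by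
  intro f hf
  rcases (mem_wholes K hK).1 hf with rfl | rfl | h | h
  · exact Cfsg.Agent.Char.isIrr_one
  · exact isIrr_vSS K hK
  · obtain ⟨α, hα, rfl⟩ := mem_famC.1 h
    exact isIrr_vIS K hK hα
  · obtain ⟨φ, hφ, rfl⟩ := (mem_famD K hK).1 h
    exact isIrr_vDS K hK hφ

theorem wholes_inv : ∀ f ∈ wholes K hK, InvS f := by
  intro f hf
  rcases (mem_wholes K hK).1 hf with rfl | rfl | h | h
  · exact fun _ _ => rfl
  · exact invS_vSS
  · obtain ⟨α, -, rfl⟩ := mem_famC.1 h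
    exact invS_vIS α
  · obtain ⟨φ, -, rfl⟩ := (mem_famD K hK).1 h
    exact invS_vDS K hK φ

theorem wholes_sum : ∑ f ∈ wholes K hK, f 1 ^ 2 = 1 + (Fintype.card F : ℂ) ^ 2 +
    (famC (F := F)).card * ((Fintype.card F : ℂ) + 1) ^ 2 +
    (famD K hK).card * ((Fintype.card F : ℂ) - 1) ^ 2 := by
  classical
  have hq : (Fintype.card F : ℂ) ≠ 0 := (cardF_cast_ne (F := F)).1
  have hC : ∀ f ∈ famC (F := F), f 1 = (Fintype.card F : ℂ) + 1 ∧ f uS = 1 := fun f hf => by
    obtain ⟨α, -, rfl⟩ := mem_famC.1 hf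
    exact ⟨vIS_one α, vIS_uS α⟩
  have hD : ∀ f ∈ famD K hK, f 1 = (Fintype.card F : ℂ) - 1 ∧ f uS = -1 := fun f hf => by
    obtain ⟨φ, -, rfl⟩ := (mem_famD K hK).1 hf
    exact ⟨vDS_one K hK φ, vDS_uS K hK φ⟩
  rw [wholes, sum_union, sum_union, sum_union, sum_singleton, sum_singleton,
    sum_congr rfl (fun f hf => by rw [(hC f hf).1] : ∀ f ∈ famC (F := F), f 1 ^ 2 = _),
    sum_congr rfl (fun f hf => by rw [(hD f hf).1] : ∀ f ∈ famD K hK, f 1 ^ 2 = _), sum_const,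
    sum_const, nsmul_eq_mul, nsmul_eq_mul, vSS_one, one_pow]
  all_goals rw [disjoint_left]; intro f hf hf'
  · rw [mem_singleton] at hf hf'
    have h := congrFun (hf.symm.trans hf') uS
    rw [vSS_uS] at h
    exact one_ne_zero h
  · obtain ⟨h1, h2⟩ := hC f hf'
    simp only [mem_union, mem_singleton] at hf
    rcases hf with rfl | rfl
    · exact hq (by linear_combination -h1)
    · rw [vSS_one] at h1
      exact one_ne_zero (by linear_combination -h1 : (1 : ℂ) = 0)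
  · obtain ⟨-, h2⟩ := hD f hf'
    simp only [mem_union, mem_singleton] at hf
    rcases hf with (rfl | rfl) | hf
    · norm_num at h2
    · rw [vSS_uS] at h2; norm_num at h2
    · rw [(hC f hf).2] at h2; norm_num at h2

/-- Completeness, with the list `H` of characters that are not invariant. -/
theorem complete {H : Finset (SS → ℂ)} (hirr : ∀ f ∈ H, IsIrrCharacter SS f)
    (hni : ∀ f ∈ H, ¬ InvS f)
    (hsum : ∑ f ∈ H, f 1 ^ 2 =
      (((Z2 F).card : ℂ) - 1) * ((Fintype.card F : ℂ) ^ 2 + 1))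
    {χ : SS → ℂ} (hχ : IsIrrCharacter SS χ) : χ ∈ wholes K hK ∨ χ ∈ H := by
  classical
  rw [← mem_union]
  refine mem_of_complete (fun f hf => ?_) ?_ hχ
  · rcases mem_union.1 hf with h | h
    exacts [wholes_irr K hK f h, hirr f h]
  · rw [sum_union (disjoint_left.2 fun f h h' => hni f h' (wholes_inv K hK f h)), wholes_sum, hsum,
      card_SS]
    have h1 := congrArg (Nat.cast (R := ℂ)) (card_famC (F := F) K hK)
    have h2 := congrArg (Nat.cast (R := ℂ)) (card_famD K hK)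
    simp only [Nat.cast_add, Nat.cast_mul, Nat.cast_sub Fintype.card_pos, Nat.cast_ofNat,
      Nat.cast_one] at h1 h2
    linear_combination ((Fintype.card F : ℂ) + 1) ^ 2 / 2 * h1 +
      ((Fintype.card F : ℂ) - 1) ^ 2 / 2 * h2

/-- The classification for even `q`. -/
theorem irr_cases_even (he : (Z2 F).card = 1) {χ : SS → ℂ} (hχ : IsIrrCharacter SS χ) :
    χ ∈ wholes K hK :=
  (complete K hK (H := ∅) (by simp) (by simp) (by simp [he]) hχ).resolve_right (notMem_empty _)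

/-! ### the halves for odd `q` -/

/-- A constituent of the reducible principal series. -/
def HalfI (a : SS → ℂ) : Prop :=
  ∃ (α : Fˣ →* ℂˣ) (b : SS → ℂ) (x : GG), α * α = 1 ∧ α ≠ 1 ∧ IsIrrCharacter SS a ∧
    IsIrrCharacter SS b ∧ a ≠ b ∧ vIS α = a + b ∧ ∀ s, b (cjS x s) = a s

/-- A constituent of the reducible discrete series. -/
def HalfD (a : SS → ℂ) : Prop :=
  ∃ (φ : U1 F K →* ℂˣ) (b : SS → ℂ) (x : GG), φ * φ = 1 ∧ φ ≠ 1 ∧ IsIrrCharacter SS a ∧
    IsIrrCharacter SS b ∧ a ≠ b ∧ vDS K hK φ = a + b ∧ ∀ s, b (cjS x s) = a s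

theorem conj_swap {a b : SS → ℂ} {x : GG} (h : ∀ s, b (cjS x s) = a s) (s : SS) :
    a (cjS x⁻¹ s) = b s := by
  rw [← h, ← cjS_mul, mul_inv_cancel, cjS_of_commute]
  rw [one_mul, mul_one]

theorem not_invS_of_conj {a b : SS → ℂ} {x : GG} (hne : a ≠ b) (h : ∀ s, b (cjS x s) = a s) :
    ¬ InvS a := fun hi => hne (funext fun s => by rw [← conj_swap h s, hi])

theorem one_eq_of_conj {a b : SS → ℂ} {x : GG} (h : ∀ s, b (cjS x s) = a s) : b 1 = a 1 := by
  rw [← h 1, map_one]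

theorem exists_sq_one_ne {A : Type*} [CommGroup A] [Fintype A] [DecidableEq A]
    (h : ((univ : Finset A).filter fun x => x * x = 1).card = 2) :
    ∃ α : A →* ℂˣ, α * α = 1 ∧ α ≠ 1 ∧ ∀ β, β * β = 1 → β ≠ 1 → β = α := by
  classical
  rw [← card_sq_one] at h
  obtain ⟨a, b, hab, hset⟩ := card_eq_two.1 h
  have hm : ∀ β, β * β = 1 ↔ β = a ∨ β = b := fun β => by
    have := Finset.ext_iff.1 hset β
    simpa using this
  rcases (hm 1).1 (MonoidHom.ext fun x => by simp) with e | e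
  · exact ⟨b, (hm b).2 (Or.inr rfl), fun e' => hab (e.symm.trans e'.symm),
      fun β h1 h2 => ((hm β).1 h1).resolve_left fun e' => h2 (e'.trans e.symm)⟩
  · exact ⟨a, (hm a).2 (Or.inl rfl), fun e' => hab (e'.trans e),
      fun β h1 h2 => ((hm β).1 h1).resolve_right fun e' => h2 (e'.trans e.symm)⟩

include K hK in
theorem halfI_facts {a : SS → ℂ} (h : HalfI a) :
    IsIrrCharacter SS a ∧ ¬ InvS a ∧ a 1 = ((Fintype.card F : ℂ) + 1) / 2 := by
  obtain ⟨α, b, x, -, -, ha, -, hne, he, hc⟩ := h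
  refine ⟨ha, not_invS_of_conj hne hc, ?_⟩
  have h1 := congrFun he 1
  rw [vIS_one, Pi.add_apply, one_eq_of_conj hc] at h1
  linear_combination -(1 / 2 : ℂ) * h1

theorem halfD_facts {a : SS → ℂ} (h : HalfD K hK a) :
    IsIrrCharacter SS a ∧ ¬ InvS a ∧ a 1 = ((Fintype.card F : ℂ) - 1) / 2 := by
  obtain ⟨φ, b, x, -, -, ha, -, hne, he, hc⟩ := h
  refine ⟨ha, not_invS_of_conj hne hc, ?_⟩
  have h1 := congrFun he 1
  rw [vDS_one, Pi.add_apply, one_eq_of_conj hc] at h1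
  linear_combination -(1 / 2 : ℂ) * h1

include K hK in
theorem exists_pairI (hodd : Odd (Fintype.card F)) :
    ∃ (α : Fˣ →* ℂˣ) (a b : SS → ℂ) (x : GG), α * α = 1 ∧ α ≠ 1 ∧
      (∀ β, β * β = 1 → β ≠ 1 → β = α) ∧ HalfI a ∧ HalfI b ∧ a ≠ b ∧ vIS α = a + b ∧
      ∀ s, b (cjS x s) = a s := by
  classical
  obtain ⟨α, h1, h2, h3⟩ := exists_sq_one_ne (A := Fˣ) (card_Z2_odd hodd)
  obtain ⟨a, b, x, ha, hb, hne, he, hc⟩ := exists_halves (isIrr_vI K hK (β := 1) h2)
    (show classInner (vIS α) (vIS α) = 2 by rw [norm_vIS K hK, if_pos h1])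
  exact ⟨α, a, b, x, h1, h2, h3, ⟨α, b, x, h1, h2, ha, hb, hne, he, hc⟩,
    ⟨α, a, x⁻¹, h1, h2, hb, ha, hne.symm, he.trans (add_comm a b), conj_swap hc⟩, hne, he, hc⟩

theorem exists_pairD (hodd : Odd (Fintype.card F)) :
    ∃ (φ : U1 F K →* ℂˣ) (a b : SS → ℂ) (x : GG), φ * φ = 1 ∧ φ ≠ 1 ∧
      (∀ ψ, ψ * ψ = 1 → ψ ≠ 1 → ψ = φ) ∧ HalfD K hK a ∧ HalfD K hK b ∧ a ≠ b ∧
      vDS K hK φ = a + b ∧ ∀ s, b (cjS x s) = a s := by
  classical
  obtain ⟨φ, h1, h2, h3⟩ := exists_sq_one_ne (A := U1 F K) (by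
    rw [card_U1_sq, card_Z2_odd hodd])
  obtain ⟨a, b, x, ha, hb, hne, he, hc⟩ := exists_halves
    (isIrr_vD K hK (regular_extU K hK h2))
    (show classInner (vDS K hK φ) (vDS K hK φ) = 2 by rw [norm_vDS K hK, if_pos h1])
  exact ⟨φ, a, b, x, h1, h2, h3, ⟨φ, b, x, h1, h2, ha, hb, hne, he, hc⟩,
    ⟨φ, a, x⁻¹, h1, h2, hb, ha, hne.symm, he.trans (add_comm a b), conj_swap hc⟩, hne, he, hc⟩

theorem mem_pair_of_eq {G : Type*} [Group G] [Fintype G] {a b c d : G → ℂ}
    (ha : IsIrrCharacter G a) (hb : IsIrrCharacter G b) (hc : IsIrrCharacter G c)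
    (hd : IsIrrCharacter G d) (hcd : c ≠ d) (e : a + b = c + d) : c = a ∨ c = b := by
  by_contra hne
  push Not at hne
  have := congrArg (fun f => classInner f c) e
  simp only [Cfsg.Agent.Char.classInner_add_left, Cfsg.Agent.Char.classInner_irr_ne ha hc hne.1.symm,
    Cfsg.Agent.Char.classInner_irr_ne hb hc hne.2.symm, Cfsg.Agent.Char.classInner_self_irr hc,
    Cfsg.Agent.Char.classInner_irr_ne hd hc hcd.symm] at this
  norm_num at this

include K hK in
theorem halfI_eq (hodd : Odd (Fintype.card F)) {a : SS → ℂ} {α : Fˣ →* ℂˣ} {b : SS → ℂ}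
    (h1 : α * α = 1) (h2 : α ≠ 1) (ha : IsIrrCharacter SS a) (hb : IsIrrCharacter SS b)
    (he : vIS α = a + b) {c : SS → ℂ} (hc : HalfI c) : c = a ∨ c = b := by
  obtain ⟨β, d, x, g1, g2, gc, gd, gne, ge, -⟩ := hc
  obtain ⟨γ, -, -, huniq⟩ := exists_sq_one_ne (A := Fˣ) (card_Z2_odd hodd)
  obtain rfl : β = α := (huniq β g1 g2).trans (huniq α h1 h2).symm
  exact mem_pair_of_eq ha hb gc gd gne (he.symm.trans ge)

theorem halfD_eq (hodd : Odd (Fintype.card F)) {a : SS → ℂ} {φ : U1 F K →* ℂˣ} {b : SS → ℂ}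
    (h1 : φ * φ = 1) (h2 : φ ≠ 1) (ha : IsIrrCharacter SS a) (hb : IsIrrCharacter SS b)
    (he : vDS K hK φ = a + b) {c : SS → ℂ} (hc : HalfD K hK c) : c = a ∨ c = b := by
  classical
  obtain ⟨ψ, d, x, g1, g2, gc, gd, gne, ge, -⟩ := hc
  obtain ⟨γ, -, -, huniq⟩ := exists_sq_one_ne (A := U1 F K) (by
    rw [card_U1_sq, card_Z2_odd hodd])
  obtain rfl : ψ = φ := (huniq ψ g1 g2).trans (huniq φ h1 h2).symm
  exact mem_pair_of_eq ha hb gc gd gne (he.symm.trans ge)

/-- The classification for odd `q`. -/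
theorem irr_cases_odd (hodd : Odd (Fintype.card F)) {χ : SS → ℂ} (hχ : IsIrrCharacter SS χ) :
    χ ∈ wholes K hK ∨ HalfI χ ∨ HalfD K hK χ := by
  classical
  obtain ⟨α, a, b, x, -, -, -, ha, hb, hab, -, -⟩ := exists_pairI K hK hodd
  obtain ⟨φ, c, d, y, -, -, -, hc, hd, hcd, -, -⟩ := exists_pairD K hK hodd
  obtain ⟨ia, na, da⟩ := halfI_facts K hK ha
  obtain ⟨ib, nb, db⟩ := halfI_facts K hK hb
  obtain ⟨ic, nc, dc⟩ := halfD_facts K hK hc
  obtain ⟨id', nd, dd⟩ := halfD_facts K hK hd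
  have hne : ∀ f g : SS → ℂ, f 1 = ((Fintype.card F : ℂ) + 1) / 2 →
      g 1 = ((Fintype.card F : ℂ) - 1) / 2 → f ≠ g := fun f g h1 h2 e => by
    rw [e, h2] at h1
    exact one_ne_zero (by linear_combination -h1 : (1 : ℂ) = 0)
  rcases complete K hK (H := ({a, b} : Finset (SS → ℂ)) ∪ {c, d})
    (by simp [ia, ib, ic, id', or_imp, forall_and]) (by simp [na, nb, nc, nd, or_imp, forall_and])
    (by
      rw [sum_union, sum_pair hab, sum_pair hcd, da, db, dc, dd, card_Z2_odd hodd]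
      · push_cast; ring
      · simp [hne a c da dc, hne a d da dd, hne b c db dc, hne b d db dd,
          (hne a c da dc).symm, (hne a d da dd).symm, (hne b c db dc).symm, (hne b d db dd).symm])
    hχ with h | h
  · exact Or.inl h
  · simp only [mem_union, mem_insert, mem_singleton] at h
    rcases h with (rfl | rfl) | (rfl | rfl)
    exacts [Or.inr (Or.inl ha), Or.inr (Or.inl hb), Or.inr (Or.inr hc), Or.inr (Or.inr hd)]

/-- Degrees, for odd `q`. -/
theorem degree_cases_odd (hodd : Odd (Fintype.card F)) {χ : SS → ℂ} (hχ : IsIrrCharacter SS χ) :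
    (χ = (fun _ => 1) ∧ χ 1 = 1) ∨ (χ = vSS ∧ χ 1 = Fintype.card F) ∨
    (χ ∈ famC (F := F) ∧ χ 1 = (Fintype.card F : ℂ) + 1) ∨
    (χ ∈ famD K hK ∧ χ 1 = (Fintype.card F : ℂ) - 1) ∨
    (HalfI χ ∧ χ 1 = ((Fintype.card F : ℂ) + 1) / 2) ∨
    (HalfD K hK χ ∧ χ 1 = ((Fintype.card F : ℂ) - 1) / 2) := by
  rcases irr_cases_odd K hK hodd hχ with h | h | h
  · rcases (mem_wholes K hK).1 h with rfl | rfl | h | h
    · exact Or.inl ⟨rfl, rfl⟩
    · exact Or.inr (Or.inl ⟨rfl, vSS_one⟩)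
    · obtain ⟨α, -, rfl⟩ := mem_famC.1 h
      exact Or.inr (Or.inr (Or.inl ⟨h, vIS_one α⟩))
    · obtain ⟨φ, -, rfl⟩ := (mem_famD K hK).1 h
      exact Or.inr (Or.inr (Or.inr (Or.inl ⟨h, vDS_one K hK φ⟩)))
  · exact Or.inr (Or.inr (Or.inr (Or.inr (Or.inl ⟨h, (halfI_facts K hK h).2.2⟩))))
  · exact Or.inr (Or.inr (Or.inr (Or.inr (Or.inr ⟨h, (halfD_facts K hK h).2.2⟩))))

/-- Degrees, for even `q`. -/
theorem degree_cases_even (he : (Z2 F).card = 1) {χ : SS → ℂ} (hχ : IsIrrCharacter SS χ) :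
    (χ = (fun _ => 1) ∧ χ 1 = 1) ∨ (χ = vSS ∧ χ 1 = Fintype.card F) ∨
    (χ ∈ famC (F := F) ∧ χ 1 = (Fintype.card F : ℂ) + 1) ∨
    (χ ∈ famD K hK ∧ χ 1 = (Fintype.card F : ℂ) - 1) := by
  rcases (mem_wholes K hK).1 (irr_cases_even K hK he hχ) with rfl | rfl | h | h
  · exact Or.inl ⟨rfl, rfl⟩
  · exact Or.inr (Or.inl ⟨rfl, vSS_one⟩)
  · obtain ⟨α, -, rfl⟩ := mem_famC.1 h
    exact Or.inr (Or.inr (Or.inl ⟨h, vIS_one α⟩))
  · obtain ⟨φ, -, rfl⟩ := (mem_famD K hK).1 h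
    exact Or.inr (Or.inr (Or.inr ⟨h, vDS_one K hK φ⟩))

end Cfsg.Agent.Block.SL2Char
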