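import Mathlib
import Cfsg.Agent.Lib.Block.SL2Char.SLTable

/-!
Values of the irreducible characters of `SL(2, q)`, in particular of the halves at the transvection.
-/

set_option linter.unusedSectionVars false

namespace Cfsg.Agent.Block.SL2Char

open Matrix Finset
open scoped ComplexConjugate

universe u v

variable {F : Type u} [Field F] [Fintype F] [DecidableEq F]

local notation "GG" => GL (Fin 2) F
local notation "SS" => Matrix.SpecialLinearGroup (Fin 2) F
local notation "tg" => (Matrix.SpecialLinearGroup.toGL : SS →* GG)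

/-- Counting irreducible characters with given values at one. -/
theorem card_degree_iff {G : Type*} [Group G] [Fintype G] {S : Finset (G → ℂ)} {c : ℂ}
    (hS : ∀ f ∈ S, IsIrrCharacter G f ∧ f 1 = c)
    (h : ∀ f, IsIrrCharacter G f → f 1 = c → f ∈ S) :
    Nat.card {χ : IrrCharacter G // (χ : G → ℂ) 1 = c} = S.card := by
  rw [← Fintype.card_coe, ← Nat.card_eq_fintype_card]
  exact Nat.card_congr
    { toFun := fun χ => ⟨χ.1.1, h _ χ.1.2 χ.2⟩
      invFun := fun f => ⟨⟨f.1, (hS _ f.2).1⟩, (hS _ f.2).2⟩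
      left_inv := fun χ => rfl
      right_inv := fun f => rfl }

/-- The character of order two of a cyclic group of even order. -/
theorem quad_iff {A : Type*} [CommGroup A] [Fintype A] [IsCyclic A] {m : ℕ}
    (hm : Fintype.card A = 2 * m) {α : A →* ℂˣ} (h1 : α * α = 1) (h2 : α ≠ 1) (x : A) :
    (cv α x = 1 ∧ x ^ m = 1) ∨ (cv α x = -1 ∧ x ^ m ≠ 1) := by
  obtain ⟨g, hg⟩ := IsCyclic.exists_monoid_generator (α := A)
  have hord : orderOf g = 2 * m := by
    rw [← hm, ← Nat.card_eq_fintype_card]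
    refine orderOf_eq_card_of_forall_mem_zpowers fun y => ?_
    obtain ⟨n, rfl⟩ := hg y
    exact ⟨n, zpow_natCast g n⟩
  have hgen : cv α g = -1 := by
    have hsq : cv α g * cv α g = 1 := by
      rw [← cv_mul_hom, h1, cv_one_hom]
    refine (mul_self_eq_one_iff.1 hsq).resolve_left fun e => h2 (MonoidHom.ext fun y => ?_)
    obtain ⟨n, rfl⟩ := hg y
    have e' : α g = 1 := Units.ext e
    simp [e']
  obtain ⟨n, rfl⟩ := hg x
  have hval : cv α (g ^ n) = (-1) ^ n := by
    rw [← hgen]; simp [cv]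
  have hpos : 0 < m := by
    have := Fintype.card_pos (α := A); omega
  have hiff : (g ^ n) ^ m = 1 ↔ Even n := by
    rw [← pow_mul, ← orderOf_dvd_iff_pow_eq_one, hord, Nat.mul_dvd_mul_iff_right hpos,
      even_iff_two_dvd]
  show (cv α (g ^ n) = 1 ∧ (g ^ n) ^ m = 1) ∨ (cv α (g ^ n) = -1 ∧ (g ^ n) ^ m ≠ 1)
  rcases Nat.even_or_odd n with he | ho
  · exact Or.inl ⟨hval.trans he.neg_one_pow, hiff.2 he⟩
  · exact Or.inr ⟨hval.trans ho.neg_one_pow, fun e => (Nat.not_even_iff_odd.2 ho) (hiff.1 e)⟩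

theorem quad_apply_eq_one_iff {A : Type*} [CommGroup A] [Fintype A] [IsCyclic A] {m : ℕ}
    (hm : Fintype.card A = 2 * m) {α : A →* ℂˣ} (h1 : α * α = 1) (h2 : α ≠ 1) (x : A) :
    cv α x = 1 ↔ x ^ m = 1 := by
  rcases quad_iff hm h1 h2 x with ⟨e, e'⟩ | ⟨e, e'⟩
  · exact iff_of_true e e'
  · exact iff_of_false (by rw [e]; norm_num) e'

/-! ### locating elements of `SL(2, F)` -/

theorem eq_di_S {g : SS} (h01 : (g : Matrix (Fin 2) (Fin 2) F) 0 1 = 0)
    (h10 : (g : Matrix (Fin 2) (Fin 2) F) 1 0 = 0)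
    (h : (g : Matrix (Fin 2) (Fin 2) F) 0 0 ^ 2 ≠ 1) :
    ∃ x : Fˣ, (x : F) = (g : Matrix (Fin 2) (Fin 2) F) 0 0 ∧ x ≠ x⁻¹ ∧ tg g = di x x⁻¹ := by
  have hd : (g : Matrix (Fin 2) (Fin 2) F) 0 0 * (g : Matrix (Fin 2) (Fin 2) F) 1 1 = 1 := by
    have := g.2
    rw [det_fin_two, h01, h10, mul_zero, sub_zero] at this
    exact this
  have h0 := left_ne_zero_of_mul_eq_one hd
  refine ⟨Units.mk0 _ h0, rfl, ?_, ?_⟩
  · rw [ne_inv_iff, mem_Z2, Units.ext_iff]
    simpa [sq] using h
  · refine Units.ext (Matrix.ext fun i j => ?_)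
    show (g : Matrix (Fin 2) (Fin 2) F) i j = _
    fin_cases i <;> fin_cases j <;> simp [h01, h10, eq_inv_of_mul_eq_one_right hd]

theorem conj_un_S {g : SS} (h10 : (g : Matrix (Fin 2) (Fin 2) F) 1 0 = 0)
    (hd : (g : Matrix (Fin 2) (Fin 2) F) 0 0 = (g : Matrix (Fin 2) (Fin 2) F) 1 1)
    (h01 : (g : Matrix (Fin 2) (Fin 2) F) 0 1 ≠ 0) :
    ∃ z : Fˣ, (z : F) = (g : Matrix (Fin 2) (Fin 2) F) 0 0 ∧ z ∈ Z2 F ∧ IsConj (un z) (tg g) := by
  have hd1 : (g : Matrix (Fin 2) (Fin 2) F) 0 0 * (g : Matrix (Fin 2) (Fin 2) F) 0 0 = 1 := by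
    have := g.2
    rw [det_fin_two, h10, ← hd, mul_zero, sub_zero] at this
    exact this
  refine ⟨Units.mk0 _ (left_ne_zero_of_mul_eq_one hd1), rfl, mem_Z2.2 (Units.ext hd1),
    (isConj_iff_tr_dt (not_isSc_un _) (fun hs => h01 hs.1)).2 ⟨?_, ?_⟩⟩
  · rw [tr_un, Units.val_mk0, tr]
    show _ = (g : Matrix (Fin 2) (Fin 2) F) 0 0 + (g : Matrix (Fin 2) (Fin 2) F) 1 1
    rw [hd]
  · rw [dt_un, Units.val_mk0, dt_toGL, hd1]

variable (K : Type v) [Field K] [Algebra F K] [Fintype K] [DecidableEq K]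
  (hK : Module.finrank F K = 2)

theorem ell_of_noeig_S {g : SS} (h : ∀ (c : F) (v : Fin 2 → F), v ≠ 0 →
      (g : Matrix (Fin 2) (Fin 2) F).mulVec v ≠ c • v) :
    ∃ l : U1 F K, (l : Kˣ) ∉ (emb (F := F) K).range ∧
      IsConj (ell (F := F) K hK (l : Kˣ)) (tg g) := by
  obtain ⟨l, hl, hc⟩ := ell_of_noeig (g := tg g) h K hK
  refine ⟨⟨l, (mem_U1 K).2 (Units.ext ?_)⟩, hl, hc⟩
  have hd : dt (ell (F := F) K hK l) = 1 := by
    obtain ⟨c, hc'⟩ := isConj_iff.1 hc
    rw [← dt_conj (ell (F := F) K hK l) c, hc', dt_toGL]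
  have h5 := congrArg (algebraMap F K) hd
  rw [(tr_dt_ell K hK hl).2, map_one] at h5
  rw [Units.val_pow_eq_pow_val, pow_succ', h5, Units.val_one]

theorem fullDet_ell (l : Kˣ) : FullDet (ell (F := F) K hK l) := by
  intro d
  have hrange : (powMonoidHom (Fintype.card F + 1) : Kˣ →* Kˣ).range = (emb (F := F) K).range := by
    refine Subgroup.eq_of_le_of_card_ge ?_ ?_
    · rintro _ ⟨m, rfl⟩
      by_contra hm
      refine pow_card_notMem K hm ?_
      rw [show Fintype.card F = Fintype.card F - 1 + 1 from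
        (Nat.sub_add_cancel Fintype.card_pos).symm, pow_succ, powMonoidHom_apply,
        Nat.sub_add_cancel Fintype.card_pos, ← pow_mul, mul_comm (Fintype.card F + 1),
        ← card_unitsK_nat K hK, pow_card_eq_one', one_mul]
    · rw [IsCyclic.card_powMonoidHom_range, card_unitsK_nat K hK,
        Nat.gcd_eq_right (dvd_mul_left _ _), Nat.mul_div_cancel _ (Nat.succ_pos _),
        Nat.card_congr (MonoidHom.ofInjective (emb_injective (F := F) K)).toEquiv.symm,
        Nat.card_units, Nat.card_eq_fintype_card]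
  obtain ⟨m, hm⟩ : emb (F := F) K d ∈ (powMonoidHom (Fintype.card F + 1) : Kˣ →* Kˣ).range := by
    rw [hrange]; exact ⟨d, rfl⟩
  refine ⟨ell (F := F) K hK m, by rw [← map_mul, ← map_mul, mul_comm], detu_eq ?_⟩
  have hm' : (m : K) ^ (Fintype.card F + 1) = algebraMap F K d := by
    have := congrArg Units.val hm
    simpa [emb] using this
  refine (algebraMap F K).injective ?_
  rw [← hm']
  by_cases hr : m ∈ (emb (F := F) K).range
  · obtain ⟨w, rfl⟩ := hr
    rw [ell_emb, dt_sc, map_mul, emb_val, ← map_pow, ← map_mul, pow_succ, FiniteField.pow_card]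
  · rw [(tr_dt_ell K hK hr).2, pow_succ']

include K hK in
theorem fullDet_of_ne_un {g : GG} (hg : ∀ z, ¬ IsConj (un z) g) : FullDet g := by
  rcases cases K hK g with ⟨z, rfl⟩ | ⟨z, hz⟩ | ⟨x, y, -, hz⟩ | ⟨l, -, hz⟩
  · exact fullDet_sc z
  · exact absurd hz (hg z)
  · obtain ⟨c, rfl⟩ := isConj_iff.1 hz
    exact fullDet_conj (fullDet_di x y) c
  · obtain ⟨c, rfl⟩ := isConj_iff.1 hz
    exact fullDet_conj (fullDet_ell K hK l) c

theorem half_value {a b f : SS → ℂ} {x : GG} (hb : IsClassFunction SS b) (he : f = a + b)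
    (hc : ∀ s, b (cjS x s) = a s) {s : SS} (hs : FullDet (tg s)) : a s = f s / 2 := by
  have h : b s = a s := by rw [← hc s, eq_of_fullDet hb hs]
  rw [he, Pi.add_apply, h]; ring

theorem halfI_value {a : SS → ℂ} (h : HalfI a) {s : SS} (hs : FullDet (tg s)) :
    ∃ α : Fˣ →* ℂˣ, α * α = 1 ∧ α ≠ 1 ∧ a s = vIS α s / 2 := by
  obtain ⟨α, b, x, h1, h2, -, hb, -, he, hc⟩ := h
  exact ⟨α, h1, h2, half_value (Cfsg.Agent.Char.IsIrr.classFun hb) he hc hs⟩

theorem halfD_value {a : SS → ℂ} (h : HalfD K hK a) {s : SS} (hs : FullDet (tg s)) :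
    ∃ φ : U1 F K →* ℂˣ, φ * φ = 1 ∧ φ ≠ 1 ∧ a s = vDS K hK φ s / 2 := by
  obtain ⟨φ, b, x, h1, h2, -, hb, -, he, hc⟩ := h
  exact ⟨φ, h1, h2, half_value (Cfsg.Agent.Char.IsIrr.classFun hb) he hc hs⟩

theorem vIS_di (α : Fˣ →* ℂˣ) {x : Fˣ} (hx : x ≠ x⁻¹) {g : SS} (hg : tg g = di x x⁻¹) :
    vIS α g = cv α x + cv α x⁻¹ := by
  rw [vIS, resS_apply, hg, vI_di _ _ hx, cv_one_hom, cv_one_hom, mul_one, mul_one]

theorem vDS_di (φ : U1 F K →* ℂˣ) {x : Fˣ} (hx : x ≠ x⁻¹) {g : SS} (hg : tg g = di x x⁻¹) :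
    vDS K hK φ g = 0 := by
  rw [vDS, resS_apply, hg, vD_di K hK _ hx]

include K hK in
theorem vIS_ell (α : Fˣ →* ℂˣ) {l : Kˣ} (hl : l ∉ (emb (F := F) K).range) {g : SS}
    (hg : IsConj (ell (F := F) K hK l) (tg g)) : vIS α g = 0 := by
  rw [vIS, resS_of_conj (classFun_vI _ _) hg, vI_ell K hK _ _ hl]

theorem vDS_ell (φ : U1 F K →* ℂˣ) {l : U1 F K} (hl : (l : Kˣ) ∉ (emb (F := F) K).range) {g : SS}
    (hg : IsConj (ell (F := F) K hK (l : Kˣ)) (tg g)) :
    vDS K hK φ g = -(cv φ l + cv φ l⁻¹) := by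
  rw [vDS, resS_of_conj (classFun_vD K hK _) hg, vD_ell K hK _ hl, cv_extU, cv_extU_pow]

/-! ### the transvection -/

theorem conj_perm {a b : SS → ℂ} (ha : IsIrrCharacter SS a) (hb : IsIrrCharacter SS b)
    (hab : a ≠ b) (hinv : InvS (a + b)) (y : GG) :
    ((∀ s, a (cjS y s) = a s) ∧ ∀ s, b (cjS y s) = b s) ∨
      ((∀ s, a (cjS y s) = b s) ∧ ∀ s, b (cjS y s) = a s) := by
  have e : (fun s => a (cjS y s)) + (fun s => b (cjS y s)) = a + b := funext fun s => hinv y s
  have hne : (fun s => a (cjS y s)) ≠ fun s => b (cjS y s) := fun h => hab (funext fun s => by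
    have := congrFun h ((cjS y).symm s)
    simpa using this)
  rcases mem_pair_of_eq ha hb (Cfsg.Agent.Char.IsIrr.comp_mulEquiv (cjS y) ha)
    (Cfsg.Agent.Char.IsIrr.comp_mulEquiv (cjS y) hb) hne e.symm with h | h
  · refine Or.inl ⟨congrFun h, fun s => ?_⟩
    have h1 := congrFun e s
    simp only [Pi.add_apply, congrFun h s] at h1
    exact add_left_cancel h1
  · refine Or.inr ⟨congrFun h, fun s => ?_⟩
    have h1 := congrFun e s
    simp only [Pi.add_apply, congrFun h s] at h1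
    exact add_left_cancel (h1.trans (add_comm _ _))

include K hK in
/-- The norm of the difference of two halves at the transvection. -/
theorem diff_norm (hodd : Odd (Fintype.card F)) {a b : SS → ℂ} {x : GG}
    (ha : IsIrrCharacter SS a) (hb : IsIrrCharacter SS b) (hab : a ≠ b) (hinv : InvS (a + b))
    (hc : ∀ s, b (cjS x s) = a s) :
    (a uS - b uS) * conj (a uS - b uS) = (Fintype.card F : ℂ) := by
  classical
  let f : SS → ℂ := a - b
  let P : SS → ℂ := fun s => f s * conj (f s)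
  have hP : InvS P := fun y s => by
    show f (cjS y s) * conj (f (cjS y s)) = f s * conj (f s)
    rcases conj_perm ha hb hab hinv y with ⟨h1, h2⟩ | ⟨h1, h2⟩
    · simp only [f, Pi.sub_apply, h1, h2]
    · simp only [f, Pi.sub_apply, h1, h2, map_sub]; ring
  let Φ : GG → ℂ := fun g => if h : dt g = 1 then P (mkS g h) else 0
  have hΦs : ∀ s : SS, Φ (tg s) = P s := fun s => by
    simp only [Φ, dif_pos (dt_toGL s)]
    congr 1
  have hΦ : IsClassFunction GG Φ := fun g y => by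
    by_cases hd : dt g = 1
    · simp only [Φ, dif_pos hd, dif_pos ((dt_conj g y).trans hd)]
      rw [← hP y (mkS g hd)]
      congr 1
    · simp only [Φ, dif_neg hd, dif_neg (fun e => hd ((dt_conj g y).symm.trans e))]
  have hfull : ∀ s : SS, FullDet (tg s) → P s = 0 := fun s hs => by
    have hb' : b s = a s := by
      rw [← hc s, eq_of_fullDet (Cfsg.Agent.Char.IsIrr.classFun hb) hs]
    simp [P, f, hb']
  have hU : ∀ z (hz : z ∈ Z2 F), P (uZ z hz) = P uS := by
    intro z hz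
    let σ : SS := mkS (sc z) (by rw [dt_sc, ← Units.val_mul, mem_Z2.1 hz, Units.val_one])
    have hσc : σ ∈ Subgroup.center SS := Subgroup.mem_center_iff.2 fun t =>
      SpecialLinearGroup.toGL_injective (by
        show tg (t * σ) = tg (σ * t)
        rw [map_mul, map_mul, toGL_mkS, sc_central])
    obtain ⟨c, hc1, hca⟩ := Cfsg.Agent.Char.IsIrr.scalar_of_center ha hσc
    obtain ⟨c', -, hcb⟩ := Cfsg.Agent.Char.IsIrr.scalar_of_center hb hσc
    have hσ : b σ = a σ := by
      rw [← hc σ, eq_of_fullDet (Cfsg.Agent.Char.IsIrr.classFun hb)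
        (by rw [toGL_mkS]; exact fullDet_sc z)]
    have hcc : c' = c := by
      have e1 := hca 1
      have e2 := hcb 1
      rw [mul_one] at e1 e2
      rw [hσ, e1, one_eq_of_conj hc] at e2
      exact (mul_right_cancel₀ (Cfsg.Agent.Char.IsIrr.one_ne_zero ha) e2).symm
    have hdec : uZ z hz = σ * cjS (di z 1) uS := SpecialLinearGroup.toGL_injective (by
      show tg (uZ z hz) = tg (σ * cjS (di z 1) uS)
      rw [map_mul, toGL_uZ, toGL_mkS, toGL_cjS, toGL_uS, ← mul_assoc, eq_mul_inv_iff_mul_eq]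
      refine Units.ext ?_
      have hz' : (z : F) * z = 1 := congrArg Units.val (mem_Z2.1 hz)
      simp [Matrix.mul_fin_two, hz'])
    have hcn : c * conj c = 1 := by
      rw [Complex.mul_conj', hc1]; norm_num
    rw [hdec, ← hP (di z 1) uS]
    show f (σ * _) * conj (f (σ * _)) = f _ * conj (f _)
    simp only [f, Pi.sub_apply, hca, hcb, hcc, ← mul_sub, map_mul]
    linear_combination (a (cjS (di z 1) uS) - b (cjS (di z 1) uS)) *
      conj (a (cjS (di z 1) uS) - b (cjS (di z 1) uS)) * hcn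
  have hsum : ∑ s : SS, Φ (tg s) = 2 * (Nat.card SS : ℂ) := by
    have h : classInner f f = 2 := by
      rw [Cfsg.Agent.Char.classInner_sub_left, Cfsg.Agent.Char.classInner_sub_right,
        Cfsg.Agent.Char.classInner_sub_right, Cfsg.Agent.Char.classInner_self_irr ha,
        Cfsg.Agent.Char.classInner_self_irr hb, Cfsg.Agent.Char.classInner_irr_ne ha hb hab,
        Cfsg.Agent.Char.classInner_irr_ne hb ha hab.symm]
      norm_num
    rw [classInner, inv_mul_eq_iff_eq_mul₀ (Nat.cast_ne_zero.2 Nat.card_pos.ne')] at h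
    rw [mul_comm, ← h]
    exact sum_congr rfl fun s _ => hΦs s
  rw [sum_SS_master K hK hΦ (A := 0) (B := P uS) (G0 := 0) (H0 := 0) (g := fun _ => 0)
    (h := fun _ => 0)] at hsum
  · simp only [sum_const_zero, mul_zero, sub_zero, add_zero, zero_add, card_Z2_odd hodd,
      card_SS] at hsum
    show P uS = _
    have hne : ((Fintype.card F : ℂ) ^ 2 - 1) * 2 ≠ 0 := by
      rw [show (Fintype.card F : ℂ) ^ 2 - 1 =
        ((Fintype.card F : ℂ) - 1) * ((Fintype.card F : ℂ) + 1) by ring]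
      exact mul_ne_zero (mul_ne_zero (cardF_cast_ne (F := F)).2.1 (cardF_cast_ne (F := F)).2.2)
        two_ne_zero
    push_cast at hsum
    refine mul_left_cancel₀ hne ?_
    linear_combination hsum
  · intro z hz
    have hd : dt (sc z : GG) = 1 := by rw [dt_sc, ← Units.val_mul, mem_Z2.1 hz, Units.val_one]
    simp only [Φ, dif_pos hd]
    exact hfull _ (by rw [toGL_mkS]; exact fullDet_sc z)
  · intro z hz
    rw [← toGL_uZ z hz, hΦs, hU z hz]
  · intro y hy
    have hd : dt (di y y⁻¹ : GG) = 1 := by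
      rw [dt_di, ← Units.val_mul, mul_inv_cancel, Units.val_one]
    simp only [Φ, dif_pos hd]
    exact hfull _ (by rw [toGL_mkS]; exact fullDet_di _ _)
  · intros; rfl
  · intro l _
    simp only [Φ, dif_pos (dt_ell_U1 K hK l)]
    exact hfull _ (by rw [toGL_mkS]; exact fullDet_ell K hK _)
  · intros; rfl

theorem eq_of_square_det {f : SS → ℂ} (hf : IsClassFunction SS f) {y c : GG}
    (hd : detu y = detu c) (s : SS) : f (cjS y s) = f (cjS c s) := by
  obtain ⟨t, ht⟩ := exists_toGL_of_detu (g := y * c⁻¹) (by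
    rw [map_mul, map_inv, hd, mul_inv_cancel])
  rw [show y = tg t * c by rw [ht, inv_mul_cancel_right], cjS_mul, classFun_cjS hf]

theorem inv_uS : (uS : SS)⁻¹ = cjS (di (-1) 1) uS := by
  refine inv_eq_of_mul_eq_one_right (SpecialLinearGroup.toGL_injective ?_)
  show tg (uS * _) = tg 1
  rw [map_mul, map_one, toGL_cjS, toGL_uS, ← mul_assoc, mul_inv_eq_one]
  refine Units.ext ?_
  simp [Matrix.mul_fin_two]

theorem sq_neg_one_pow (hodd : Odd (Fintype.card F)) :
    (IsSquare (-1 : F) ↔ Even ((Fintype.card F - 1) / 2)) := by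
  obtain ⟨k, hk⟩ := hodd
  have hne : (-1 : F) ≠ 1 := fun h => by
    have h2 := card_Z2_odd (F := F) ⟨k, hk⟩
    rw [show Z2 F = {1} by
      ext z
      simp only [mem_singleton]
      refine ⟨fun hz => ?_, fun hz => hz ▸ one_mem_Z2⟩
      rcases eq_one_or_neg hz with rfl | rfl
      · rfl
      · exact Units.ext (by simpa using h)] at h2
    simp at h2
  have hchar : ringChar F ≠ 2 := fun hc => by
    haveI := ringChar.of_eq hc
    exact hne (by rw [CharTwo.neg_eq])
  rw [FiniteField.isSquare_iff hchar (neg_ne_zero.2 one_ne_zero), hk,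
    show (2 * k + 1) / 2 = k by omega, show (2 * k + 1 - 1) / 2 = k by omega]
  exact neg_one_pow_eq_one_iff_even hne

include K hK in
/-- The square of the difference of two halves at the transvection. -/
theorem diff_sq (hodd : Odd (Fintype.card F)) {a b : SS → ℂ} {x : GG}
    (ha : IsIrrCharacter SS a) (hb : IsIrrCharacter SS b) (hab : a ≠ b) (hinv : InvS (a + b))
    (hc : ∀ s, b (cjS x s) = a s) :
    (a uS - b uS) ^ 2 = (-1 : ℂ) ^ ((Fintype.card F - 1) / 2) * (Fintype.card F : ℂ) := by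
  classical
  have hn := diff_norm K hK hodd ha hb hab hinv hc
  have hcj : ∀ f : SS → ℂ, IsIrrCharacter SS f → conj (f uS) = f (cjS (di (-1) 1) uS) :=
    fun f hf => by rw [← inv_uS, Cfsg.Agent.Char.IsIrr.apply_inv hf]
  have hdy : detu (di (-1) 1 : GG) = -1 := detu_eq (by simp [dt_di])
  by_cases hs : IsSquare (-1 : F)
  · obtain ⟨i, hi⟩ := hs
    have hi0 : i ≠ 0 := fun e => by simp [e] at hi
    have hfix : ∀ f : SS → ℂ, IsIrrCharacter SS f → conj (f uS) = f uS := fun f hf => by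
      rw [hcj f hf, eq_of_square_det (Cfsg.Agent.Char.IsIrr.classFun hf) (c := sc (Units.mk0 i hi0))
        (hdy.trans (detu_eq (by simp [dt_sc, ← hi])).symm)]
      rw [cjS_of_commute (sc_central _ _).symm]
    rw [((sq_neg_one_pow hodd).1 ⟨i, hi⟩).neg_one_pow, one_mul, ← hn, map_sub, hfix a ha, hfix b hb]
    ring
  · have hodd' : Odd ((Fintype.card F - 1) / 2) :=
      Nat.not_even_iff_odd.1 fun e => hs ((sq_neg_one_pow hodd).2 e)
    obtain ⟨α, h1, h2, -⟩ := exists_sq_one_ne (A := Fˣ) (card_Z2_odd hodd)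
    have hm : Fintype.card Fˣ = 2 * ((Fintype.card F - 1) / 2) := by
      rw [Fintype.card_units]; obtain ⟨k, hk⟩ := hodd; omega
    have hsq : ∀ d : Fˣ, IsSquare d ∨ IsSquare (-d) := by
      intro d
      have hiff : ∀ e : Fˣ, cv α e = 1 → IsSquare e := fun e he => by
        obtain ⟨g, hg⟩ := IsCyclic.exists_monoid_generator (α := Fˣ)
        obtain ⟨n, rfl⟩ := hg e
        rcases Nat.even_or_odd n with ⟨r, hr⟩ | ⟨r, hr⟩
        · exact ⟨g ^ r, by rw [← pow_add, ← hr]⟩
        · exfalso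
          rcases quad_iff hm h1 h2 g with ⟨e1, -⟩ | ⟨e1, -⟩
          · refine h2 (MonoidHom.ext fun y => ?_)
            obtain ⟨j, rfl⟩ := hg y
            have e' : α g = 1 := Units.ext e1
            simp [e']
          · have he' : cv α g ^ n = 1 := by
              simpa [cv] using he
            rw [e1, Odd.neg_one_pow ⟨r, hr⟩] at he'
            norm_num at he'
      rcases quad_iff hm h1 h2 d with ⟨e, -⟩ | ⟨e, -⟩
      · exact Or.inl (hiff d e)
      · refine Or.inr (hiff _ ?_)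
        rcases quad_iff hm h1 h2 (-1) with ⟨e1, -⟩ | ⟨e1, -⟩
        · exact absurd ((hiff _ e1).map (Units.coeHom F)) (by simpa using hs)
        · rw [show -d = -1 * d from (neg_one_mul d).symm, cv_mul, e1, e]; norm_num
    have hswap : (∀ s, a (cjS (di (-1) 1) s) = b s) ∧ ∀ s, b (cjS (di (-1) 1) s) = a s := by
      refine (conj_perm ha hb hab hinv _).resolve_left fun ⟨h, _⟩ => ?_
      refine not_invS_of_conj hab hc fun y s => ?_
      have hcl := Cfsg.Agent.Char.IsIrr.classFun ha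
      rcases hsq (detu y) with ⟨w, hw⟩ | ⟨w, hw⟩
      · rw [eq_of_square_det hcl (c := sc w) (hw.trans (detu_eq (by simp [dt_sc])).symm),
          cjS_of_commute (sc_central _ _).symm]
      · rw [eq_of_square_det hcl (c := di (-1) 1 * sc w) (by
          rw [map_mul, hdy, detu_eq (g := sc w) (w := w * w) (by simp [dt_sc]), ← hw,
            neg_one_mul, neg_neg]), cjS_mul, cjS_of_commute (sc_central _ _).symm, h]
    rw [hodd'.neg_one_pow, ← hn, map_sub, hcj a ha, hcj b hb, hswap.1, hswap.2]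
    ring

include K hK in
theorem halfI_u (hodd : Odd (Fintype.card F)) {a : SS → ℂ} (h : HalfI a) :
    (2 * a uS - 1) ^ 2 = (-1 : ℂ) ^ ((Fintype.card F - 1) / 2) * (Fintype.card F : ℂ) := by
  obtain ⟨α, b, x, -, -, ha, hb, hne, he, hc⟩ := h
  rw [← diff_sq K hK hodd ha hb hne (he ▸ invS_vIS α) hc]
  have := congrFun he uS
  rw [vIS_uS, Pi.add_apply] at this
  rw [show b uS = 1 - a uS by linear_combination -this]
  ring

theorem halfD_u (hodd : Odd (Fintype.card F)) {a : SS → ℂ} (h : HalfD K hK a) :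
    (2 * a uS + 1) ^ 2 = (-1 : ℂ) ^ ((Fintype.card F - 1) / 2) * (Fintype.card F : ℂ) := by
  obtain ⟨φ, b, x, -, -, ha, hb, hne, he, hc⟩ := h
  rw [← diff_sq K hK hodd ha hb hne (he ▸ invS_vDS K hK φ) hc]
  have := congrFun he uS
  rw [vDS_uS, Pi.add_apply] at this
  rw [show b uS = -1 - a uS by linear_combination -this]
  ring

end Cfsg.Agent.Block.SL2Char
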