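import Mathlib
import Cfsg.Agent.Lib.Block.SL2Char.SLValues

/-!
The character table of `SL(2, q)`: uniform degree classification, sums over the unipotent subgroup,
induction from the Borel subgroup, and cyclic subgroups of order `q + 1`.
-/

set_option linter.unusedSectionVars false

namespace Cfsg.Agent.Block.SL2Char

open Matrix Finset
open scoped ComplexConjugate

universe u v

variable {F : Type u} [Field F] [Fintype F] [DecidableEq F]

local notation "GG" => GL (Fin 2) F
local notation "SS" => Matrix.SpecialLinearGroup (Fin 2) F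
local notation "tg" => (Matrix.SpecialLinearGroup.toGL : SS →* GG)
local notation "BB" => Cfsg.upperTriangularGL 2 F

theorem card_Z2_not_odd (h : ¬ Odd (Fintype.card F)) : (Z2 F).card = 1 := by
  haveI : CharP F 2 := ringChar.of_eq (FiniteField.even_card_iff_char_two.2
    (Nat.even_iff.1 (Nat.not_odd_iff_even.1 h)))
  exact card_Z2_even

theorem odd_card_eq (hodd : Odd (Fintype.card F)) :
    Fintype.card Fˣ = 2 * ((Fintype.card F - 1) / 2) := by
  rw [Fintype.card_units]; obtain ⟨k, hk⟩ := hodd; omega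

theorem three_le_card (hodd : Odd (Fintype.card F)) : 3 ≤ Fintype.card F := by
  have := Fintype.one_lt_card (α := F)
  obtain ⟨k, hk⟩ := hodd; omega

theorem four_le_card {x : Fˣ} (hodd : Odd (Fintype.card F)) (hx : x ≠ x⁻¹) :
    5 ≤ Fintype.card F := by
  have h := card_lt_card (Finset.ssubset_univ_iff.2 fun e : Z2 F = univ =>
    ne_inv_iff.1 hx (e ▸ mem_univ x))
  rw [card_Z2_odd hodd, card_univ, Fintype.card_units] at h
  obtain ⟨k, hk⟩ := hodd; omega

variable (K : Type v) [Field K] [Algebra F K] [Fintype K] [DecidableEq K]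
  (hK : Module.finrank F K = 2)

theorem odd_card_U1 (hK : Module.finrank F K = 2) (hodd : Odd (Fintype.card F)) :
    Fintype.card (U1 F K) = 2 * ((Fintype.card F + 1) / 2) := by
  rw [card_U1 K hK]; obtain ⟨k, hk⟩ := hodd; omega

/-- All irreducible characters, with their degrees as natural numbers. -/
theorem irr_cases_S {χ : SS → ℂ} (hχ : IsIrrCharacter SS χ) :
    ∃ n : ℕ, χ 1 = n ∧
      ((n = 1 ∧ χ = fun _ => 1) ∨ (n = Fintype.card F ∧ χ = vSS) ∨
      (n = Fintype.card F + 1 ∧ χ ∈ famC (F := F)) ∨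
      (n + 1 = Fintype.card F ∧ χ ∈ famD K hK) ∨
      (2 * n = Fintype.card F + 1 ∧ Odd (Fintype.card F) ∧ HalfI χ) ∨
      (2 * n + 1 = Fintype.card F ∧ Odd (Fintype.card F) ∧ HalfD K hK χ)) := by
  have hpos := Fintype.card_pos (α := F)
  by_cases hodd : Odd (Fintype.card F)
  · rcases degree_cases_odd K hK hodd hχ with ⟨e, h1⟩ | ⟨e, h1⟩ | ⟨e, h1⟩ | ⟨e, h1⟩ | ⟨e, h1⟩ | ⟨e, h1⟩
    · exact ⟨1, by rw [h1, Nat.cast_one], Or.inl ⟨rfl, e⟩⟩
    · exact ⟨_, h1, Or.inr (Or.inl ⟨rfl, e⟩)⟩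
    · exact ⟨Fintype.card F + 1, by rw [h1]; push_cast; ring, Or.inr (Or.inr (Or.inl ⟨rfl, e⟩))⟩
    · exact ⟨Fintype.card F - 1, by rw [h1, cardF_sub_one hpos],
        Or.inr (Or.inr (Or.inr (Or.inl ⟨by omega, e⟩)))⟩
    · obtain ⟨k, hk⟩ := hodd
      exact ⟨k + 1, by rw [h1, hk]; push_cast; ring,
        Or.inr (Or.inr (Or.inr (Or.inr (Or.inl ⟨by omega, ⟨k, hk⟩, e⟩))))⟩
    · obtain ⟨k, hk⟩ := hodd
      exact ⟨k, by rw [h1, hk]; push_cast; ring,
        Or.inr (Or.inr (Or.inr (Or.inr (Or.inr ⟨by omega, ⟨k, hk⟩, e⟩))))⟩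
  · rcases degree_cases_even K hK (card_Z2_not_odd hodd) hχ with
      ⟨e, h1⟩ | ⟨e, h1⟩ | ⟨e, h1⟩ | ⟨e, h1⟩
    · exact ⟨1, by rw [h1, Nat.cast_one], Or.inl ⟨rfl, e⟩⟩
    · exact ⟨_, h1, Or.inr (Or.inl ⟨rfl, e⟩)⟩
    · exact ⟨Fintype.card F + 1, by rw [h1]; push_cast; ring, Or.inr (Or.inr (Or.inl ⟨rfl, e⟩))⟩
    · exact ⟨Fintype.card F - 1, by rw [h1, cardF_sub_one hpos],
        Or.inr (Or.inr (Or.inr (Or.inl ⟨by omega, e⟩)))⟩

theorem famC_one {f : SS → ℂ} (h : f ∈ famC (F := F)) :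
    f 1 = ((Fintype.card F + 1 : ℕ) : ℂ) := by
  obtain ⟨α, -, rfl⟩ := mem_famC.1 h
  rw [vIS_one]; push_cast; ring

theorem famD_one {f : SS → ℂ} (h : f ∈ famD K hK) :
    f 1 = ((Fintype.card F - 1 : ℕ) : ℂ) := by
  obtain ⟨φ, -, rfl⟩ := (mem_famD K hK).1 h
  rw [vDS_one, cardF_sub_one Fintype.card_pos]

theorem half_plus (hodd : Odd (Fintype.card F)) :
    (((Fintype.card F + 1) / 2 : ℕ) : ℂ) = ((Fintype.card F : ℂ) + 1) / 2 := by
  obtain ⟨k, hk⟩ := hodd
  rw [hk, show (2 * k + 1 + 1) / 2 = k + 1 by omega]; push_cast; ring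

theorem half_minus (hodd : Odd (Fintype.card F)) :
    (((Fintype.card F - 1) / 2 : ℕ) : ℂ) = ((Fintype.card F : ℂ) - 1) / 2 := by
  obtain ⟨k, hk⟩ := hodd
  rw [hk, show (2 * k + 1 - 1) / 2 = k by omega]; push_cast; ring

/-- In `SL(2, 3)` the discrete series vanishes on the elements of order four. -/
theorem vDS_ell_three (h3 : Fintype.card F = 3) {φ : U1 F K →* ℂˣ} (hφ : φ * φ ≠ 1) (l : U1 F K)
    (hl : (l : Kˣ) ∉ (emb (F := F) K).range) (hK : Module.finrank F K = 2) :
    cv φ l + cv φ l⁻¹ = 0 := by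
  have h4 : Fintype.card (U1 F K) = 2 * 2 := by rw [card_U1 K hK, h3]
  have hψ : (φ * φ) * (φ * φ) = 1 := MonoidHom.ext fun x => by
    simp only [MonoidHom.mul_apply, MonoidHom.one_apply, ← map_mul]
    rw [show x * x * (x * x) = x ^ 4 by simp [pow_succ, mul_assoc],
      show (4 : ℕ) = Fintype.card (U1 F K) by rw [h4], pow_card_eq_one, map_one]
  rcases quad_iff h4 hψ hφ l with ⟨-, e⟩ | ⟨e, -⟩
  · exact absurd ((sq_eq_one_iff_mem_range K l).1 (by rw [← sq]; exact e)) hl
  · rw [cv_mul_hom] at e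
    rw [cv_inv]
    field_simp
    linear_combination e

/-! ### the unipotent subgroup -/

/-- The upper unitriangular elements. -/
noncomputable def uT : Multiplicative F →* SS where
  toFun t := ⟨!![1, t.toAdd; 0, 1], by simp [det_fin_two]⟩
  map_one' := Subtype.ext (by
    show !![1, (0 : F); 0, 1] = 1
    exact Matrix.one_fin_two.symm)
  map_mul' a b := Subtype.ext (by
    show !![1, a.toAdd + b.toAdd; 0, 1] = !![1, a.toAdd; 0, 1] * !![1, b.toAdd; 0, 1]
    simp [Matrix.mul_fin_two, add_comm])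

theorem uT_val (t : F) :
    ((uT (Multiplicative.ofAdd t) : SS) : Matrix (Fin 2) (Fin 2) F) = !![1, t; 0, 1] := rfl

/-- The sum of a function over the unipotent subgroup. -/
noncomputable def sumU (f : SS → ℂ) : ℂ := ∑ t : F, f (uT (Multiplicative.ofAdd t))

theorem sum_ite_eq_sumU (f : SS → ℂ) :
    (∑ g : SS, if (g : Matrix (Fin 2) (Fin 2) F) 1 0 = 0 ∧ (g : Matrix (Fin 2) (Fin 2) F) 0 0 = 1 ∧
      (g : Matrix (Fin 2) (Fin 2) F) 1 1 = 1 then f g else 0) = sumU f := by
  rw [← sum_filter, sumU]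
  refine sum_bij (fun g _ => (g : Matrix (Fin 2) (Fin 2) F) 0 1) (fun _ _ => mem_univ _)
    (fun a ha b hb e => ?_) (fun t _ => ⟨uT (Multiplicative.ofAdd t), by simp [uT_val], by
      simp [uT_val]⟩) fun g hg => ?_
  · simp only [mem_filter, mem_univ, true_and] at ha hb
    exact Subtype.ext (Matrix.ext fun i j => by
      fin_cases i <;> fin_cases j <;> simp [ha, hb, e])
  · simp only [mem_filter, mem_univ, true_and] at hg
    congr 1
    exact Subtype.ext (Matrix.ext fun i j => by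
      fin_cases i <;> fin_cases j <;> simp [uT_val, hg])

theorem sumU_add (f g : SS → ℂ) : sumU (f + g) = sumU f + sumU g := by
  simp [sumU, sum_add_distrib]

theorem cjS_di_uT (d : Fˣ) (t : F) :
    cjS (di d 1) (uT (Multiplicative.ofAdd t)) = uT (Multiplicative.ofAdd ((d : F) * t)) :=
  SpecialLinearGroup.toGL_injective (by
    show tg _ = tg _
    rw [toGL_cjS, mul_inv_eq_iff_eq_mul]
    refine Units.ext ?_
    show !![(d : F), 0; 0, ((1 : Fˣ) : F)] * !![1, t; 0, 1] =
      !![1, (d : F) * t; 0, 1] * !![(d : F), 0; 0, ((1 : Fˣ) : F)]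
    simp [Matrix.mul_fin_two])

theorem sumU_resS {h : GG → ℂ} (hh : IsClassFunction GG h) :
    sumU (resS h) = resS h 1 + ((Fintype.card F : ℂ) - 1) * resS h uS := by
  classical
  rw [sumU, ← add_sum_erase univ _ (mem_univ (0 : F)),
    show uT (Multiplicative.ofAdd (0 : F)) = (1 : SS) from map_one uT,
    sum_congr rfl (fun t ht => show resS h (uT (Multiplicative.ofAdd t)) = resS h uS by
      rw [resS_of_conj hh (r := un 1) (s := uT (Multiplicative.ofAdd t)) (isConj_iff.2
          ⟨di (Units.mk0 t (mem_erase.1 ht).1) 1, ?_⟩), resS_apply, toGL_uS]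
      rw [mul_inv_eq_iff_eq_mul]
      refine Units.ext ?_
      show !![t, 0; 0, ((1 : Fˣ) : F)] * !![((1 : Fˣ) : F), 1; 0, ((1 : Fˣ) : F)] =
        !![1, t; 0, 1] * !![t, 0; 0, ((1 : Fˣ) : F)]
      simp [Matrix.mul_fin_two]),
    sum_const, card_erase_of_mem (mem_univ _), card_univ, nsmul_eq_mul,
    Nat.cast_sub Fintype.card_pos, Nat.cast_one]

theorem sumU_half {a b f : SS → ℂ} {x : GG} (hb : IsClassFunction SS b) (he : f = a + b)
    (hc : ∀ s, b (cjS x s) = a s) : sumU a = sumU f / 2 := by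
  have h : sumU a = sumU b := by
    rw [sumU, sumU]
    refine Fintype.sum_equiv (Equiv.mulLeft₀ ((detu x : Fˣ) : F) (Units.ne_zero _)) _ _ fun t => ?_
    show a (uT (Multiplicative.ofAdd t)) = b (uT (Multiplicative.ofAdd (((detu x : Fˣ) : F) * t)))
    rw [← cjS_di_uT, ← hc,
      eq_of_square_det hb (y := x) (c := di (detu x) 1) (detu_eq (by simp [dt_di])).symm]
  rw [he, sumU_add, ← h]; ring

theorem sumU_values {χ : SS → ℂ} :
    (χ = vSS → sumU χ = (Fintype.card F : ℂ)) ∧
    (χ ∈ famC (F := F) → sumU χ = 2 * (Fintype.card F : ℂ)) ∧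
    (χ ∈ famD K hK → sumU χ = 0) ∧ (HalfI χ → sumU χ = (Fintype.card F : ℂ)) ∧
    (HalfD K hK χ → sumU χ = 0) := by
  have hI : ∀ α : Fˣ →* ℂˣ, sumU (vIS α) = 2 * (Fintype.card F : ℂ) := fun α => by
    rw [vIS, sumU_resS (classFun_vI _ _), ← vIS, vIS_one, vIS_uS]; ring
  have hD : ∀ φ, sumU (vDS K hK φ) = 0 := fun φ => by
    rw [vDS, sumU_resS (classFun_vD K hK _), ← vDS, vDS_one, vDS_uS]; ring
  refine ⟨?_, ?_, ?_, ?_, ?_⟩
  · rintro rfl
    rw [vSS, sumU_resS classFun_vS, ← vSS, vSS_one, vSS_uS]; ring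
  · intro h
    obtain ⟨α, -, rfl⟩ := mem_famC.1 h
    exact hI α
  · intro h
    obtain ⟨φ, -, rfl⟩ := (mem_famD K hK).1 h
    exact hD φ
  · rintro ⟨α, b, x, -, -, -, hb, -, he, hc⟩
    rw [sumU_half (Cfsg.Agent.Char.IsIrr.classFun hb) he hc, hI]; ring
  · rintro ⟨φ, b, x, -, -, -, hb, -, he, hc⟩
    rw [sumU_half (Cfsg.Agent.Char.IsIrr.classFun hb) he hc, hD]; ring

/-! ### induction from the Borel subgroup of `SL(2, F)` -/

theorem indFun_S (α : MulChar F ℂ) :
    Cfsg.indFun ((BB).comap Matrix.SpecialLinearGroup.toGL)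
      (fun b => α (((b : SS) : Matrix (Fin 2) (Fin 2) F) 0 0)) = vIS α.toUnitHom := by
  classical
  have hdi : ∀ d : Fˣ, di d 1 ∈ BB := fun d => mem_BB.2 (by simp)
  let e : SS × Fˣ ≃ GG :=
    { toFun := fun p => tg p.1 * di p.2 1
      invFun := fun x => (mkS (x * (di (detu x) 1)⁻¹) (by
        rw [← detu_val, map_mul, map_inv, detu_eq (g := di (detu x) 1) (w := detu x) (by simp [dt_di]),
          mul_inv_cancel, Units.val_one]), detu x)
      left_inv := fun p => by
        have hd : detu (tg p.1 * di p.2 1) = p.2 :=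
          detu_eq (by rw [dt_mul, dt_toGL, one_mul, dt_di, Units.val_one, mul_one])
        refine Prod.ext (SpecialLinearGroup.toGL_injective ?_) hd
        show tg _ = tg p.1
        rw [toGL_mkS, hd, mul_inv_cancel_right]
      right_inv := fun x => by
        dsimp only
        rw [toGL_mkS, inv_mul_cancel_right] }
  have hterm : ∀ (s y : SS) (d : Fˣ),
      Cfsg.extendByZero BB (fun b => (bHom α.toUnitHom 1 b : ℂ))
        ((tg y * di d 1)⁻¹ * tg s * (tg y * di d 1)) =
      Cfsg.extendByZero ((BB).comap Matrix.SpecialLinearGroup.toGL)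
        (fun b => α (((b : SS) : Matrix (Fin 2) (Fin 2) F) 0 0)) (y⁻¹ * s * y) := by
    intro s y d
    rw [show (tg y * di d 1)⁻¹ * tg s * (tg y * di d 1) =
      (di d 1)⁻¹ * tg (y⁻¹ * s * y) * di d 1 by rw [map_mul, map_mul, map_inv]; group]
    by_cases h : tg (y⁻¹ * s * y) ∈ BB
    · rw [Cfsg.Agent.Char.extendByZero_of_mem _ (mul_mem (mul_mem (inv_mem (hdi d)) h) (hdi d)),
        Cfsg.Agent.Char.extendByZero_of_mem _ (show y⁻¹ * s * y ∈
          (BB).comap Matrix.SpecialLinearGroup.toGL from h)]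
      have hc : bHom α.toUnitHom 1 (⟨_, mul_mem (mul_mem (inv_mem (hdi d)) h) (hdi d)⟩ : BB) =
          bHom α.toUnitHom 1 (⟨_, h⟩ : BB) := by
        have he : (⟨_, mul_mem (mul_mem (inv_mem (hdi d)) h) (hdi d)⟩ : BB) =
            (⟨_, hdi d⟩ : BB)⁻¹ * ⟨_, h⟩ * ⟨_, hdi d⟩ := Subtype.ext rfl
        rw [he, map_mul, map_mul, map_inv, mul_comm _ (bHom α.toUnitHom 1 (⟨_, h⟩ : BB)),
          inv_mul_cancel_right]
      obtain ⟨h0, h1⟩ := diag_ne_zero h
      rw [hc, bHom_apply α.toUnitHom 1 ⟨_, h⟩ (Units.mk0 _ h0) (Units.mk0 _ h1) rfl rfl,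
        cv_one_hom, mul_one]
      exact MulChar.coe_toUnitHom α _
    · rw [Cfsg.Agent.Char.extendByZero_not_mem _ fun h' => h ?_,
        Cfsg.Agent.Char.extendByZero_not_mem _
          (show y⁻¹ * s * y ∉ (BB).comap Matrix.SpecialLinearGroup.toGL from h)]
      exact (Subgroup.mul_mem_cancel_left _ (inv_mem (hdi d))).1
        ((Subgroup.mul_mem_cancel_right _ (hdi d)).1 h')
  have hcard : Nat.card BB =
      Nat.card ((BB).comap (Matrix.SpecialLinearGroup.toGL : SS →* GG)) * Nat.card Fˣ := by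
    rw [← Nat.card_prod]
    refine Nat.card_congr
      { toFun := fun b => (⟨(e.symm (b : GG)).1, ?_⟩, (e.symm (b : GG)).2)
        invFun := fun p => ⟨e ((p.1 : SS), p.2), mul_mem (Subgroup.mem_comap.1 p.1.2) (hdi p.2)⟩
        left_inv := fun b => Subtype.ext (e.apply_symm_apply _)
        right_inv := fun p => by
          have := e.symm_apply_apply ((p.1 : SS), p.2)
          exact Prod.ext (Subtype.ext (congrArg Prod.fst this)) (congrArg Prod.snd this :) }
    show tg (e.symm (b : GG)).1 ∈ BB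
    rw [eq_mul_inv_of_mul_eq (show tg (e.symm (b : GG)).1 * di (e.symm (b : GG)).2 1 = (b : GG)
      from e.apply_symm_apply _)]
    exact mul_mem b.2 (inv_mem (hdi _))
  funext s
  show _ = vI α.toUnitHom 1 (tg s)
  simp only [vI, Cfsg.indFun]
  rw [← Equiv.sum_comp e, Fintype.sum_prod_type]
  have hu : (Nat.card Fˣ : ℂ) ≠ 0 := Nat.cast_ne_zero.2 Nat.card_pos.ne'
  simp only [e, Equiv.coe_fn_mk, hterm, sum_const, card_univ, nsmul_eq_mul, ← Finset.mul_sum,
    hcard, Nat.cast_mul, Nat.card_eq_fintype_card (α := Fˣ)]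
  rw [Nat.card_eq_fintype_card (α := Fˣ)] at hu
  field_simp

/-! ### cyclic subgroups of order `q + 1` -/

/-- The elements of norm one, in `SL(2, F)`. -/
noncomputable def ellS : U1 F K →* SS where
  toFun l := mkS (ell (F := F) K hK (l : Kˣ)) (dt_ell_U1 K hK l)
  map_one' := SpecialLinearGroup.toGL_injective (by
    show tg _ = tg 1
    rw [toGL_mkS, map_one, Subgroup.coe_one, map_one])
  map_mul' a b := SpecialLinearGroup.toGL_injective (by
    show tg _ = tg (_ * _)
    rw [map_mul, toGL_mkS, toGL_mkS, toGL_mkS, Subgroup.coe_mul, map_mul])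

theorem toGL_ellS (l : U1 F K) : tg (ellS K hK l) = ell (F := F) K hK (l : Kˣ) :=
  toGL_mkS _ (dt_ell_U1 K hK l)

theorem ellS_injective : Function.Injective (ellS K hK) := fun a b h => by
  have := congrArg tg h
  rw [toGL_ellS, toGL_ellS] at this
  exact Subtype.ext (ell_injective K hK this)

theorem mem_center_ellS {l : U1 F K} :
    ellS K hK l ∈ Subgroup.center SS ↔ (l : Kˣ) ∈ (emb (F := F) K).range := by
  refine ⟨fun h => ?_, fun ⟨z, hz⟩ => Subgroup.mem_center_iff.2 fun t =>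
    SpecialLinearGroup.toGL_injective (by
      show tg _ = tg _
      rw [map_mul, map_mul, toGL_ellS, ← hz, ell_emb, sc_central])⟩
  by_contra hl
  have hle : Nat.card SS ≤
      Nat.card (Subgroup.centralizer ({ell (F := F) K hK (l : Kˣ)} : Set GG)) :=
    Nat.card_le_card_of_injective (fun t => ⟨tg t, Subgroup.mem_centralizer_singleton_iff.2 (by
      rw [← toGL_ellS, ← map_mul, ← map_mul, Subgroup.mem_center_iff.1 h t])⟩)
      fun a b e => SpecialLinearGroup.toGL_injective (congrArg Subtype.val e)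
  rw [card_centralizer_ell K hK hl] at hle
  have h2 : Nat.card SS = Fintype.card F * (Fintype.card F ^ 2 - 1) :=
    Nat.cast_injective (R := ℂ) (by
      rw [card_SS, Nat.cast_mul, Nat.cast_sub (Nat.one_le_pow 2 _ Fintype.card_pos)]
      push_cast; ring)
  have h3 : 4 ≤ Fintype.card F ^ 2 := by nlinarith [Fintype.one_lt_card (α := F)]
  have h4 := Nat.mul_le_mul_right (Fintype.card F ^ 2 - 1) (Fintype.one_lt_card (α := F))
  omega

theorem di_mul (x y a b : Fˣ) : (di x y : GG) * di a b = di (x * a) (y * b) :=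
  Units.ext (by simp [Matrix.mul_fin_two])

theorem di_pow (x y : Fˣ) (n : ℕ) : (di x y : GG) ^ n = di (x ^ n) (y ^ n) := by
  induction n with
  | zero => exact Units.ext (by simp [Matrix.one_fin_two])
  | succ n ih => rw [pow_succ, ih, di_mul, ← pow_succ, ← pow_succ]

theorem un_pow_eq_one {z : Fˣ} (hz : z * z = 1) : (un z : GG) ^ (2 * Fintype.card F) = 1 := by
  have hz' : (z : F) * z = 1 := congrArg Units.val hz
  have h : (un z : GG) ^ 2 = tg (uT (Multiplicative.ofAdd ((z : F) + z))) := by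
    rw [sq]
    refine Units.ext ?_
    show !![(z : F), 1; 0, (z : F)] * !![(z : F), 1; 0, (z : F)] = !![1, (z : F) + z; 0, 1]
    simp [Matrix.mul_fin_two, hz']
  rw [pow_mul, h, ← map_pow, ← map_pow]
  have hc : (Multiplicative.ofAdd ((z : F) + z)) ^ Fintype.card F = 1 := by
    rw [← Fintype.card_multiplicative, pow_card_eq_one]
  rw [hc, map_one, map_one]

/-- A cyclic subgroup of order `q + 1` of `SL(2, F)` is conjugate to the nonsplit torus. -/
theorem exists_torus (hodd : Odd (Fintype.card F)) (C : Subgroup SS) [IsCyclic C]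
    (hC : Nat.card C = Fintype.card F + 1) :
    ∃ (γ : GG) (E : U1 F K ≃* C), ∀ l, (E l : SS) = cjS γ (ellS K hK l) := by
  classical
  obtain ⟨c, hc⟩ := IsCyclic.exists_ofOrder_eq_natCard (α := C)
  rw [hC] at hc
  have hq := three_le_card hodd
  have hord : orderOf (tg (c : SS)) = Fintype.card F + 1 := by
    rw [orderOf_injective _ SpecialLinearGroup.toGL_injective, Subgroup.orderOf_coe, hc]
  have hne : ∀ n, 0 < n → n < Fintype.card F + 1 → tg (c : SS) ^ n ≠ 1 := fun n h1 h2 e => by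
    have := Nat.le_of_dvd h1 (orderOf_dvd_iff_pow_eq_one.2 e)
    omega
  have hconj : ∀ r, IsConj r (tg (c : SS)) → dt r = 1 ∧ ∀ n, r ^ n = 1 → tg (c : SS) ^ n = 1 := by
    intro r hr
    obtain ⟨w, hw⟩ := isConj_iff.1 hr
    refine ⟨by rw [← dt_conj r w, hw, dt_toGL], fun n hn => ?_⟩
    rw [← hw, conj_pow, hn, mul_one, mul_inv_cancel]
  rcases cases K hK (tg (c : SS)) with ⟨z, hz⟩ | ⟨z, hz⟩ | ⟨x, y, hxy, hz⟩ | ⟨l, hl, hz⟩
  · exfalso
    refine hne 2 two_pos (by omega) ?_
    have hd : dt (sc z : GG) = 1 := hz ▸ dt_toGL _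
    rw [dt_sc] at hd
    rw [hz, sq]
    exact Units.ext (by simp [Matrix.mul_fin_two, Matrix.one_fin_two, hd])
  · exfalso
    obtain ⟨hd, hp⟩ := hconj _ hz
    rw [dt_un] at hd
    have := orderOf_dvd_iff_pow_eq_one.2 (hp _ (un_pow_eq_one (Units.ext hd)))
    rw [hord] at this
    have h2 : Fintype.card F + 1 ∣ 2 := by
      have h3 := Nat.dvd_sub (dvd_mul_left (Fintype.card F + 1) 2) this
      rwa [show 2 * (Fintype.card F + 1) - 2 * Fintype.card F = 2 by omega] at h3
    have := Nat.le_of_dvd two_pos h2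
    omega
  · exfalso
    obtain ⟨hd, hp⟩ := hconj _ hz
    rw [dt_di] at hd
    refine hne (Fintype.card F - 1) (by omega) (by omega) (hp _ ?_)
    rw [di_pow, ← Fintype.card_units, pow_card_eq_one, pow_card_eq_one]
    exact Units.ext (by simp [Matrix.one_fin_two])
  · obtain ⟨hd, hp⟩ := hconj _ hz
    have h5 := congrArg (algebraMap F K) hd
    rw [(tr_dt_ell K hK hl).2, map_one] at h5
    let m : U1 F K := ⟨l, (mem_U1 K).2 (Units.ext (by
      rw [Units.val_pow_eq_pow_val, pow_succ', h5, Units.val_one]))⟩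
    obtain ⟨γ, hγ⟩ := isConj_iff.1 hz
    let f : U1 F K →* SS := (cjS γ).toMonoidHom.comp (ellS K hK)
    have hf : Function.Injective f := (cjS γ).injective.comp (ellS_injective K hK)
    have hfm : f m = (c : SS) := SpecialLinearGroup.toGL_injective (by
      show tg (cjS γ (ellS K hK m)) = tg (c : SS)
      rw [toGL_cjS, toGL_ellS]
      exact hγ)
    have hgen : ∀ x, x ∈ Subgroup.zpowers m := by
      have hm : orderOf m = Nat.card (U1 F K) := by
        rw [← orderOf_injective f hf, hfm, Subgroup.orderOf_coe, hc, Nat.card_eq_fintype_card,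
          card_U1 K hK]
      intro x
      have := Subgroup.eq_top_of_card_eq (Subgroup.zpowers m) (by rw [Nat.card_zpowers, hm])
      rw [this]; trivial
    have hrange : ∀ x, f x ∈ C := fun x => by
      obtain ⟨k, rfl⟩ := hgen x
      show f (m ^ k) ∈ C
      rw [map_zpow, hfm]
      exact zpow_mem c.2 k
    let g : U1 F K →* C := f.codRestrict C hrange
    have hbij : Function.Bijective g := by
      rw [Fintype.bijective_iff_injective_and_card]
      refine ⟨fun a b e => hf (congrArg Subtype.val e), ?_⟩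
      rw [card_U1 K hK, ← Nat.card_eq_fintype_card (α := C), hC]
    exact ⟨γ, MulEquiv.ofBijective g hbij, fun x => rfl⟩

end Cfsg.Agent.Block.SL2Char
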