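import Mathlib
import Cfsg.Agent.Lib.Block.SL2Char.SLFacts
import Cfsg.Prelude.Def_DegreeGraph

/-!
The character degrees of `SL(2, q)` and `PSL(2, q)`.
-/

set_option linter.unusedSectionVars false

namespace Cfsg.Agent.Block.SL2Char

open Matrix Finset

universe u w

variable {F : Type u} [Field F] [Fintype F]

local notation "SS" => Matrix.SpecialLinearGroup (Fin 2) F
local notation "PS" => Matrix.ProjectiveSpecialLinearGroup (Fin 2) F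

/-- The degrees allowed for `SL(2, F)`. -/
def OkDeg (q n : ℕ) : Prop :=
  n = 1 ∨ n = q ∨ n = q + 1 ∨ n + 1 = q ∨ (2 * n = q + 1 ∧ Odd q) ∨ (2 * n + 1 = q ∧ Odd q)

theorem charDegree_eq {G : Type*} [Group G] {χ : G → ℂ} {n : ℕ} (h : χ 1 = n) :
    charDegree χ = n := by
  simp [charDegree, h]

theorem okDeg_SS {χ : SS → ℂ} (hχ : IsIrrCharacter SS χ) :
    ∃ n : ℕ, χ 1 = n ∧ OkDeg (Fintype.card F) n := by
  classical
  obtain ⟨K, _, _, _, _, hK⟩ := exists_model F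
  obtain ⟨n, hn, h⟩ := irr_cases_S K hK hχ
  refine ⟨n, hn, ?_⟩
  rcases h with ⟨h, -⟩ | ⟨h, -⟩ | ⟨h, -⟩ | ⟨h, -⟩ | ⟨h, ho, -⟩ | ⟨h, ho, -⟩
  exacts [Or.inl h, Or.inr (Or.inl h), Or.inr (Or.inr (Or.inl h)),
    Or.inr (Or.inr (Or.inr (Or.inl h))), Or.inr (Or.inr (Or.inr (Or.inr (Or.inl ⟨h, ho⟩)))),
    Or.inr (Or.inr (Or.inr (Or.inr (Or.inr ⟨h, ho⟩))))]

theorem okDeg_PS {χ : PS → ℂ} (hχ : IsIrrCharacter PS χ) :
    ∃ n : ℕ, χ 1 = n ∧ OkDeg (Fintype.card F) n := by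
  classical
  obtain ⟨n, hn, h⟩ := okDeg_SS (Cfsg.Agent.Char.IsIrr.comp_surjective
    (QuotientGroup.mk' (Subgroup.center SS)) (QuotientGroup.mk'_surjective _) hχ)
  exact ⟨n, by rw [← hn, map_one], h⟩

theorem exists_par {A : Type*} [CommGroup A] [Fintype A] [IsCyclic A]
    (h : ¬ Fintype.card A ∣ 4) :
    ∃ α : A →* ℂˣ, α * α ≠ 1 ∧ ∀ z : A, z * z = 1 → cv α z = 1 := by
  obtain ⟨g, hg⟩ := IsCyclic.exists_ofOrder_eq_natCard (α := A)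
  have hg4 : g ^ 4 ≠ 1 := fun e => h (by
    rw [← Nat.card_eq_fintype_card, ← hg]; exact orderOf_dvd_of_pow_eq_one e)
  obtain ⟨ν, hν⟩ : ∃ ν : A →* ℂˣ, ν (g ^ 4) ≠ 1 := by
    by_contra hne
    push Not at hne
    exact hg4 (Cfsg.Agent.Char.eq_one_of_forall_linear mul_comm hne)
  refine ⟨ν * ν, fun e => hν ?_, fun z hz => ?_⟩
  · have := DFunLike.congr_fun e g
    simp only [MonoidHom.mul_apply, MonoidHom.one_apply] at this
    rw [map_pow, show (4 : ℕ) = 2 + 2 from rfl, pow_add, sq]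
    exact this
  · rw [cv_mul_hom, ← cv_mul, hz, cv_one]

theorem central_trivial {χ : SS → ℂ} {c : ℂ} (h : ∀ z : Fˣ, z * z = 1 → ∀ s : SS,
      (Matrix.SpecialLinearGroup.toGL s : GL (Fin 2) F) = sc z → χ s = c)
    {s : SS} (hs : s ∈ Subgroup.center SS) : χ s = c := by
  obtain ⟨r, hr, hrs⟩ := Matrix.SpecialLinearGroup.mem_center_iff.1 hs
  rw [Fintype.card_fin] at hr
  have hr0 : r ≠ 0 := fun e => by simp [e] at hr
  refine h (Units.mk0 r hr0) (Units.ext (by simpa [sq] using hr)) s (Units.ext ?_)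
  show (s : Matrix (Fin 2) (Fin 2) F) = !![r, 0; 0, r]
  rw [← hrs]
  ext i j
  fin_cases i <;> fin_cases j <;> simp

/-- The degrees that occur with trivial central character. -/
theorem exists_deg_PS :
    (∃ χ : PS → ℂ, IsIrrCharacter PS χ ∧ χ 1 = ((Fintype.card F : ℕ) : ℂ)) ∧
    (¬ (Fintype.card F - 1) ∣ 4 →
      ∃ χ : PS → ℂ, IsIrrCharacter PS χ ∧ χ 1 = ((Fintype.card F + 1 : ℕ) : ℂ)) ∧
    (¬ (Fintype.card F + 1) ∣ 4 →
      ∃ χ : PS → ℂ, IsIrrCharacter PS χ ∧ χ 1 = ((Fintype.card F - 1 : ℕ) : ℂ)) := by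
  classical
  obtain ⟨K, _, _, _, _, hK⟩ := exists_model F
  have push : ∀ (χ : SS → ℂ) (n : ℕ), IsIrrCharacter SS χ → χ 1 = n →
      (∀ z : Fˣ, z * z = 1 → ∀ s : SS,
        (Matrix.SpecialLinearGroup.toGL s : GL (Fin 2) F) = sc z → χ s = χ 1) →
      ∃ ψ : PS → ℂ, IsIrrCharacter PS ψ ∧ ψ 1 = (n : ℂ) := by
    intro χ n hχ hn hz
    obtain ⟨ψ, hψ, he⟩ := Cfsg.Agent.Char.IsIrr.exists_factor_quotient hχ (Subgroup.center SS)
      fun k hk => central_trivial hz hk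
    exact ⟨ψ, hψ, by rw [← hn, ← he 1]; rfl⟩
  refine ⟨push vSS _ (isIrr_vSS K hK) vSS_one fun z _ s hs => ?_, fun h => ?_, fun h => ?_⟩
  · rw [vSS_one, vSS, resS_apply, hs, vS_sc]
  · obtain ⟨α, h1, h2⟩ := exists_par (A := Fˣ) (by rwa [Fintype.card_units])
    refine push (vIS α) _ (isIrr_vIS K hK h1) (by rw [vIS_one]; push_cast; ring) fun z hz s hs => ?_
    rw [vIS_one, vIS, resS_apply, hs, vI_sc, cv_one_hom, h2 z hz, mul_one, mul_one]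
  · obtain ⟨φ, h1, h2⟩ := exists_par (A := U1 F K) (by rwa [card_U1 K hK])
    refine push (vDS K hK φ) _ (isIrr_vDS K hK h1)
      (by rw [vDS_one, cardF_sub_one Fintype.card_pos]) fun z hz s hs => ?_
    rw [vDS_one, vDS, resS_apply, hs, vD_sc, cv_extU_emb K φ z (mem_Z2.2 hz),
      h2 _ (embU_mul_self K z (mem_Z2.2 hz)), mul_one]

/-- Degrees of a group isomorphic to `PSL(2, F)` or `SL(2, F)`. -/
theorem degrees_S {S : Type w} [Group S] [Finite S]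
    (hS : Nonempty (S ≃* PS) ∨ Nonempty (S ≃* SS)) :
    (∀ d ∈ Cfsg.charDegrees S, OkDeg (Fintype.card F) d) ∧
    (Fintype.card F ∈ Cfsg.charDegrees S) ∧
    (¬ (Fintype.card F - 1) ∣ 4 → Fintype.card F + 1 ∈ Cfsg.charDegrees S) ∧
    (¬ (Fintype.card F + 1) ∣ 4 → Fintype.card F - 1 ∈ Cfsg.charDegrees S) := by
  classical
  obtain ⟨eA, eB, eC⟩ := exists_deg_PS (F := F)
  have hex : ∀ n : ℕ, (∃ χ : PS → ℂ, IsIrrCharacter PS χ ∧ χ 1 = (n : ℂ)) →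
      n ∈ Cfsg.charDegrees S := by
    rintro n ⟨χ, hχ, h1⟩
    rcases hS with ⟨⟨e⟩⟩ | ⟨⟨e⟩⟩
    · exact ⟨⟨_, Cfsg.Agent.Char.IsIrr.comp_mulEquiv e hχ⟩, charDegree_eq (by
        show χ (e 1) = _
        rw [map_one, h1])⟩
    · exact ⟨⟨_, Cfsg.Agent.Char.IsIrr.comp_surjective
        ((QuotientGroup.mk' (Subgroup.center SS)).comp e.toMonoidHom)
        ((QuotientGroup.mk'_surjective _).comp e.surjective) hχ⟩, charDegree_eq (by
        show χ (((QuotientGroup.mk' (Subgroup.center SS)).comp e.toMonoidHom) 1) = _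
        rw [map_one, h1])⟩
  refine ⟨?_, hex _ eA, fun h => hex _ (eB h), fun h => hex _ (eC h)⟩
  rintro d ⟨⟨χ, hχ⟩, rfl⟩
  rcases hS with ⟨⟨e⟩⟩ | ⟨⟨e⟩⟩
  · obtain ⟨n, hn, h⟩ := okDeg_PS (Cfsg.Agent.Char.IsIrr.comp_mulEquiv e.symm hχ)
    rw [show χ (e.symm 1) = χ 1 by rw [map_one]] at hn
    rwa [charDegree_eq (χ := χ) hn]
  · obtain ⟨n, hn, h⟩ := okDeg_SS (Cfsg.Agent.Char.IsIrr.comp_mulEquiv e.symm hχ)
    rw [show χ (e.symm 1) = χ 1 by rw [map_one]] at hn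
    rwa [charDegree_eq (χ := χ) hn]

theorem okDeg_dvd {q n : ℕ} (h : OkDeg q n) :
    n = q ∨ n ∣ q + 1 ∨ n ∣ q - 1 := by
  rcases h with h | h | h | h | ⟨h, -⟩ | ⟨h, -⟩
  · subst h; exact Or.inr (Or.inl (one_dvd _))
  · exact Or.inl h
  · subst h; exact Or.inr (Or.inl dvd_rfl)
  · exact Or.inr (Or.inr ⟨1, by omega⟩)
  · exact Or.inr (Or.inl ⟨2, by omega⟩)
  · exact Or.inr (Or.inr ⟨2, by omega⟩)

theorem sq_sub_one (q : ℕ) : q ^ 2 - 1 = (q + 1) * (q - 1) := by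
  rw [← Nat.sq_sub_sq, one_pow]

theorem degreePrimes_eq {S : Type w} [Group S] [Finite S]
    (hS : Nonempty (S ≃* PS) ∨ Nonempty (S ≃* SS)) (h1 : ¬ (Fintype.card F - 1) ∣ 4)
    (h2 : ¬ (Fintype.card F + 1) ∣ 4) :
    Cfsg.degreePrimes S =
      {r : ℕ | r.Prime ∧ r ∣ Fintype.card F * (Fintype.card F ^ 2 - 1)} := by
  obtain ⟨hok, hq, hp, hm⟩ := degrees_S hS
  ext r
  simp only [Cfsg.degreePrimes, Set.mem_ofPred_eq, sq_sub_one]
  refine ⟨fun ⟨hr, d, hd, hrd⟩ => ⟨hr, ?_⟩, fun ⟨hr, h⟩ => ⟨hr, ?_⟩⟩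
  · rcases okDeg_dvd (hok d hd) with e | e | e
    · exact dvd_mul_of_dvd_left (e ▸ hrd) _
    · exact dvd_mul_of_dvd_right (dvd_mul_of_dvd_left (hrd.trans e) _) _
    · exact dvd_mul_of_dvd_right (dvd_mul_of_dvd_right (hrd.trans e) _) _
  · rcases hr.dvd_mul.1 h with h | h
    · exact ⟨_, hq, h⟩
    · rcases hr.dvd_mul.1 h with h | h
      exacts [⟨_, hp h1, h⟩, ⟨_, hm h2, h⟩]

theorem adj_iff {S : Type w} [Group S] [Finite S] (t : ℕ) [Fact t.Prime] [CharP F t]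
    (hS : Nonempty (S ≃* PS) ∨ Nonempty (S ≃* SS)) (h1 : ¬ (Fintype.card F - 1) ∣ 4)
    (h2 : ¬ (Fintype.card F + 1) ∣ 4) (r s : ℕ) :
    (Cfsg.degreeGraph S).Adj r s ↔ r ≠ s ∧ r.Prime ∧ s.Prime ∧
      ((r ∣ Fintype.card F + 1 ∧ s ∣ Fintype.card F + 1) ∨
        (r ∣ Fintype.card F - 1 ∧ s ∣ Fintype.card F - 1)) := by
  obtain ⟨hok, -, hp, hm⟩ := degrees_S hS
  show (r ≠ s ∧ r.Prime ∧ s.Prime ∧ ∃ d ∈ Cfsg.charDegrees S, r * s ∣ d) ↔ _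
  refine and_congr_right fun hne => and_congr_right fun hr => and_congr_right fun hs => ⟨?_, ?_⟩
  · rintro ⟨d, hd, hrs⟩
    rcases okDeg_dvd (hok d hd) with e | e | e
    · exfalso
      obtain ⟨n, -, hn⟩ := FiniteField.card F t
      have key : ∀ x : ℕ, x.Prime → x ∣ d → x = t := fun x hx h =>
        (Nat.prime_dvd_prime_iff_eq hx Fact.out).1 (hx.dvd_of_dvd_pow (hn ▸ e ▸ h))
      exact hne ((key r hr (dvd_of_mul_right_dvd hrs)).trans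
        (key s hs (dvd_of_mul_left_dvd hrs)).symm)
    · exact Or.inl ⟨(dvd_of_mul_right_dvd hrs).trans e, (dvd_of_mul_left_dvd hrs).trans e⟩
    · exact Or.inr ⟨(dvd_of_mul_right_dvd hrs).trans e, (dvd_of_mul_left_dvd hrs).trans e⟩
  · have hcop := (Nat.coprime_primes hr hs).2 hne
    rintro (⟨e1, e2⟩ | ⟨e1, e2⟩)
    exacts [⟨_, hp h1, hcop.mul_dvd_of_dvd_of_dvd e1 e2⟩, ⟨_, hm h2, hcop.mul_dvd_of_dvd_of_dvd e1 e2⟩]

theorem not_dvd_four {n : ℕ} (h : 5 ≤ n ∨ n = 3) : ¬ n ∣ 4 := fun e => by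
  have := Nat.le_of_dvd (by norm_num) e
  have : n = 3 := by omega
  subst this
  norm_num at e

end Cfsg.Agent.Block.SL2Char
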