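import Mathlib
import Cfsg.Agent.Lib.Block.SL2Char.PSLDegrees
import Cfsg.Agent.Lib.Block.FirstMain
import Cfsg.Agent.Lib.Block.ClassDefect

/-!
The `p`-blocks of `SL(2, q)` in the defining characteristic.
-/

set_option linter.unusedSectionVars false

namespace Cfsg.Agent.Block.SL2Char

open Matrix Finset
open scoped ComplexConjugate

universe u

variable {F : Type u} [Field F] [Fintype F] [DecidableEq F]

local notation "GG" => GL (Fin 2) F
local notation "SS" => Matrix.SpecialLinearGroup (Fin 2) F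
local notation "tg" => (Matrix.SpecialLinearGroup.toGL : SS →* GG)

variable {p : ℕ} [Fact p.Prime] [CharP F p] {M : Ideal AlgInt}

theorem eq_zero_of_eq_neg {x : ℂ} (h : x = -x) : x = 0 := by linear_combination h / 2

theorem dvd_card : p ∣ Fintype.card F := by
  obtain ⟨n, -, hn⟩ := FiniteField.card F p
  exact hn ▸ dvd_pow_self p n.ne_zero

theorem odd_of_char (hp : p ≠ 2) : Odd (Fintype.card F) := by
  obtain ⟨n, -, hn⟩ := FiniteField.card F p
  rw [hn]
  exact ((Fact.out : p.Prime).odd_of_ne_two hp).pow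

theorem p_not_dvd_sq_sub : ¬ p ∣ Fintype.card F ^ 2 - 1 := fun h => by
  have h1 : p ∣ Fintype.card F ^ 2 := dvd_pow dvd_card two_ne_zero
  have h2 := Nat.dvd_sub h1 h
  rw [Nat.sub_sub_self (Nat.one_le_pow 2 _ Fintype.card_pos)] at h2
  exact (Fact.out : p.Prime).one_lt.ne' (Nat.dvd_one.1 h2)

theorem toGL_neg_one : tg (-1) = sc (-1) := by
  refine Units.ext ?_
  show ((-1 : SS) : Matrix (Fin 2) (Fin 2) F) = _
  rw [Matrix.SpecialLinearGroup.coe_neg, Matrix.SpecialLinearGroup.coe_one]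
  ext i j
  fin_cases i <;> fin_cases j <;> simp

theorem neg_one_ne (hodd : Odd (Fintype.card F)) : (-1 : SS) ≠ 1 := fun h => by
  have h1 := congrArg tg h
  rw [toGL_neg_one, map_one, ← sc_one] at h1
  have h2 := congrArg (fun g : GG => (g : Matrix (Fin 2) (Fin 2) F) 0 0) h1
  have h3 := card_Z2_odd hodd
  rw [show Z2 F = {1} by
    ext z
    simp only [mem_singleton]
    refine ⟨fun hz => ?_, fun hz => hz ▸ one_mem_Z2⟩
    rcases eq_one_or_neg hz with rfl | rfl
    · rfl
    · exact Units.ext (by simpa using h2)] at h3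
  simp at h3

theorem toGL_eq_one_or (z : Fˣ) (hz : z ∈ Z2 F) {s : SS} (hs : tg s = sc z) : s = 1 ∨ s = -1 := by
  rcases eq_one_or_neg hz with rfl | rfl
  · exact Or.inl (SpecialLinearGroup.toGL_injective (by
      show tg s = tg 1
      rw [map_one, hs, sc_one]))
  · exact Or.inr (SpecialLinearGroup.toGL_injective (by
      show tg s = tg (-1)
      rw [hs, toGL_neg_one]))

theorem neg_one_central : (-1 : SS) ∈ Subgroup.center SS :=
  Subgroup.mem_center_iff.2 fun t => SpecialLinearGroup.toGL_injective (by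
    show tg _ = tg _
    rw [map_mul, map_mul, toGL_neg_one, sc_central])

theorem sign_cases (χ : IrrCharacter SS) :
    (χ : SS → ℂ) (-1) = (χ : SS → ℂ) 1 ∨ (χ : SS → ℂ) (-1) = -(χ : SS → ℂ) 1 := by
  obtain ⟨c, -, hc⟩ := Cfsg.Agent.Char.IsIrr.scalar_of_center χ.2 neg_one_central
  have h1 := hc 1
  have h2 := hc (-1)
  rw [mul_one] at h1
  rw [neg_mul_neg, one_mul, h1, ← mul_assoc] at h2
  have : c * c = 1 := by
    refine mul_right_cancel₀ (irr_one_ne_zero χ) ?_
    rw [one_mul]; exact h2.symm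
  rcases mul_self_eq_one_iff.1 this with rfl | rfl
  · exact Or.inl (by rw [h1, one_mul])
  · exact Or.inr (by rw [h1, neg_one_mul])

theorem deg_unit (hM : IsPModular p M) (χ : IrrCharacter SS)
    (h : (χ : SS → ℂ) 1 ≠ (Fintype.card F : ℂ)) :
    MemLocalRing M ((χ : SS → ℂ) 1)⁻¹ := by
  obtain ⟨n, hn, hok⟩ := okDeg_SS χ.2
  rw [hn] at h ⊢
  refine ring_inv_natCast hM fun hd => ?_
  have h2 : p ∣ 1 := by
    rcases okDeg_dvd hok with e | e | e
    · exact absurd (congrArg (Nat.cast (R := ℂ)) e) h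
    · exact (Nat.dvd_add_right dvd_card).1 (hd.trans e)
    · have := Nat.dvd_sub (dvd_card (F := F) (p := p)) (hd.trans e)
      rwa [Nat.sub_sub_self Fintype.card_pos] at this
  exact (Fact.out : p.Prime).one_lt.ne' (Nat.dvd_one.1 h2)

theorem card_SS_nat : Nat.card SS = Fintype.card F * (Fintype.card F ^ 2 - 1) :=
  Nat.cast_injective (R := ℂ) (by
    rw [card_SS, Nat.cast_mul, Nat.cast_sub (Nat.one_le_pow 2 _ Fintype.card_pos)]
    push_cast; ring)

theorem p_dvd_index {s : SS} {N : ℕ}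
    (hN : Nat.card (Subgroup.centralizer ({tg s} : Set GG)) = N) (hcop : ¬ p ∣ N) :
    p ∣ (Subgroup.centralizer ({s} : Set SS)).index := by
  have hd : Nat.card (Subgroup.centralizer ({s} : Set SS)) ∣ N := by
    rw [← hN, ← Subgroup.card_map_of_injective (f := tg) SpecialLinearGroup.toGL_injective]
    refine Subgroup.card_dvd_of_le ?_
    rintro _ ⟨t, ht, rfl⟩
    rw [Subgroup.mem_centralizer_singleton_iff, ← map_mul, ← map_mul,
      Subgroup.mem_centralizer_singleton_iff.1 ht]
  have h1 : p ∣ Nat.card (Subgroup.centralizer ({s} : Set SS)) *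
      (Subgroup.centralizer ({s} : Set SS)).index := by
    rw [Subgroup.card_mul_index, card_SS_nat]
    exact dvd_mul_of_dvd_left dvd_card _
  rcases (Fact.out : p.Prime).dvd_mul.1 h1 with h | h
  · exact absurd (h.trans hd) hcop
  · exact h

/-- At an element of type `un`, the values are congruent to those at the central part. -/
theorem value_un (hM : IsPModular p M) (χ : IrrCharacter SS) {z : Fˣ} (hz : z ∈ Z2 F) {g : SS}
    (hg : IsConj (un z) (tg g)) :
    MemLocalIdeal M ((χ : SS → ℂ) g -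
      (χ : SS → ℂ) (mkS (sc z) (by rw [dt_sc, ← Units.val_mul, mem_Z2.1 hz, Units.val_one]))) := by
  set v : SS := mkS (sc z) (by rw [dt_sc, ← Units.val_mul, mem_Z2.1 hz, Units.val_one]) with hv
  have htv : tg v = sc z := toGL_mkS _ _
  have hvc : Commute v g := SpecialLinearGroup.toGL_injective (by
    show tg (v * g) = tg (g * v)
    rw [map_mul, map_mul, htv, sc_central])
  have hvq : v ^ Fintype.card F = v := SpecialLinearGroup.toGL_injective (by
    show tg (v ^ Fintype.card F) = tg v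
    rw [map_pow, htv, show (sc z : GG) = di z z from rfl, di_pow,
      show z ^ Fintype.card F = z from Units.ext (by
        rw [Units.val_pow_eq_pow_val, FiniteField.pow_card])])
  have hu : (v⁻¹ * g) ^ Fintype.card F = 1 := by
    obtain ⟨c, hc⟩ := isConj_iff.1 hg
    have e : tg (v⁻¹ * g) = c * tg (uT (Multiplicative.ofAdd ((z⁻¹ : Fˣ) : F))) * c⁻¹ := by
      rw [map_mul, map_inv, htv, ← hc, inv_mul_eq_iff_eq_mul,
        show sc z * (c * tg (uT (Multiplicative.ofAdd ((z⁻¹ : Fˣ) : F))) * c⁻¹) =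
          c * (sc z * tg (uT (Multiplicative.ofAdd ((z⁻¹ : Fˣ) : F)))) * c⁻¹ by
          rw [← mul_assoc, ← mul_assoc, ← sc_central z c]; group]
      congr 2
      refine Units.ext ?_
      show !![(z : F), 1; 0, (z : F)] =
        !![(z : F), 0; 0, (z : F)] * !![1, ((z⁻¹ : Fˣ) : F); 0, 1]
      simp [Matrix.mul_fin_two]
    refine SpecialLinearGroup.toGL_injective ?_
    show tg _ = tg 1
    rw [map_one, map_pow, e, conj_pow, ← map_pow, ← map_pow,
      show (Multiplicative.ofAdd ((z⁻¹ : Fˣ) : F)) ^ Fintype.card F = 1 by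
        rw [← Fintype.card_multiplicative, pow_card_eq_one], map_one, map_one, mul_one,
      mul_inv_cancel]
  obtain ⟨n, -, hn⟩ := FiniteField.card F p
  refine value_pPart_congr hM (Cfsg.Agent.Char.IsIrr.isCharacter χ.2) (u := v⁻¹ * g) (v := v)
    (k := n) ?_ ?_ (hn ▸ hu) ?_
  · rw [mul_assoc, ← hvc.eq, inv_mul_cancel_left]
  · exact (Commute.refl v).inv_left.mul_left hvc.symm
  · refine ⟨(Fintype.card F : ℤ), ?_⟩
    show g ^ (Fintype.card F : ℤ) = v
    rw [zpow_natCast, show g = v * (v⁻¹ * g) by rw [mul_inv_cancel_left],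
      ((Commute.refl v).inv_right.mul_right hvc).mul_pow, hu, hvq, mul_one]

/-- Two irreducible characters of degree prime to `p` with the same sign are in the same block. -/
theorem sameBlock_of_sign (hM : IsPModular p M) {χ ψ : IrrCharacter SS}
    (hχ : (χ : SS → ℂ) 1 ≠ (Fintype.card F : ℂ)) (hψ : (ψ : SS → ℂ) 1 ≠ (Fintype.card F : ℂ))
    (hs : (χ : SS → ℂ) (-1) / (χ : SS → ℂ) 1 = (ψ : SS → ℂ) (-1) / (ψ : SS → ℂ) 1) :
    SameBlock M (χ : SS → ℂ) (ψ : SS → ℂ) := by
  classical
  intro g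
  obtain ⟨K, _, _, _, _, hK⟩ := exists_model F
  have hsc : ∀ z ∈ Z2 F, ∀ s : SS, tg s = sc z →
      (χ : SS → ℂ) s / (χ : SS → ℂ) 1 = (ψ : SS → ℂ) s / (ψ : SS → ℂ) 1 := by
    intro z hz s h
    rcases toGL_eq_one_or z hz h with rfl | rfl
    · rw [div_self (irr_one_ne_zero χ), div_self (irr_one_ne_zero ψ)]
    · exact hs
  have big : p ∣ (Subgroup.centralizer ({g} : Set SS)).index →
      MemLocalIdeal M (centralChar (χ : SS → ℂ) g - centralChar (ψ : SS → ℂ) g) := fun hd => by
    refine ideal_sub hM ?_ ?_ <;>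
    · simp only [centralChar, div_eq_mul_inv]
      exact ideal_mul_right hM (ideal_mul_right hM ((ideal_natCast_iff hM _).2 hd) (irr_ring hM _ g))
        (deg_unit hM _ (by assumption))
  rcases cases K hK (tg g) with ⟨z, hz⟩ | ⟨z, hz⟩ | ⟨x, y, hxy, hz⟩ | ⟨l, hl, hz⟩
  · have hzz : z ∈ Z2 F := mem_Z2.2 (Units.ext (by
      have := dt_toGL g
      rwa [hz, dt_sc] at this))
    simp only [centralChar, mul_div_assoc, hsc z hzz g hz, sub_self]
    exact ideal_zero hM
  · have hzz : z ∈ Z2 F := mem_Z2.2 (Units.ext (by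
      obtain ⟨c, hc⟩ := isConj_iff.1 hz
      have := dt_toGL g
      rwa [← hc, dt_conj, dt_un] at this))
    have hd : dt (sc z : GG) = 1 := by rw [dt_sc, ← Units.val_mul, mem_Z2.1 hzz, Units.val_one]
    have e := hsc z hzz (mkS (sc z) hd) (toGL_mkS _ _)
    have h1 := ideal_mul_right hM (value_un hM χ hzz hz) (deg_unit hM χ hχ)
    have h2 := ideal_mul_right hM (value_un hM ψ hzz hz) (deg_unit hM ψ hψ)
    have h3 := ideal_mul_left hM (ring_natCast hM (Subgroup.centralizer ({g} : Set SS)).index)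
      (ideal_sub hM h1 h2)
    convert h3 using 1
    simp only [centralChar, div_eq_mul_inv] at e ⊢
    linear_combination ((Subgroup.centralizer ({g} : Set SS)).index : ℂ) * e
  · refine big (p_dvd_index (N := (Fintype.card F - 1) ^ 2) ?_ ?_)
    · obtain ⟨c, hc⟩ := isConj_iff.1 hz
      refine Eq.trans ?_ (card_centralizer_di hxy)
      have h1 := card_conj (di x y)
      have h2 := card_conj (tg g)
      have he : Nat.card {h : GG // IsConj (di x y) h} = Nat.card {h : GG // IsConj (tg g) h} :=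
        Nat.card_congr (Equiv.subtypeEquivRight fun h => ⟨hz.symm.trans, hz.trans⟩)
      rw [he] at h1
      refine Nat.eq_of_mul_eq_mul_left ?_ (h2.trans h1.symm)
      exact Nat.pos_of_ne_zero fun e => (Nat.card_pos (α := GG)).ne' (by rw [← h2, e, zero_mul])
    · intro h
      have h1 := (Fact.out : p.Prime).dvd_of_dvd_pow h
      have h2 := Nat.dvd_sub (dvd_card (F := F) (p := p)) h1
      rw [Nat.sub_sub_self Fintype.card_pos] at h2
      exact (Fact.out : p.Prime).one_lt.ne' (Nat.dvd_one.1 h2)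
  · refine big (p_dvd_index (N := Fintype.card F ^ 2 - 1) ?_ p_not_dvd_sq_sub)
    refine Eq.trans ?_ (card_centralizer_ell K hK hl)
    have h1 := card_conj (ell (F := F) K hK l)
    have h2 := card_conj (tg g)
    have he : Nat.card {h : GG // IsConj (ell (F := F) K hK l) h} =
        Nat.card {h : GG // IsConj (tg g) h} :=
      Nat.card_congr (Equiv.subtypeEquivRight fun h => ⟨hz.symm.trans, hz.trans⟩)
    rw [he] at h1
    refine Nat.eq_of_mul_eq_mul_left ?_ (h2.trans h1.symm)
    exact Nat.pos_of_ne_zero fun e => (Nat.card_pos (α := GG)).ne' (by rw [← h2, e, zero_mul])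

theorem unique_deg_q {χ : SS → ℂ} (hχ : IsIrrCharacter SS χ)
    (h : χ 1 = (Fintype.card F : ℂ)) : χ = vSS := by
  classical
  obtain ⟨K, _, _, _, _, hK⟩ := exists_model F
  have := Fintype.one_lt_card (α := F)
  obtain ⟨n, hn, hc⟩ := irr_cases_S K hK hχ
  have hn' : n = Fintype.card F := Nat.cast_injective (hn.symm.trans h)
  rcases hc with ⟨g1, g2⟩ | ⟨g1, g2⟩ | ⟨g1, g2⟩ | ⟨g1, g2⟩ | ⟨g1, -, g2⟩ | ⟨g1, -, g2⟩
  all_goals first | omega | exact g2

theorem vSS_neg_one : vSS (F := F) (-1) = Fintype.card F := by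
  rw [vSS, resS_apply, toGL_neg_one, vS_sc]

/-- The Steinberg character is alone in its block. -/
theorem not_sameBlock_St (hM : IsPModular p M) (hp : p ≠ 2) {χ ψ : IrrCharacter SS}
    (hχ : (χ : SS → ℂ) 1 = (Fintype.card F : ℂ))
    (hψ : (ψ : SS → ℂ) 1 ≠ (Fintype.card F : ℂ)) :
    ¬ SameBlock M (χ : SS → ℂ) (ψ : SS → ℂ) := by
  classical
  have e := unique_deg_q χ.2 hχ
  intro h
  rcases sign_cases ψ with hs | hs
  · -- compare at the transvection
    have h1 := h uS
    simp only [centralChar, e, vSS_uS, mul_zero, zero_div, zero_sub] at h1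
    have h1' := ideal_neg h1
    rw [neg_neg, mul_div_assoc] at h1'
    have hu : MemLocalIdeal M ((ψ : SS → ℂ) uS / (ψ : SS → ℂ) 1 - 1) := by
      have hz : IsConj (un 1 : GG) (tg uS) := by rw [toGL_uS]
      have h2 := ideal_mul_right hM (value_un hM ψ one_mem_Z2 hz) (deg_unit hM ψ hψ)
      rwa [show mkS (sc (1 : Fˣ)) (by rw [dt_sc, Units.val_one, one_mul]) = (1 : SS) from
        SpecialLinearGroup.toGL_injective (by
          show tg _ = tg 1
          rw [toGL_mkS, map_one, sc_one]),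
        sub_mul, mul_inv_cancel₀ (irr_one_ne_zero ψ), ← div_eq_mul_inv] at h2
    have h3 := ideal_mul_left hM
      (ring_natCast hM (Subgroup.centralizer ({(uS : SS)} : Set SS)).index) hu
    have h4 : MemLocalIdeal M ((Subgroup.centralizer ({(uS : SS)} : Set SS)).index : ℂ) := by
      convert ideal_sub hM h1' h3 using 1
      ring
    rw [ideal_natCast_iff hM] at h4
    have hq : Fintype.card F ∣ Nat.card (Subgroup.centralizer ({(uS : SS)} : Set SS)) := by
      have hle : (uT (F := F)).range ≤ Subgroup.centralizer ({(uS : SS)} : Set SS) := by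
        rintro _ ⟨t, rfl⟩
        rw [Subgroup.mem_centralizer_singleton_iff,
          show (uS : SS) = uT (Multiplicative.ofAdd (1 : F)) from SpecialLinearGroup.toGL_injective
            (by
              show tg uS = tg _
              rw [toGL_uS]
              exact Units.ext (by simp [uT]; rfl)),
          ← map_mul, ← map_mul, mul_comm]
      have hc : Nat.card (uT (F := F)).range = Fintype.card F := by
        rw [← Nat.card_congr (MonoidHom.ofInjective (f := uT (F := F)) (fun a b e => by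
          have := congrArg (fun s : SS => (s : Matrix (Fin 2) (Fin 2) F) 0 1) e
          exact Multiplicative.toAdd.injective this)).toEquiv,
          Nat.card_eq_fintype_card, Fintype.card_multiplicative]
      exact hc ▸ Subgroup.card_dvd_of_le hle
    obtain ⟨k, hk⟩ := hq
    have h5 := Subgroup.card_mul_index (Subgroup.centralizer ({(uS : SS)} : Set SS))
    rw [hk, card_SS_nat, mul_assoc] at h5
    have h6 := Nat.eq_of_mul_eq_mul_left Fintype.card_pos h5
    exact p_not_dvd_sq_sub (F := F) (h6 ▸ dvd_mul_of_dvd_right h4 k)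
  · have h1 := h (-1)
    have hidx : (Subgroup.centralizer ({(-1 : SS)} : Set SS)).index = 1 := by
      rw [Subgroup.index_eq_one, Subgroup.centralizer_eq_top_iff_subset, Set.singleton_subset_iff]
      exact neg_one_central
    simp only [centralChar, e, hidx, Nat.cast_one, one_mul, vSS_neg_one, vSS_one, hs] at h1
    rw [div_self (Nat.cast_ne_zero.2 Fintype.card_ne_zero), neg_div,
      div_self (irr_one_ne_zero ψ), sub_neg_eq_add, one_add_one_eq_two] at h1
    exact hp (((Nat.prime_dvd_prime_iff_eq Fact.out Nat.prime_two).1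
      ((ideal_natCast_iff hM 2).1 (by exact_mod_cast h1))))

theorem not_sameBlock_sign (hM : IsPModular p M) (hp : p ≠ 2) {χ ψ : IrrCharacter SS}
    (hχ : (χ : SS → ℂ) (-1) = (χ : SS → ℂ) 1) (hψ : (ψ : SS → ℂ) (-1) = -(ψ : SS → ℂ) 1) :
    ¬ SameBlock M (χ : SS → ℂ) (ψ : SS → ℂ) := by
  intro h
  have h1 := h (-1)
  have hidx : (Subgroup.centralizer ({(-1 : SS)} : Set SS)).index = 1 := by
    rw [Subgroup.index_eq_one, Subgroup.centralizer_eq_top_iff_subset, Set.singleton_subset_iff]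
    exact neg_one_central
  simp only [centralChar, hidx, Nat.cast_one, one_mul, hχ, hψ] at h1
  rw [div_self (irr_one_ne_zero χ), neg_div, div_self (irr_one_ne_zero ψ), sub_neg_eq_add,
    one_add_one_eq_two] at h1
  exact hp (((Nat.prime_dvd_prime_iff_eq Fact.out Nat.prime_two).1
    ((ideal_natCast_iff hM 2).1 (by exact_mod_cast h1))))

/-- The Steinberg block. -/
def stB (F : Type u) [Field F] [Fintype F] : Set (IrrCharacter (Matrix.SpecialLinearGroup (Fin 2) F)) :=
  {χ | (χ : Matrix.SpecialLinearGroup (Fin 2) F → ℂ) 1 = (Fintype.card F : ℂ)}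

/-- The principal block. -/
def evB (F : Type u) [Field F] [Fintype F] [DecidableEq F] :
    Set (IrrCharacter (Matrix.SpecialLinearGroup (Fin 2) F)) :=
  {χ | (χ : Matrix.SpecialLinearGroup (Fin 2) F → ℂ) (-1) =
      (χ : Matrix.SpecialLinearGroup (Fin 2) F → ℂ) 1 ∧
    (χ : Matrix.SpecialLinearGroup (Fin 2) F → ℂ) 1 ≠ (Fintype.card F : ℂ)}

/-- The faithful block. -/
def odB (F : Type u) [Field F] [Fintype F] [DecidableEq F] :
    Set (IrrCharacter (Matrix.SpecialLinearGroup (Fin 2) F)) :=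
  {χ | (χ : Matrix.SpecialLinearGroup (Fin 2) F → ℂ) (-1) =
      -(χ : Matrix.SpecialLinearGroup (Fin 2) F → ℂ) 1}

theorem not_deg_q_of_neg {χ : IrrCharacter SS} (h : χ ∈ odB F) :
    (χ : SS → ℂ) 1 ≠ (Fintype.card F : ℂ) := fun e => by
  have e1 := unique_deg_q χ.2 e
  change (χ : SS → ℂ) (-1) = -(χ : SS → ℂ) 1 at h
  rw [e1, vSS_neg_one, vSS_one] at h
  exact Nat.cast_ne_zero.2 Fintype.card_ne_zero (eq_zero_of_eq_neg h)

theorem blockOf_eq_cases (hM : IsPModular p M) (hp : p ≠ 2) (χ : IrrCharacter SS) :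
    (χ ∈ stB F → blockOf M (χ : SS → ℂ) = stB F) ∧ (χ ∈ evB F → blockOf M (χ : SS → ℂ) = evB F) ∧
      (χ ∈ odB F → blockOf M (χ : SS → ℂ) = odB F) := by
  refine ⟨fun h => ?_, fun h => ?_, fun h => ?_⟩ <;> refine Set.ext fun ψ => ?_
  · refine ⟨fun hb => by_contra fun hne => not_sameBlock_St hM hp h hne hb, fun hψ => ?_⟩
    obtain rfl : χ = ψ := Subtype.ext ((unique_deg_q χ.2 h).trans (unique_deg_q ψ.2 hψ).symm)
    exact mem_blockOf_self hM χ
  · obtain ⟨h1, h2⟩ := h
    refine ⟨fun hb => ⟨?_, fun e => not_sameBlock_St hM hp e h2 (sameBlock_symm hb)⟩,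
      fun ⟨g1, g2⟩ => ?_⟩
    · exact (sign_cases ψ).resolve_right fun e => not_sameBlock_sign hM hp h1 e hb
    · exact sameBlock_of_sign hM h2 g2 (by
        rw [h1, g1, div_self (irr_one_ne_zero χ), div_self (irr_one_ne_zero ψ)])
  · refine ⟨fun hb => ?_, fun hψ => ?_⟩
    · exact (sign_cases ψ).resolve_left fun e => not_sameBlock_sign hM hp e h (sameBlock_symm hb)
    · refine sameBlock_of_sign hM (not_deg_q_of_neg h) (not_deg_q_of_neg hψ) ?_
      rw [h, hψ, neg_div, neg_div, div_self (irr_one_ne_zero χ), div_self (irr_one_ne_zero ψ)]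

theorem exists_members (hodd : Odd (Fintype.card F)) :
    (stB F).Nonempty ∧ (evB F).Nonempty ∧ (odB F).Nonempty := by
  classical
  obtain ⟨K, _, _, _, _, hK⟩ := exists_model F
  refine ⟨⟨⟨vSS, isIrr_vSS K hK⟩, vSS_one⟩,
    ⟨⟨fun _ => 1, Cfsg.Agent.Char.isIrr_one⟩, rfl, ?_⟩, ?_⟩
  · show (1 : ℂ) ≠ (Fintype.card F : ℂ)
    exact fun e => Fintype.one_lt_card.ne' (Nat.cast_eq_one.1 e.symm)
  · by_contra hne
    refine neg_one_ne hodd (isConj_one_left.mp ((Cfsg.Agent.Char.isConj_iff_irr _ _).2 fun χ => ?_))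
    exact (sign_cases χ).resolve_right fun e => hne ⟨χ, e⟩

/-- The defect groups of the two blocks of full defect. -/
theorem defect_Sylow (hM : IsPModular p M) (hp : p ≠ 2) (P : Sylow p SS) :
    IsDefectGroup p M (evB F) (P : Subgroup SS) ∧ IsDefectGroup p M (odB F) (P : Subgroup SS) := by
  classical
  have hodd := odd_of_char (F := F) hp
  have hcoef : ∀ B : Set (IrrCharacter SS), blockCoeff B 1 = (Nat.card SS : ℂ)⁻¹ *
      ∑ χ : IrrCharacter SS, if χ ∈ B then (χ : SS → ℂ) 1 ^ 2 else 0 := by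
    intro B
    rw [blockCoeff, ← sum_filter, finsum_mem_eq_finite_toFinset_sum _ B.toFinite]
    congr 1
    refine sum_congr (by ext; simp) fun χ _ => ?_
    rw [← irr_apply_inv, inv_one, sq]
  have hreg : ∑ χ : IrrCharacter SS, (χ : SS → ℂ) 1 * (χ : SS → ℂ) (-1) = 0 := by
    rw [Cfsg.Agent.Char.regular_expansion, if_neg (neg_one_ne hodd)]
  have htot := Cfsg.Agent.Char.sum_degree_sq (G := SS)
  have hod : ∑ χ : IrrCharacter SS, (if χ ∈ odB F then (χ : SS → ℂ) 1 ^ 2 else 0) =
      (Nat.card SS : ℂ) / 2 := by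
    rw [eq_div_iff two_ne_zero, sum_mul]
    refine Eq.trans (sum_congr rfl fun χ _ => show _ =
      (χ : SS → ℂ) 1 ^ 2 - (χ : SS → ℂ) 1 * (χ : SS → ℂ) (-1) from ?_)
      (by rw [sum_sub_distrib, hreg, htot, sub_zero])
    rcases sign_cases χ with e | e
    · rw [if_neg (show χ ∉ odB F from fun h =>
        irr_one_ne_zero χ (eq_zero_of_eq_neg (e.symm.trans h))), e]
      ring
    · rw [if_pos (show χ ∈ odB F from e), e]; ring
  have hst : ∑ χ : IrrCharacter SS, (if χ ∈ stB F then (χ : SS → ℂ) 1 ^ 2 else 0) =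
      (Fintype.card F : ℂ) ^ 2 := by
    obtain ⟨χ₀, h₀⟩ := (exists_members (F := F) hodd).1
    rw [sum_eq_single χ₀]
    · rw [if_pos h₀, show (χ₀ : SS → ℂ) 1 = _ from h₀]
    · exact fun ψ _ hne => if_neg fun hψ => hne (Subtype.ext
        ((unique_deg_q ψ.2 hψ).trans (unique_deg_q χ₀.2 h₀).symm))
    · simp
  have hev : ∑ χ : IrrCharacter SS, (if χ ∈ evB F then (χ : SS → ℂ) 1 ^ 2 else 0) =
      (Nat.card SS : ℂ) / 2 - (Fintype.card F : ℂ) ^ 2 := by
    rw [show (Nat.card SS : ℂ) / 2 - (Fintype.card F : ℂ) ^ 2 = (Nat.card SS : ℂ) -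
      (Nat.card SS : ℂ) / 2 - (Fintype.card F : ℂ) ^ 2 by ring, ← hod, ← hst, ← htot,
      ← sum_sub_distrib, ← sum_sub_distrib]
    refine sum_congr rfl fun χ _ => ?_
    by_cases hq : (χ : SS → ℂ) 1 = (Fintype.card F : ℂ)
    · rw [if_neg fun h => h.2 hq, if_neg fun h => not_deg_q_of_neg h hq,
        if_pos (show χ ∈ stB F from hq)]
      ring
    · rw [if_neg (show χ ∉ stB F from hq)]
      rcases sign_cases χ with e | e
      · rw [if_pos (show χ ∈ evB F from ⟨e, hq⟩),
          if_neg (show χ ∉ odB F from fun h =>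
            irr_one_ne_zero χ (eq_zero_of_eq_neg (e.symm.trans h)))]
        ring
      · rw [if_neg (show χ ∉ evB F from fun h =>
            irr_one_ne_zero χ (eq_zero_of_eq_neg (h.1.symm.trans e))),
          if_pos (show χ ∈ odB F from e)]
        ring
  have hcard : (Nat.card SS : ℂ) ≠ 0 := Nat.cast_ne_zero.2 Nat.card_pos.ne'
  have h2r : MemLocalRing M ((2 : ℕ) : ℂ)⁻¹ :=
    ring_inv_natCast hM fun h => hp ((Nat.prime_dvd_prime_iff_eq Fact.out Nat.prime_two).1 h)
  have h2i : ¬ MemLocalIdeal M ((2 : ℕ) : ℂ)⁻¹ := fun h => ideal_one hM (by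
    simpa using ideal_mul_left hM (ring_natCast hM 2) h)
  have main : ∀ B : Set (IrrCharacter SS), MemLocalRing M (blockCoeff B 1) →
      ¬ MemLocalIdeal M (blockCoeff B 1) → IsDefectGroup p M B (P : Subgroup SS) := by
    intro B h1 h2
    refine ⟨1, ⟨h1, h2, fun χ _ => by rw [centralChar_one]; exact ideal_one hM⟩, ?_⟩
    obtain ⟨Q, hQ⟩ := exists_csyl_eq (g := (1 : SS)) P.isPGroup'
      (by rw [centralizer_one_eq_top]; exact le_top)
      (fun Q h => (P.is_maximal' (isPGroup_csyl Q) h).le)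
    exact ⟨Q, hQ.symm⟩
  refine ⟨?_, ?_⟩
  · have e : blockCoeff (evB F) 1 =
        ((2 : ℕ) : ℂ)⁻¹ - (Fintype.card F : ℂ) * ((Fintype.card F ^ 2 - 1 : ℕ) : ℂ)⁻¹ := by
      rw [hcoef, hev, card_SS, Nat.cast_sub (Nat.one_le_pow 2 _ Fintype.card_pos)]
      push_cast
      have h0 := (cardF_cast_ne (F := F)).1
      have h1 : (Fintype.card F : ℂ) ^ 2 - 1 ≠ 0 := by
        rw [show (Fintype.card F : ℂ) ^ 2 - 1 =
          ((Fintype.card F : ℂ) - 1) * ((Fintype.card F : ℂ) + 1) by ring]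
        exact mul_ne_zero (cardF_cast_ne (F := F)).2.1 (cardF_cast_ne (F := F)).2.2
      field_simp
    have hr : MemLocalIdeal M ((Fintype.card F : ℂ) * ((Fintype.card F ^ 2 - 1 : ℕ) : ℂ)⁻¹) :=
      ideal_mul_right hM ((ideal_natCast_iff hM _).2 dvd_card)
        (ring_inv_natCast hM p_not_dvd_sq_sub)
    refine main _ (e ▸ ring_sub hM h2r (ring_of_ideal hr)) fun h => h2i ?_
    have := ideal_add hM (e ▸ h) hr
    rwa [sub_add_cancel] at this
  · have e : blockCoeff (odB F) 1 = ((2 : ℕ) : ℂ)⁻¹ := by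
      rw [hcoef, hod]; push_cast; field_simp
    exact main _ (e ▸ h2r) (e ▸ h2i)

end Cfsg.Agent.Block.SL2Char
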