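import Mathlib
import Cfsg.Agent.Lib.Char.Induce
import Cfsg.Agent.Lib.Char.Constituent

/-!
Groups with an inverted cyclic subgroup of index two and a single involution outside which all
squares fall: class number and degrees.
-/

set_option linter.unusedSectionVars false

namespace Cfsg.Agent.Block.SL2Char

open Finset
open scoped ComplexConjugate

universe u

variable {G : Type u} [Group G] [Finite G]

theorem card_sq_one_cyclic {A : Type*} [CommGroup A] [IsCyclic A] [Finite A] {m : ℕ}
    (hm : Nat.card A = 2 * m) : Nat.card {x : A // x * x = 1} = 2 := by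
  rw [show (2 : ℕ) = (Nat.card A).gcd 2 by rw [hm, Nat.gcd_eq_right (dvd_mul_right 2 m)],
    ← IsCyclic.card_powMonoidHom_ker]
  exact Nat.card_congr (Equiv.subtypeEquivRight fun x => by simp [MonoidHom.mem_ker, sq])

/-- The class number of a dicyclic-like group. -/
theorem dicyclic_classes (T : Subgroup G) [IsCyclic T] (hidx : T.index = 2)
    (hinv : ∀ g, g ∉ T → ∀ t ∈ T, g * t * g⁻¹ = t⁻¹) {m : ℕ} (hm : Nat.card T = 2 * m) :
    Nat.card (ConjClasses G) = m + 3 := by
  classical
  haveI := Fintype.ofFinite G
  letI : CommGroup T := IsCyclic.commGroup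
  have hcomm : ∀ a ∈ T, ∀ b ∈ T, a * b = b * a := fun a ha b hb =>
    congrArg Subtype.val (mul_comm (⟨a, ha⟩ : T) ⟨b, hb⟩)
  have hcT : ((univ : Finset G).filter fun x => x ∈ T).card = Nat.card T := by
    rw [← Fintype.card_subtype, ← Nat.card_eq_fintype_card]
  have hout : ((univ : Finset G).filter fun x => x ∉ T).card = Nat.card T := by
    have h1 := card_filter_add_card_filter_not (s := (univ : Finset G)) (fun x => x ∈ T)
    have h2 := Subgroup.card_mul_index T
    rw [hidx, Nat.card_eq_fintype_card (α := G)] at h2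
    rw [hcT, card_univ] at h1
    omega
  have h2T : ((univ : Finset G).filter fun x => x ∈ T ∧ x * x = 1).card = 2 := by
    rw [← Fintype.card_subtype, ← Nat.card_eq_fintype_card, ← card_sq_one_cyclic (A := T) hm]
    exact Nat.card_congr
      { toFun := fun x => ⟨⟨x.1, x.2.1⟩, Subtype.ext x.2.2⟩
        invFun := fun x => ⟨x.1.1, x.1.2, congrArg Subtype.val x.2⟩
        left_inv := fun x => rfl
        right_inv := fun x => rfl }
  -- commuting with a given element
  have hin : ∀ a ∈ T, ((univ : Finset G).filter fun b => Commute a b).card =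
      Nat.card T + if a * a = 1 then Nat.card T else 0 := by
    intro a ha
    rw [← card_filter_add_card_filter_not (s := ((univ : Finset G).filter fun b => Commute a b))
      (fun b => b ∈ T), filter_filter, filter_filter]
    congr 1
    · rw [← hcT]
      exact congrArg card (filter_congr fun b _ => ⟨fun h => h.2, fun h => ⟨hcomm a ha b h, h⟩⟩)
    · split_ifs with h
      · rw [← hout]
        refine congrArg card (filter_congr fun b _ => ⟨fun h' => h'.2, fun hb => ⟨?_, hb⟩⟩)
        have := hinv b hb a ha
        rw [inv_eq_of_mul_eq_one_right h, mul_inv_eq_iff_eq_mul] at this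
        exact this.symm
      · rw [card_eq_zero, filter_eq_empty_iff]
        rintro b - ⟨hc, hb⟩
        have := hinv b hb a ha
        rw [← hc.eq, mul_inv_cancel_right] at this
        exact h (by nth_rewrite 2 [this]; exact mul_inv_cancel a)
  have hnot : ∀ a, a ∉ T → ((univ : Finset G).filter fun b => Commute a b).card = 2 * 2 := by
    intro a ha
    have hmem : ∀ b ∈ T, (Commute a b ↔ b * b = 1) := by
      intro b hb
      have := hinv a ha b hb
      refine ⟨fun hc => ?_, fun h => ?_⟩
      · rw [hc.eq, mul_inv_cancel_right] at this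
        nth_rewrite 2 [this]; exact mul_inv_cancel b
      · rw [inv_eq_of_mul_eq_one_right h, mul_inv_eq_iff_eq_mul] at this
        exact this
    have hmul : ∀ b, b ∉ T → b * a⁻¹ ∈ T := fun b hb => by
      rw [← Subgroup.inv_mem_iff] at ha
      exact (Subgroup.mul_mem_iff_of_index_two hidx).2 (iff_of_false hb ha)
    rw [← card_filter_add_card_filter_not (s := ((univ : Finset G).filter fun b => Commute a b))
      (fun b => b ∈ T), filter_filter, filter_filter, show 2 * 2 = 2 + 2 from rfl]
    congr 1
    · rw [← h2T]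
      exact congrArg card (filter_congr fun b _ =>
        ⟨fun ⟨hc, hb⟩ => ⟨hb, (hmem b hb).1 hc⟩, fun ⟨hb, h⟩ => ⟨(hmem b hb).2 h, hb⟩⟩)
    · rw [← h2T]
      refine card_bij (fun b _ => b * a⁻¹) (fun b hb => ?_) (fun b _ c _ e => mul_right_cancel e)
        (fun c hc => ⟨c * a, ?_, mul_inv_cancel_right c a⟩)
      · simp only [mem_filter, mem_univ, true_and] at hb ⊢
        obtain ⟨hc, hb⟩ := hb
        exact ⟨hmul b hb, (hmem _ (hmul b hb)).1 (hc.mul_right (Commute.refl a).inv_right)⟩
      · simp only [mem_filter, mem_univ, true_and] at hc ⊢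
        exact ⟨((hmem c hc.1).2 hc.2).mul_right (Commute.refl a),
          fun h => ha ((Subgroup.mul_mem_cancel_left _ hc.1).1 h)⟩
  have hpairs : Nat.card {p : G × G // Commute p.1 p.2} =
      ∑ a : G, ((univ : Finset G).filter fun b => Commute a b).card := by
    rw [Nat.card_eq_fintype_card, Fintype.card_subtype, card_filter, Fintype.sum_prod_type]
    exact sum_congr rfl fun a _ => (card_filter _ _).symm
  have hsum : ∑ a : G, ((univ : Finset G).filter fun b => Commute a b).card =
      (Nat.card T * Nat.card T + 2 * Nat.card T) + Nat.card T * (2 * 2) := by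
    rw [← sum_filter_add_sum_filter_not univ (fun a => a ∈ T),
      sum_congr rfl (fun a ha => hin a (mem_filter.1 ha).2),
      sum_congr rfl (fun a ha => hnot a (mem_filter.1 ha).2), sum_add_distrib, sum_const, sum_const,
      hcT, hout, ← sum_filter, filter_filter, sum_const, h2T, smul_eq_mul, smul_eq_mul, smul_eq_mul]
  have key := card_comm_eq_card_conjClasses_mul_card G
  rw [hpairs, hsum, ← Subgroup.card_mul_index T, hidx, hm] at key
  have hm0 : 0 < m := by
    have := Nat.card_pos (α := T)
    omega
  refine Nat.eq_of_mul_eq_mul_right (show 0 < 2 * m * 2 by omega) ?_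
  rw [← key]
  ring

/-- An abelian subgroup of index two bounds all degrees by two. -/
theorem degree_le_two [Fintype G] (T : Subgroup G) (hab : ∀ a ∈ T, ∀ b ∈ T, a * b = b * a)
    (hidx : T.index = 2) {χ : G → ℂ} (hχ : IsIrrCharacter G χ) {n : ℕ} (hn : χ 1 = n) : n ≤ 2 := by
  classical
  have hres : IsCharacter T (fun t : T => χ t) :=
    Cfsg.Agent.Char.IsChar.res (Cfsg.Agent.Char.IsIrr.isCharacter hχ) T
  obtain ⟨ψ, hψ⟩ := Cfsg.Agent.Char.IsChar.exists_constituent' hres
    (show χ (1 : T) ≠ 0 from Cfsg.Agent.Char.IsIrr.one_ne_zero hχ)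
  have hlin : (ψ : T → ℂ) 1 = 1 := Cfsg.Agent.Char.IsIrr.one_of_comm
    (fun a b => Subtype.ext (hab a a.2 b b.2)) ψ.2
  refine Cfsg.Agent.Char.degree_le_of_constituent
    (Cfsg.Agent.Char.isCharacter_indFun T (Cfsg.Agent.Char.IsIrr.isCharacter ψ.2)) hχ ?_
    (m := 2) ?_ hn
  · rw [Cfsg.Agent.Char.classInner_indFun T (ψ : T → ℂ) (Cfsg.Agent.Char.IsIrr.classFun hχ),
      ← Cfsg.Agent.Char.classInner_conj_symm]
    simpa using hψ
  · rw [Cfsg.Agent.Char.indFun_one_eq, hidx, hlin]; norm_num

end Cfsg.Agent.Block.SL2Char
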