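import Mathlib
import Cfsg.Agent.Lib.Block.SL2Char.SLFacts

/-!
Conjugacy in `SL(2, q)` compared with `GL(2, q)`, and the classes of unipotent elements.
-/

set_option linter.unusedSectionVars false

namespace Cfsg.Agent.Block.SL2Char

open Matrix Finset

universe u v

variable {F : Type u} [Field F] [Fintype F] [DecidableEq F]

local notation "GG" => GL (Fin 2) F
local notation "SS" => Matrix.SpecialLinearGroup (Fin 2) F
local notation "tg" => (Matrix.SpecialLinearGroup.toGL : SS →* GG)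

theorem isConj_S {s t : SS} (h : IsConj s t) : IsConj (tg s) (tg t) := by
  obtain ⟨c, rfl⟩ := isConj_iff.1 h
  exact isConj_iff.2 ⟨tg c, by rw [map_mul, map_mul, map_inv]⟩

/-- With centralizers of every determinant, conjugacy descends to `SL(2, F)`. -/
theorem conj_S_of_fullDet {s t : SS} (hs : FullDet (tg s)) (h : IsConj (tg s) (tg t)) :
    IsConj s t := by
  obtain ⟨x, hx⟩ := isConj_iff.1 h
  obtain ⟨c, hc, hd⟩ := hs (detu x)
  obtain ⟨y, hy⟩ := exists_toGL_of_detu (g := x * c⁻¹) (by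
    rw [map_mul, map_inv, hd, mul_inv_cancel])
  refine isConj_iff.2 ⟨y, SpecialLinearGroup.toGL_injective ?_⟩
  show tg _ = tg t
  have h1 : c⁻¹ * tg s * c = tg s := by rw [mul_assoc, ← hc, inv_mul_cancel_left]
  rw [map_mul, map_mul, map_inv, hy, ← hx]
  calc x * c⁻¹ * tg s * (x * c⁻¹)⁻¹ = x * (c⁻¹ * tg s * c) * x⁻¹ := by group
    _ = x * tg s * x⁻¹ := by rw [h1]

theorem fullDet_un_even [CharP F 2] : FullDet (un 1 : GG) := fun d => by
  obtain ⟨r, hr⟩ := FiniteField.isSquare_of_char_two (ringChar.eq F 2) (d : F)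
  have hr0 : r ≠ 0 := fun e => d.ne_zero (by rw [hr, e, mul_zero])
  exact ⟨sc (Units.mk0 r hr0), (sc_central _ _).symm, detu_eq (by rw [dt_sc, hr]; rfl)⟩

/-- The type of a nontrivial element of prime order in the defining characteristic. -/
theorem conj_un_of_orderOf {p : ℕ} [Fact p.Prime] [CharP F p] {g : SS} (hg : orderOf g = p) :
    IsConj (un 1 : GG) (tg g) := by
  classical
  obtain ⟨K, _, _, _, _, hK⟩ := exists_model F
  obtain ⟨n, hn0, hn⟩ := FiniteField.card F p
  have hp : p.Prime := Fact.out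
  have hgp : tg g ^ p = 1 := by rw [← map_pow, ← hg, pow_orderOf_eq_one, map_one]
  have hg1 : tg g ≠ 1 := fun e => hp.one_lt.ne' (by
    rw [← hg, orderOf_eq_one_iff]
    exact SpecialLinearGroup.toGL_injective (by
      show tg g = tg 1
      rw [e, map_one]))
  have hpq : p ∣ Fintype.card F := hn ▸ dvd_pow_self p n.ne_zero
  have hgq : tg g ^ Fintype.card F = 1 := by
    obtain ⟨k, hk⟩ := hpq
    rw [hk, pow_mul, hgp, one_pow]
  have hpw : ∀ r, IsConj r (tg g) → r ^ Fintype.card F = 1 := fun r hr => by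
    obtain ⟨c, hc⟩ := isConj_iff.1 hr
    have := congrArg (fun x => c⁻¹ * x * c) ((conj_pow (i := Fintype.card F) (a := c) (b := r)).symm.trans
      (hc ▸ hgq))
    simpa [mul_assoc] using this
  have hzq : ∀ z : Fˣ, z ^ Fintype.card F = z := fun z =>
    Units.ext (by rw [Units.val_pow_eq_pow_val, FiniteField.pow_card])
  rcases cases K hK (tg g) with ⟨z, hz⟩ | ⟨z, hz⟩ | ⟨x, y, hxy, hz⟩ | ⟨l, hl, hz⟩
  · exfalso
    have h1 := hpw (sc z) (by rw [hz])
    rw [show (sc z : GG) = di z z from rfl, di_pow, hzq] at h1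
    exact hg1 (hz.trans h1)
  · have h1 : (un z : GG) ^ Fintype.card F = 1 := hpw _ hz
    have hd : z * z = 1 := by
      refine Units.ext ?_
      obtain ⟨c, hc⟩ := isConj_iff.1 hz
      have := dt_toGL g
      rwa [← hc, dt_conj, dt_un] at this
    have h2 : un z = sc z * tg (uT (Multiplicative.ofAdd ((z⁻¹ : Fˣ) : F))) := by
      refine Units.ext ?_
      show !![(z : F), 1; 0, (z : F)] = !![(z : F), 0; 0, (z : F)] * !![1, ((z⁻¹ : Fˣ) : F); 0, 1]
      simp [Matrix.mul_fin_two]
    rw [h2, (show Commute (sc z : GG) (tg (uT (Multiplicative.ofAdd ((z⁻¹ : Fˣ) : F)))) from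
        (sc_central z _).symm).mul_pow, ← map_pow, ← map_pow,
      show (Multiplicative.ofAdd ((z⁻¹ : Fˣ) : F)) ^ Fintype.card F = 1 by
        rw [← Fintype.card_multiplicative, pow_card_eq_one], map_one, map_one, mul_one,
      show (sc z : GG) = di z z from rfl, di_pow, hzq, ← sc_one] at h1
    have : z = 1 := Units.ext (by
      simpa using congrArg (fun a : GG => (a : Matrix (Fin 2) (Fin 2) F) 0 0) h1)
    rwa [this] at hz
  · exfalso
    have h1 := hpw _ hz
    rw [di_pow, hzq, hzq, ← sc_one] at h1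
    have e0 := congrArg (fun a : GG => (a : Matrix (Fin 2) (Fin 2) F) 0 0) h1
    have e1 := congrArg (fun a : GG => (a : Matrix (Fin 2) (Fin 2) F) 1 1) h1
    simp at e0 e1
    exact hxy (Units.ext (by rw [e0, e1]))
  · exfalso
    have h1 : l ^ Fintype.card F = 1 :=
      ell_injective (F := F) K hK (by rw [map_pow, hpw _ hz, map_one])
    refine hl ?_
    have h2 := pow_card_pow_card (F := F) K hK l
    rw [h1, one_pow] at h2
    exact h2 ▸ one_mem _

theorem toGL_uT_one : tg (uT (Multiplicative.ofAdd (1 : F))) = un 1 := by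
  refine Units.ext ?_
  show !![(1 : F), 1; 0, 1] = !![((1 : Fˣ) : F), 1; 0, ((1 : Fˣ) : F)]
  simp

/-- Every unipotent element is conjugate to an upper unitriangular one. -/
theorem exists_conj_uT {g : SS} (hg : IsConj (un 1 : GG) (tg g)) :
    ∃ d : Fˣ, IsConj (uT (Multiplicative.ofAdd ((d : F)))) g := by
  obtain ⟨x, hx⟩ := isConj_iff.1 hg
  obtain ⟨t, ht⟩ := exists_toGL_of_detu (g := x * (di (detu x) 1)⁻¹) (by
    rw [map_mul, map_inv, detu_eq (g := di (detu x) 1) (w := detu x) (by simp [dt_di]),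
      mul_inv_cancel])
  refine ⟨detu x, isConj_iff.2 ⟨t, SpecialLinearGroup.toGL_injective ?_⟩⟩
  show tg _ = tg g
  have h : tg (uT (Multiplicative.ofAdd (((detu x : Fˣ) : F)))) =
      di (detu x) 1 * un 1 * (di (detu x) 1)⁻¹ := by
    rw [← toGL_uT_one, ← toGL_cjS, cjS_di_uT, mul_one]
  rw [map_mul, map_mul, map_inv, ht, h, ← hx]
  group

theorem orderOf_uT {p : ℕ} [Fact p.Prime] [CharP F p] (d : Fˣ) :
    orderOf (uT (Multiplicative.ofAdd (d : F))) = p := by
  refine orderOf_eq_prime ?_ fun e => ?_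
  · rw [← map_pow, ← ofAdd_nsmul, nsmul_eq_mul, CharP.cast_eq_zero, zero_mul, ofAdd_zero, map_one]
  · have := congrArg (fun s : SS => (s : Matrix (Fin 2) (Fin 2) F) 0 1) e
    simp [uT_val] at this

/-- Conjugacy of two upper unitriangular elements. -/
theorem isConj_uT {a b : Fˣ} :
    IsConj (uT (Multiplicative.ofAdd (a : F))) (uT (Multiplicative.ofAdd (b : F))) ↔
      IsSquare ((a : F) * b) := by
  constructor
  · intro h
    obtain ⟨t, ht⟩ := isConj_iff.1 h
    have h1 := congrArg (fun s : SS => (s : Matrix (Fin 2) (Fin 2) F)) (mul_inv_eq_iff_eq_mul.1 ht)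
    simp only [Matrix.SpecialLinearGroup.coe_mul, uT_val] at h1
    have e00 := congrFun (congrFun h1 0) 0
    have e01 := congrFun (congrFun h1 0) 1
    simp [Matrix.mul_apply, Fin.sum_univ_two] at e00 e01
    have h10 : (t : Matrix (Fin 2) (Fin 2) F) 1 0 = 0 := by
      exact e00
    have hdet : (t : Matrix (Fin 2) (Fin 2) F) 0 0 * (t : Matrix (Fin 2) (Fin 2) F) 1 1 = 1 := by
      have := t.2
      rwa [det_fin_two, h10, mul_zero, sub_zero] at this
    refine ⟨(t : Matrix (Fin 2) (Fin 2) F) 0 0 * a, ?_⟩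
    have e2 : (t : Matrix (Fin 2) (Fin 2) F) 0 0 * a = b * (t : Matrix (Fin 2) (Fin 2) F) 1 1 := by
      linear_combination e01
    linear_combination -(a : F) * b * hdet - (a : F) * (t : Matrix (Fin 2) (Fin 2) F) 0 0 * e2
  · rintro ⟨r, hr⟩
    have hr0 : r ≠ 0 := fun e => mul_ne_zero a.ne_zero b.ne_zero (by rw [hr, e, mul_zero])
    refine isConj_iff.2 ⟨mkS (di (Units.mk0 r hr0 / a) (a / Units.mk0 r hr0)) (by
      rw [dt_di, ← Units.val_mul, div_mul_div_cancel, div_self', Units.val_one]), ?_⟩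
    refine SpecialLinearGroup.toGL_injective ?_
    show tg _ = tg _
    rw [map_mul, map_mul, map_inv, toGL_mkS, mul_inv_eq_iff_eq_mul]
    refine Units.ext ?_
    show !![((Units.mk0 r hr0 / a : Fˣ) : F), 0; 0, ((a / Units.mk0 r hr0 : Fˣ) : F)] *
        !![1, (a : F); 0, 1] = !![1, (b : F); 0, 1] *
        !![((Units.mk0 r hr0 / a : Fˣ) : F), 0; 0, ((a / Units.mk0 r hr0 : Fˣ) : F)]
    have ha := a.ne_zero
    simp [Matrix.mul_fin_two, Units.val_div_eq_div_val]
    field_simp
    linear_combination -hr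

theorem card_carrier_eq (g : SS) :
    Nat.card (ConjClasses.mk g).carrier = Nat.card {h : SS // IsConj g h} :=
  Nat.card_congr (Equiv.subtypeEquivRight fun h => by
    rw [ConjClasses.mem_carrier_iff_mk_eq, ConjClasses.mk_eq_mk_iff_isConj]
    exact isConj_comm)

theorem card_GLclass_un :
    Nat.card {h : SS // IsConj (un 1 : GG) (tg h)} = Fintype.card F ^ 2 - 1 := by
  have h : Nat.card {h : GG // IsConj (un 1) h} = Fintype.card F ^ 2 - 1 := by
    refine Nat.cast_injective (R := ℂ) ?_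
    rw [classSize_un, Nat.cast_sub (Nat.one_le_pow 2 _ Fintype.card_pos)]
    push_cast; ring
  rw [← h]
  refine Nat.card_congr
    { toFun := fun s => ⟨tg s.1, s.2⟩
      invFun := fun g => ⟨mkS g.1 ?_, ?_⟩
      left_inv := fun s => Subtype.ext (Subtype.ext rfl)
      right_inv := fun g => Subtype.ext (Units.ext rfl) }
  · obtain ⟨c, hc⟩ := isConj_iff.1 g.2
    rw [← hc, dt_conj, dt_un, Units.val_one, one_mul]
  · rw [toGL_mkS]; exact g.2

end Cfsg.Agent.Block.SL2Char
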