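import Mathlib
import Cfsg.Agent.Lib.Block.SL2Char.SLUnipotent
import Cfsg.Agent.Lib.Block.SL2Char.Dicyclic

/-!
The two maximal tori of `SL(2, q)`, `q` odd, their centralizers and normalizers.
-/

set_option linter.unusedSectionVars false

namespace Cfsg.Agent.Block.SL2Char

open Matrix Finset

universe u v w

variable {F : Type u} [Field F] [Fintype F] [DecidableEq F]

local notation "GG" => GL (Fin 2) F
local notation "SS" => Matrix.SpecialLinearGroup (Fin 2) F
local notation "tg" => (Matrix.SpecialLinearGroup.toGL : SS →* GG)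

/-- The split torus. -/
noncomputable def diS : Fˣ →* SS where
  toFun x := mkS (di x x⁻¹) (by rw [dt_di, ← Units.val_mul, mul_inv_cancel, Units.val_one])
  map_one' := SpecialLinearGroup.toGL_injective (by
    show tg _ = tg 1
    rw [toGL_mkS, map_one, inv_one]
    exact sc_one)
  map_mul' a b := SpecialLinearGroup.toGL_injective (by
    show tg _ = tg (_ * _)
    rw [map_mul, toGL_mkS, toGL_mkS, toGL_mkS, di_mul, ← mul_inv])

theorem toGL_diS (x : Fˣ) : tg (diS x) = di x x⁻¹ :=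
  toGL_mkS _ (by rw [dt_di, ← Units.val_mul, mul_inv_cancel, Units.val_one])

theorem di_inj {x y a b : Fˣ} (h : (di x y : GG) = di a b) : x = a ∧ y = b := by
  have h1 := congrArg (fun g : GG => (g : Matrix (Fin 2) (Fin 2) F) 0 0) h
  have h2 := congrArg (fun g : GG => (g : Matrix (Fin 2) (Fin 2) F) 1 1) h
  simp at h1 h2
  exact ⟨Units.ext h1, Units.ext h2⟩

theorem diS_injective : Function.Injective (diS (F := F)) := fun a b h => by
  have h1 := congrArg tg h
  rw [toGL_diS, toGL_diS] at h1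
  exact (di_inj h1).1

/-- The common properties of the two tori. -/
structure IsTorus {A : Type w} [CommGroup A] (φ : A →* SS) (m : ℕ) : Prop where
  inj : Function.Injective φ
  card : Nat.card A = 2 * m
  two_le : 2 ≤ m
  cent : ∀ a : A, a * a ≠ 1 → ∀ g, g * φ a = φ a * g → g ∈ φ.range
  conj : ∀ a b : A, a * a ≠ 1 → IsConj (φ a) (φ b) → b = a ∨ b = a⁻¹
  inverted : ∀ a : A, IsConj (φ a) (φ a⁻¹)

theorem two_ne_zero_of_odd (hodd : Odd (Fintype.card F)) : (2 : F) ≠ 0 := fun h => by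
  have := CharTwo.of_one_ne_zero_of_two_eq_zero one_ne_zero h
  have h2 := card_Z2_even (F := F)
  rw [card_Z2_odd hodd] at h2
  omega

theorem neg_inj_sq (hodd : Odd (Fintype.card F)) {s : SS} (h : s * s = 1) : s = 1 ∨ s = -1 := by
  classical
  obtain ⟨K, _, _, _, _, hK⟩ := exists_model F
  have h' : tg s * tg s = 1 := by rw [← map_mul, h, map_one]
  have hsq : ∀ r, IsConj r (tg s) → r * r = 1 := fun r hr => by
    obtain ⟨c, hc⟩ := isConj_iff.1 hr.symm
    rw [← hc, show c * tg s * c⁻¹ * (c * tg s * c⁻¹) = c * (tg s * tg s) * c⁻¹ by group, h',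
      mul_one, mul_inv_cancel]
  rcases cases K hK (tg s) with ⟨z, hz⟩ | ⟨z, hz⟩ | ⟨x, y, hxy, hz⟩ | ⟨l, hl, hz⟩
  · have hzz : z ∈ Z2 F := mem_Z2.2 (Units.ext (by
      have := dt_toGL s
      rwa [hz, dt_sc] at this))
    rcases eq_one_or_neg hzz with rfl | rfl
    · exact Or.inl (SpecialLinearGroup.toGL_injective (by
        show tg s = tg 1
        rw [map_one, hz, sc_one]))
    · refine Or.inr (Subtype.ext ?_)
      have := congrArg Units.val hz
      show (tg s : Matrix (Fin 2) (Fin 2) F) = _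
      rw [this, Matrix.SpecialLinearGroup.coe_neg, Matrix.SpecialLinearGroup.coe_one]
      ext i j
      fin_cases i <;> fin_cases j <;> simp
  · exfalso
    have h1 := congrArg (fun r : GG => (r : Matrix (Fin 2) (Fin 2) F)) (hsq _ hz)
    have e01 := congrFun (congrFun h1 0) 1
    simp [Matrix.mul_apply, Fin.sum_univ_two] at e01
    exact mul_ne_zero (two_ne_zero_of_odd hodd) z.ne_zero (by linear_combination e01)
  · exfalso
    have h1 := hsq _ hz
    rw [di_mul, ← sc_one] at h1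
    obtain ⟨e1, e2⟩ := di_inj (x := x * x) (y := y * y) (a := 1) (b := 1) h1
    have hd : x * y = 1 := Units.ext (by
      obtain ⟨c, hc⟩ := isConj_iff.1 hz
      have := dt_toGL s
      rwa [← hc, dt_conj, dt_di] at this)
    exact hxy ((inv_eq_of_mul_eq_one_right hd) ▸ (inv_eq_of_mul_eq_one_right e1).symm)
  · exfalso
    have h1 := hsq _ hz
    rw [← map_mul, ← map_one (ell (F := F) K hK)] at h1
    have h2 : l * l = 1 := ell_injective K hK h1
    refine hl ?_
    rcases mul_self_eq_one_iff.1 (show (l : K) * l = 1 from congrArg Units.val h2) with e | e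
    · exact ⟨1, Units.ext (by simp [emb, e])⟩
    · exact ⟨-1, Units.ext (by simp [emb, e])⟩

theorem isConj_di_symm (x : Fˣ) (hx : x ≠ x⁻¹) : IsConj (diS x) (diS x⁻¹) := by
  refine conj_S_of_fullDet (by rw [toGL_diS]; exact fullDet_di _ _) ?_
  rw [toGL_diS, toGL_diS, inv_inv]
  exact (isConj_di_di hx hx.symm).2 (Or.inr ⟨rfl, rfl⟩)

theorem isTorus_diS (hodd : Odd (Fintype.card F)) (h5 : 5 ≤ Fintype.card F) :
    IsTorus (diS (F := F)) ((Fintype.card F - 1) / 2) := by
  refine ⟨diS_injective, by rw [Nat.card_eq_fintype_card, odd_card_eq hodd], by omega,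
    fun a ha g hg => ?_, fun a b ha h => ?_, fun a => ?_⟩
  · have hx : a ≠ a⁻¹ := fun e => ha (by nth_rewrite 2 [e]; exact mul_inv_cancel a)
    have hne : ((a : F) - ((a⁻¹ : Fˣ) : F)) ≠ 0 := sub_ne_zero.2 fun e => hx (Units.ext e)
    have h1 := congrArg (fun r : GG => (r : Matrix (Fin 2) (Fin 2) F)) (congrArg tg hg)
    simp only [map_mul, toGL_diS, GeneralLinearGroup.coe_mul, di_val] at h1
    have e01 := congrFun (congrFun h1 0) 1
    have e10 := congrFun (congrFun h1 1) 0
    simp only [Matrix.mul_apply, Fin.sum_univ_two, Matrix.of_apply, Matrix.cons_val',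
      Matrix.cons_val_zero, Matrix.cons_val_one, Matrix.cons_val_fin_one, mul_zero, zero_mul,
      zero_add, add_zero] at e01 e10
    have g01 : (tg g : Matrix (Fin 2) (Fin 2) F) 0 1 = 0 :=
      (mul_eq_zero.1 (show ((a : F) - ((a⁻¹ : Fˣ) : F)) * (tg g : Matrix (Fin 2) (Fin 2) F) 0 1 = 0
        by linear_combination -e01)).resolve_left hne
    have g10 : (tg g : Matrix (Fin 2) (Fin 2) F) 1 0 = 0 :=
      (mul_eq_zero.1 (show ((a : F) - ((a⁻¹ : Fˣ) : F)) * (tg g : Matrix (Fin 2) (Fin 2) F) 1 0 = 0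
        by linear_combination e10)).resolve_left hne
    obtain ⟨h0, h1'⟩ := diag_ne_zero (mem_BB.2 g10)
    have hd := dt_toGL g
    rw [dt, g01, g10, mul_zero, sub_zero] at hd
    refine ⟨Units.mk0 _ h0, SpecialLinearGroup.toGL_injective ?_⟩
    show tg _ = tg g
    rw [toGL_diS]
    refine Units.ext (Matrix.ext fun i j => ?_)
    have e11 := eq_inv_of_mul_eq_one_right hd
    fin_cases i <;> fin_cases j
    · rfl
    · exact g01.symm
    · exact g10.symm
    · simp [e11]
  · have hx : a ≠ a⁻¹ := fun e => ha (by nth_rewrite 2 [e]; exact mul_inv_cancel a)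
    have h1 := isConj_S h
    rw [toGL_diS, toGL_diS] at h1
    by_cases hb : b = b⁻¹
    · exfalso
      rw [← hb, show (di b b : GG) = sc b from rfl] at h1
      have h2 := isConj_sc.1 h1.symm
      obtain ⟨e1, e2⟩ := di_inj (a := b) (b := b) h2
      exact hx (e1.trans e2.symm)
    · rcases (isConj_di_di hx hb).1 h1 with ⟨e, -⟩ | ⟨e, -⟩
      exacts [Or.inl e, Or.inr e]
  · by_cases hx : a = a⁻¹
    · rw [← hx]
    · exact isConj_di_symm a hx

variable (K : Type v) [Field K] [Algebra F K] [Fintype K] [DecidableEq K]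
  (hK : Module.finrank F K = 2)

theorem isTorus_ellS (hodd : Odd (Fintype.card F)) :
    IsTorus (ellS K hK) ((Fintype.card F + 1) / 2) := by
  have h3 := three_le_card hodd
  refine ⟨ellS_injective K hK, by rw [Nat.card_eq_fintype_card, odd_card_U1 K hK hodd], by omega,
    fun a ha g hg => ?_, fun a b ha h => ?_, fun a => ?_⟩
  · have hl : (a : Kˣ) ∉ (emb (F := F) K).range := fun h => ha ((sq_eq_one_iff_mem_range K a).2 h)
    obtain ⟨m, hm⟩ := (mem_centralizer_ell K hK hl (tg g)).1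
      (Subgroup.mem_centralizer_singleton_iff.2 (by rw [← toGL_ellS, ← map_mul, ← map_mul, hg]))
    have hd := dt_toGL g
    rw [← hm] at hd
    have hm1 : m ^ (Fintype.card F + 1) = 1 := by
      by_cases hr : m ∈ (emb (F := F) K).range
      · obtain ⟨w, rfl⟩ := hr
        rw [ell_emb, dt_sc, ← Units.val_mul, Units.val_eq_one] at hd
        rw [← map_pow, show Fintype.card F + 1 = (Fintype.card F - 1) + 2 by omega, pow_add,
          ← Fintype.card_units, pow_card_eq_one, one_mul, sq, hd, map_one]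
      · refine Units.ext ?_
        have h5 := congrArg (algebraMap F K) hd
        rw [(tr_dt_ell K hK hr).2, map_one] at h5
        rw [Units.val_pow_eq_pow_val, pow_succ', h5, Units.val_one]
    refine ⟨⟨m, (mem_U1 K).2 hm1⟩, SpecialLinearGroup.toGL_injective ?_⟩
    show tg _ = tg g
    rw [toGL_ellS, ← hm]
  · have hl : (a : Kˣ) ∉ (emb (F := F) K).range := fun h => ha ((sq_eq_one_iff_mem_range K a).2 h)
    have h1 := isConj_S h
    rw [toGL_ellS, toGL_ellS] at h1
    by_cases hb : (b : Kˣ) ∈ (emb (F := F) K).range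
    · exfalso
      obtain ⟨z, hz⟩ := hb
      rw [← hz, ell_emb] at h1
      exact not_isSc_ell K hK hl (by rw [isConj_sc.1 h1.symm]; exact isSc_sc z)
    · rcases (isConj_ell K hK hl hb).1 h1 with e | e
      · exact Or.inl (Subtype.ext e)
      · exact Or.inr (Subtype.ext (by rw [e, pow_card_U1]))
  · refine conj_S_of_fullDet (by rw [toGL_ellS]; exact fullDet_ell K hK _) ?_
    rw [toGL_ellS, toGL_ellS]
    by_cases hl : (a : Kˣ) ∈ (emb (F := F) K).range
    · rw [show a⁻¹ = a from inv_eq_of_mul_eq_one_right ((sq_eq_one_iff_mem_range K a).2 hl)]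
    · have hl' : ((a⁻¹ : U1 F K) : Kˣ) ∉ (emb (F := F) K).range := fun h => hl (by
        have := inv_mem h
        rwa [Subgroup.coe_inv, inv_inv] at this)
      exact (isConj_ell K hK hl hl').2 (Or.inr (pow_card_U1 K a).symm)

namespace IsTorus

variable {A : Type w} [CommGroup A] [IsCyclic A] [Finite A] {φ : A →* Matrix.SpecialLinearGroup (Fin 2) F} {m : ℕ}

omit [IsCyclic A] in
theorem card_range (h : IsTorus φ m) : Nat.card φ.range = 2 * m := by
  rw [← Nat.card_congr (MonoidHom.ofInjective h.inj).toEquiv, h.card]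

theorem exists_gen (h : IsTorus φ m) :
    ∃ a : A, a * a ≠ 1 ∧ ∀ b, b ∈ Subgroup.zpowers a := by
  obtain ⟨a, ha⟩ := IsCyclic.exists_generator (α := A)
  refine ⟨a, fun e => ?_, ha⟩
  have h1 : orderOf a = 2 * m := by rw [orderOf_eq_card_of_forall_mem_zpowers ha, h.card]
  have h2 := orderOf_le_of_pow_eq_one two_pos (by rwa [sq] : a ^ 2 = 1)
  have := h.two_le
  omega

omit [IsCyclic A] [Finite A] in
theorem centralizer_singleton (h : IsTorus φ m) {a : A} (ha : a * a ≠ 1) :
    Subgroup.centralizer ({φ a} : Set SS) = φ.range := by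
  ext g
  rw [Subgroup.mem_centralizer_singleton_iff]
  refine ⟨h.cent a ha g, ?_⟩
  rintro ⟨b, rfl⟩
  rw [← map_mul, ← map_mul, mul_comm]

theorem centralizer_range (h : IsTorus φ m) :
    Subgroup.centralizer (φ.range : Set SS) = φ.range := by
  obtain ⟨a, ha, -⟩ := h.exists_gen
  refine le_antisymm ?_ ?_
  · refine le_trans (Subgroup.centralizer_le ?_) (h.centralizer_singleton ha).le
    exact Set.singleton_subset_iff.2 ⟨a, rfl⟩
  · rintro _ ⟨b, rfl⟩
    exact Subgroup.mem_centralizer_iff.2 fun _ ⟨c, hc⟩ => by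
      rw [← hc, ← map_mul, ← map_mul, mul_comm]

/-- An element inverting the torus. -/
theorem exists_inverter (h : IsTorus φ m) :
    ∃ w : SS, w ∉ φ.range ∧ ∀ b, w * φ b * w⁻¹ = φ b⁻¹ := by
  obtain ⟨a, ha, hgen⟩ := h.exists_gen
  obtain ⟨w, hw⟩ := isConj_iff.1 (h.inverted a)
  have hall : ∀ b, w * φ b * w⁻¹ = φ b⁻¹ := by
    intro b
    obtain ⟨k, rfl⟩ := hgen b
    show w * φ (a ^ k) * w⁻¹ = φ (a ^ k)⁻¹
    rw [map_zpow, ← _root_.inv_zpow, map_zpow, ← hw, conj_zpow]
  refine ⟨w, fun ⟨c, hc⟩ => ha ?_, hall⟩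
  have h1 := hall a
  rw [← hc, ← map_inv φ c, ← map_mul, ← map_mul, mul_inv_cancel_comm] at h1
  nth_rewrite 2 [h.inj h1]
  exact mul_inv_cancel a

/-- An element conjugating a regular element of the torus into it centralizes or inverts it. -/
theorem mem_or_inverts (h : IsTorus φ m) {g : SS} {a : A} (ha : a * a ≠ 1)
    (hg : g * φ a * g⁻¹ ∈ φ.range) :
    g ∈ φ.range ∨ (g ∉ φ.range ∧ ∀ b, g * φ b * g⁻¹ = φ b⁻¹) := by
  by_cases hgr : g ∈ φ.range
  · exact Or.inl hgr
  refine Or.inr ⟨hgr, ?_⟩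
  obtain ⟨b, hb⟩ := hg
  obtain ⟨w, -, hw⟩ := h.exists_inverter
  rcases h.conj a b ha (isConj_iff.2 ⟨g, hb.symm⟩) with rfl | rfl
  · exact absurd (h.cent b ha g (mul_inv_eq_iff_eq_mul.1 hb.symm)) hgr
  · have hcen : w⁻¹ * g ∈ φ.range := by
      refine h.cent a ha _ (mul_inv_eq_iff_eq_mul.1 ?_)
      calc w⁻¹ * g * φ a * (w⁻¹ * g)⁻¹ = w⁻¹ * (g * φ a * g⁻¹) * w := by group
        _ = w⁻¹ * (w * φ a * w⁻¹) * w := by rw [← hb, hw]
        _ = φ a := by group
    obtain ⟨c, hc⟩ := hcen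
    intro x
    rw [show g = w * φ c by rw [hc, mul_inv_cancel_left], ← hw x]
    calc w * φ c * φ x * (w * φ c)⁻¹ = w * (φ c * φ x * (φ c)⁻¹) * w⁻¹ := by group
      _ = w * φ x * w⁻¹ := by rw [← map_inv, ← map_mul, ← map_mul, mul_inv_cancel_comm]

theorem mem_normalizer_iff (h : IsTorus φ m) {g : SS} :
    g ∈ Subgroup.normalizer (φ.range : Set SS) ↔
      g ∈ φ.range ∨ (g ∉ φ.range ∧ ∀ b, g * φ b * g⁻¹ = φ b⁻¹) := by
  refine ⟨fun hg => ?_, ?_⟩
  · obtain ⟨a, ha, -⟩ := h.exists_gen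
    exact h.mem_or_inverts ha ((Subgroup.mem_normalizer_iff.1 hg _).1 ⟨a, rfl⟩)
  · rintro (hg | ⟨-, hg⟩)
    · exact Subgroup.le_normalizer hg
    · refine Subgroup.mem_normalizer_iff.2 fun x => ⟨?_, ?_⟩
      · rintro ⟨b, rfl⟩
        rw [hg]; exact ⟨_, rfl⟩
      · rintro ⟨b, hb⟩
        refine ⟨b⁻¹, ?_⟩
        have h1 := hg b⁻¹
        rw [inv_inv, hb] at h1
        exact mul_left_cancel (mul_right_cancel h1)

/-- The torus inside its normalizer. -/
theorem normalizer_facts (h : IsTorus φ m) :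
    (φ.range.subgroupOf (Subgroup.normalizer (φ.range : Set SS))).index = 2 ∧
    IsCyclic (φ.range.subgroupOf (Subgroup.normalizer (φ.range : Set SS))) ∧
    Nat.card (φ.range.subgroupOf (Subgroup.normalizer (φ.range : Set SS))) = 2 * m ∧
    ∀ g : Subgroup.normalizer (φ.range : Set SS),
      g ∉ φ.range.subgroupOf (Subgroup.normalizer (φ.range : Set SS)) →
      ∀ t ∈ φ.range.subgroupOf (Subgroup.normalizer (φ.range : Set SS)), g * t * g⁻¹ = t⁻¹ := by
  obtain ⟨w, hw, hwi⟩ := h.exists_inverter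
  let e := Subgroup.subgroupOfEquivOfLe
    (Subgroup.le_normalizer (H := φ.range))
  haveI : IsCyclic φ.range :=
    isCyclic_of_surjective (MonoidHom.rangeRestrict φ) (MonoidHom.rangeRestrict_surjective φ)
  refine ⟨?_, isCyclic_of_surjective e.symm.toMonoidHom e.symm.surjective,
    by rw [Nat.card_congr e.toEquiv, h.card_range], fun g hg t ht => ?_⟩
  · refine Subgroup.index_eq_two_iff.2
      ⟨⟨w, (h.mem_normalizer_iff).2 (Or.inr ⟨hw, hwi⟩)⟩, fun b => ?_⟩
    simp only [Subgroup.mem_subgroupOf, Subgroup.coe_mul]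
    rcases (h.mem_normalizer_iff).1 b.2 with hb | ⟨hb, hbi⟩
    · exact Or.inr ⟨hb, fun hbw => hw ((Subgroup.mul_mem_cancel_left _ hb).1 hbw)⟩
    · refine Or.inl ⟨?_, hb⟩
      obtain ⟨a, ha, -⟩ := h.exists_gen
      refine h.cent a ha _ (mul_inv_eq_iff_eq_mul.1 ?_)
      calc (b : SS) * w * φ a * ((b : SS) * w)⁻¹ = (b : SS) * (w * φ a * w⁻¹) * (b : SS)⁻¹ := by group
        _ = φ a := by rw [hwi, hbi, inv_inv]
  · obtain ⟨c, hc⟩ := Subgroup.mem_subgroupOf.1 ht
    rcases (h.mem_normalizer_iff).1 g.2 with hb | ⟨-, hbi⟩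
    · exact absurd (Subgroup.mem_subgroupOf.2 hb) hg
    · refine Subtype.ext ?_
      show (g : SS) * (t : SS) * (g : SS)⁻¹ = (t : SS)⁻¹
      rw [← hc, hbi, map_inv]

theorem card_normalizer (h : IsTorus φ m) :
    Nat.card (Subgroup.normalizer (φ.range : Set SS)) = 2 * (2 * m) := by
  obtain ⟨h1, -, h2, -⟩ := h.normalizer_facts
  rw [← Subgroup.card_mul_index (φ.range.subgroupOf (Subgroup.normalizer (φ.range : Set SS))),
    h1, h2, mul_comm]

theorem classes_normalizer (h : IsTorus φ m) :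
    Nat.card (ConjClasses (Subgroup.normalizer (φ.range : Set SS))) = m + 3 := by
  obtain ⟨h1, h2, h3, h4⟩ := h.normalizer_facts
  haveI := h2
  exact dicyclic_classes _ h1 h4 h3

theorem sq_eq_neg_one (h : IsTorus φ m) (hodd : Odd (Fintype.card F)) {g : SS}
    (hg : g ∈ Subgroup.normalizer (φ.range : Set SS)) (hg' : g ∉ φ.range) : g * g = -1 := by
  obtain ⟨hidx, -, -, -⟩ := h.normalizer_facts
  have hsq : (⟨g, hg⟩ : Subgroup.normalizer (φ.range : Set SS)) * ⟨g, hg⟩ ∈
      φ.range.subgroupOf (Subgroup.normalizer (φ.range : Set SS)) :=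
    (Subgroup.mul_mem_iff_of_index_two hidx).2 Iff.rfl
  obtain ⟨c, hc⟩ : g * g ∈ φ.range := hsq
  rcases (h.mem_normalizer_iff).1 hg with h' | ⟨-, hinv⟩
  · exact absurd h' hg'
  have h1 := hinv c
  rw [map_inv, hc, show g * (g * g) * g⁻¹ = g * g by group] at h1
  have h2 : g * g * (g * g) = 1 := by
    nth_rewrite 2 [h1]; exact mul_inv_cancel _
  rcases neg_inj_sq hodd h2 with e | e
  · exfalso
    obtain ⟨a, ha, -⟩ := h.exists_gen
    have hcomm : g * φ a = φ a * g := by
      rcases neg_inj_sq hodd e with rfl | rfl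
      · rw [one_mul, mul_one]
      · rw [neg_mul, one_mul, mul_neg, mul_one]
    exact hg' (h.cent a ha g hcomm)
  · exact e

/-- The normalizer of a subgroup of the torus containing a regular element. -/
theorem normalizer_sub (h : IsTorus φ m) {S : Subgroup SS} (hS : S ≤ φ.range) {a : A}
    (ha : a * a ≠ 1) (haS : φ a ∈ S) :
    Subgroup.normalizer (S : Set SS) = Subgroup.normalizer (φ.range : Set SS) := by
  ext g
  refine ⟨fun hg => (h.mem_normalizer_iff).2
    (h.mem_or_inverts ha (hS ((Subgroup.mem_normalizer_iff.1 hg _).1 haS))), fun hg => ?_⟩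
  refine Subgroup.mem_normalizer_iff.2 fun x => ?_
  rcases (h.mem_normalizer_iff).1 hg with ⟨c, rfl⟩ | ⟨-, hinv⟩
  · refine ⟨fun hx => ?_, fun hx => ?_⟩
    · obtain ⟨b, rfl⟩ := hS hx
      rwa [← map_inv, ← map_mul, ← map_mul, mul_inv_cancel_comm]
    · obtain ⟨b, hb⟩ := hS hx
      have : x = φ b := by
        have h1 : φ c * φ b * (φ c)⁻¹ = φ b := by
          rw [← map_inv, ← map_mul, ← map_mul, mul_inv_cancel_comm]
        exact mul_left_cancel (mul_right_cancel (hb.symm.trans h1.symm))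
      rw [this, ← map_inv, ← map_mul, ← map_mul, mul_inv_cancel_comm] at hx
      rwa [this]
  · refine ⟨fun hx => ?_, fun hx => ?_⟩
    · obtain ⟨b, rfl⟩ := hS hx
      rw [hinv, map_inv]
      exact inv_mem hx
    · obtain ⟨b, hb⟩ := hS hx
      have h1 := hinv b⁻¹
      rw [inv_inv, hb] at h1
      rw [show x = φ b⁻¹ from (mul_left_cancel (mul_right_cancel h1)).symm, map_inv, hb]
      exact inv_mem hx

end IsTorus

end Cfsg.Agent.Block.SL2Char
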