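import Mathlib
import Cfsg.Agent.Lib.Block.ClassMul
import Cfsg.Agent.Lib.Char.Quotient
import Cfsg.Agent.Lib.Char.Complete

/-!
General facts for counting characters by degree in normalizers of Sylow subgroups.
-/

namespace Cfsg.Agent.Block.SL2Char

open Finset
open Cfsg Cfsg.Agent.Block

universe u v

/-- The number of irreducible characters whose degree satisfies `P`. -/
noncomputable def irrCount (H : Type u) [Group H] (P : ℕ → Prop) : ℕ :=
  Nat.card {χ : IrrCharacter H // P (charDegree (χ : H → ℂ))}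

theorem irrCount_congr {H : Type u} {K : Type v} [Group H] [Group K] [Finite H] [Finite K]
    (e : H ≃* K) (P : ℕ → Prop) : irrCount H P = irrCount K P := by
  let f : IrrCharacter H ≃ IrrCharacter K :=
    { toFun := fun χ => ⟨fun x => (χ : H → ℂ) (e.symm x),
        Cfsg.Agent.Char.IsIrr.comp_mulEquiv e.symm χ.2⟩
      invFun := fun χ => ⟨fun x => (χ : K → ℂ) (e x), Cfsg.Agent.Char.IsIrr.comp_mulEquiv e χ.2⟩
      left_inv := fun χ => Subtype.ext (funext fun x => by simp)
      right_inv := fun χ => Subtype.ext (funext fun x => by simp) }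
  refine Nat.card_congr (f.subtypeEquiv fun χ => ?_)
  have h : charDegree (f χ : K → ℂ) = charDegree (χ : H → ℂ) := by
    show ⌊((χ : H → ℂ) (e.symm 1)).re⌋₊ = _
    rw [map_one]; rfl
  rw [h]

theorem irrCount_all {H : Type u} [Group H] [Finite H] {P : ℕ → Prop}
    (h : ∀ χ : IrrCharacter H, P (charDegree (χ : H → ℂ))) :
    irrCount H P = Nat.card (ConjClasses H) := by
  haveI := Fintype.ofFinite H
  rw [irrCount, ← Cfsg.Agent.Char.card_irrCharacter]
  exact Nat.card_congr (Equiv.subtypeUnivEquiv h)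

/-- Sylow subgroups of the same order have normalizers with the same character counts. -/
theorem irrCount_normalizer {G : Type u} [Group G] [Finite G] {ℓ : ℕ} [Fact ℓ.Prime]
    (S : Sylow ℓ G) (S' : Subgroup G)
    (h : Nat.card S' = ℓ ^ (Nat.card G).factorization ℓ) (P : ℕ → Prop) :
    irrCount (Subgroup.normalizer ((S : Subgroup G) : Set G)) P =
      irrCount (Subgroup.normalizer (S' : Set G)) P := by
  obtain ⟨g, hg⟩ := MulAction.exists_smul_eq G S (Sylow.ofCard S' h)
  have h1 : ((S : Subgroup G)).map (MulAut.conj g).toMonoidHom = S' := by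
    have := congrArg (fun T : Sylow ℓ G => (T : Subgroup G)) hg
    simp only [Sylow.coe_ofCard, Sylow.coe_subgroup_smul] at this
    rw [← this]
    rfl
  have h2 := Subgroup.map_equiv_normalizer_eq (S : Subgroup G) (MulAut.conj g)
  rw [h1] at h2
  exact irrCount_congr (((MulAut.conj g).subgroupMap _).trans (MulEquiv.subgroupCongr h2)) P

theorem sum_charDegree_sq (H : Type u) [Group H] [Fintype H] :
    ∑ χ : IrrCharacter H, charDegree (χ : H → ℂ) ^ 2 = Nat.card H := by
  refine Nat.cast_injective (R := ℂ) ?_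
  rw [← Cfsg.Agent.Char.sum_degree_sq (G := H), Nat.cast_sum]
  exact Fintype.sum_equiv (Equiv.refl _) _ _ fun χ => by
    rw [Nat.cast_pow, ← charDeg_spec' χ]; rfl

/-- Odd degree characters when all degrees are at most three. -/
theorem irrCount_odd {H : Type u} [Group H] [Finite H]
    (hle : ∀ χ : IrrCharacter H, charDegree (χ : H → ℂ) ≤ 3) :
    ∃ a b c : ℕ, 0 < a ∧ a + b + c = Nat.card (ConjClasses H) ∧
      a + 4 * b + 9 * c = Nat.card H ∧ irrCount H (fun d => ¬ 2 ∣ d) = a + c ∧
      (c ≠ 0 → ∃ χ : IrrCharacter H, charDegree (χ : H → ℂ) = 3) := by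
  classical
  haveI := Fintype.ofFinite H
  let S : ℕ → Finset (IrrCharacter H) := fun d =>
    univ.filter fun χ : IrrCharacter H => charDegree (χ : H → ℂ) = d
  have hmem : ∀ χ : IrrCharacter H, charDegree (χ : H → ℂ) = 1 ∨ charDegree (χ : H → ℂ) = 2 ∨
      charDegree (χ : H → ℂ) = 3 := fun χ => by
    have := hle χ; have := charDeg_pos χ; omega
  have hsum : ∀ f : ℕ → ℕ, ∑ χ : IrrCharacter H, f (charDegree (χ : H → ℂ)) =
      f 1 * (S 1).card + f 2 * (S 2).card + f 3 * (S 3).card := fun f => by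
    rw [← sum_fiberwise_of_maps_to (s := univ) (t := ({1, 2, 3} : Finset ℕ))
      (g := fun χ : IrrCharacter H => charDegree (χ : H → ℂ))
      (fun χ _ => by simpa using hmem χ)]
    have hk : ∀ d, ∑ χ ∈ univ.filter (fun χ : IrrCharacter H => charDegree (χ : H → ℂ) = d),
        f (charDegree (χ : H → ℂ)) = f d * (S d).card := fun d => by
      rw [sum_congr rfl (fun χ hχ => by rw [(mem_filter.1 hχ).2]), sum_const, smul_eq_mul, mul_comm]
    rw [sum_insert (by simp), sum_insert (by simp), sum_singleton, hk, hk, hk, add_assoc]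
  refine ⟨(S 1).card, (S 2).card, (S 3).card, ?_, ?_, ?_, ?_, fun h => ?_⟩
  · refine card_pos.2 ⟨⟨fun _ => 1, Cfsg.Agent.Char.isIrr_one⟩, mem_filter.2 ⟨mem_univ _, ?_⟩⟩
    exact charDeg_trivial
  · rw [← Cfsg.Agent.Char.card_irrCharacter, Nat.card_eq_fintype_card, Fintype.card_eq_sum_ones,
      hsum fun _ => 1]
    ring
  · rw [← sum_charDegree_sq H, hsum fun d => d ^ 2]
    ring
  · rw [irrCount, Nat.card_eq_fintype_card, Fintype.card_subtype, card_filter,
      hsum fun d => if ¬ 2 ∣ d then 1 else 0]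
    norm_num
  · obtain ⟨χ, hχ⟩ := card_pos.1 (Nat.pos_of_ne_zero h)
    exact ⟨χ, (mem_filter.1 hχ).2⟩

end Cfsg.Agent.Block.SL2Char
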