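import Mathlib
import Cfsg.Agent.Lib.Block.SL2Char.Dicyclic
import Cfsg.Agent.Lib.Block.SL2Char.McKayBase
import Cfsg.Agent.Lib.Char.ExtendMain

/-!
Groups with a normal subgroup of order eight whose noncentral elements are all conjugate.
-/

set_option linter.unusedSectionVars false

namespace Cfsg.Agent.Block.SL2Char

open Finset
open Cfsg.Agent.Block

universe u

variable {H : Type u} [Group H] [Finite H]

theorem card_conj_mul_centralizer (r : H) :
    Nat.card {g : H // IsConj r g} * Nat.card (Subgroup.centralizer ({r} : Set H)) = Nat.card H := by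
  rw [← Subgroup.index_mul_card (Subgroup.centralizer ({r} : Set H))]
  congr 1
  rw [Subgroup.index_eq_card]
  refine Nat.card_congr (Equiv.ofBijective
    (Quotient.lift (fun x : H => (⟨x * r * x⁻¹, isConj_iff.2 ⟨x, rfl⟩⟩ : {g : H // IsConj r g}))
      ?_) ⟨?_, ?_⟩).symm
  · intro a b hab
    have hc := Subgroup.mem_centralizer_singleton_iff.1 (QuotientGroup.leftRel_apply.1 hab)
    refine Subtype.ext ?_
    show a * r * a⁻¹ = b * r * b⁻¹
    calc a * r * a⁻¹ = a * (r * (a⁻¹ * b)) * b⁻¹ := by group
      _ = a * (a⁻¹ * b * r) * b⁻¹ := by rw [hc]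
      _ = b * r * b⁻¹ := by group
  · rintro ⟨a⟩ ⟨b⟩ hab
    refine Quotient.sound (QuotientGroup.leftRel_apply.2 (Subgroup.mem_centralizer_singleton_iff.2 ?_))
    have h : a * r * a⁻¹ = b * r * b⁻¹ := congrArg Subtype.val hab
    calc a⁻¹ * b * r = a⁻¹ * (b * r * b⁻¹) * b := by group
      _ = a⁻¹ * (a * r * a⁻¹) * b := by rw [h]
      _ = r * (a⁻¹ * b) := by group
  · rintro ⟨g, hg⟩
    obtain ⟨c, rfl⟩ := isConj_iff.1 hg
    exact ⟨Quotient.mk'' c, rfl⟩

theorem tetra_facts (P : Subgroup H) [P.Normal] (hP : Nat.card P = 8) {z i : H}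
    (hz : z ≠ 1) (hzP : z ∈ P) (hzc : ∀ g, g * z = z * g) (hi1 : i ≠ 1) (hiz : i ≠ z) (hiP : i ∈ P)
    (hconj : ∀ p ∈ P, p = 1 ∨ p = z ∨ IsConj i p)
    (hC : ∀ g, g * i = i * g → g ∈ P)
    (hC4 : Nat.card (Subgroup.centralizer ({i} : Set H)) = 4) :
    irrCount H (fun d => ¬ 2 ∣ d) = 4 := by
  classical
  haveI := Fintype.ofFinite H
  set C := Subgroup.centralizer ({i} : Set H) with hCdef
  have hCP : C ≤ P := fun g hg => hC g (Subgroup.mem_centralizer_singleton_iff.1 hg)
  have horb : Nat.card {g : H // IsConj i g} = 6 := by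
    have h2 : ({1, z} : Finset H) ⊆ univ.filter fun a => a ∈ P := fun a ha => by
      rcases mem_insert.1 ha with rfl | ha
      · exact mem_filter.2 ⟨mem_univ _, one_mem _⟩
      · exact mem_filter.2 ⟨mem_univ _, mem_singleton.1 ha ▸ hzP⟩
    rw [Nat.card_eq_fintype_card, Fintype.card_subtype,
      show (univ.filter fun g => IsConj i g) = (univ.filter fun a => a ∈ P) \ {1, z} from ?_,
      card_sdiff_of_subset h2, card_pair hz.symm,
      show (univ.filter fun a => a ∈ P).card = 8 by
        rw [← Fintype.card_subtype, ← Nat.card_eq_fintype_card, hP]]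
    ext g
    simp only [mem_filter, mem_univ, true_and, mem_sdiff, mem_insert, mem_singleton, not_or]
    refine ⟨fun hg => ⟨?_, fun e => ?_, fun e => ?_⟩, fun ⟨hg, h1, h2⟩ =>
      ((hconj g hg).resolve_left h1).resolve_left h2⟩
    · obtain ⟨c, rfl⟩ := isConj_iff.1 hg
      exact Subgroup.Normal.conj_mem inferInstance _ hiP c
    · obtain ⟨c, hc⟩ := isConj_iff.1 hg
      rw [e] at hc
      exact hi1 (conj_eq_one_iff.1 hc)
    · obtain ⟨c, hc⟩ := isConj_iff.1 hg.symm
      rw [e, hzc, mul_inv_cancel_right] at hc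
      exact hiz hc.symm
  have hH : Nat.card H = 24 := by
    rw [← card_conj_mul_centralizer i, horb, ← hCdef, hC4]
  have h3 : P.index = 3 := by
    have := Subgroup.card_mul_index P
    rw [hP, hH] at this
    omega
  -- centralizers of the three kinds of elements
  let f : H → ℕ := fun a => ((univ : Finset H).filter fun b => Commute a b).card
  have hf : ∀ a, f a = Nat.card (Subgroup.centralizer ({a} : Set H)) := fun a => by
    show ((univ : Finset H).filter fun b => Commute a b).card = _
    rw [← Fintype.card_subtype, ← Nat.card_eq_fintype_card]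
    exact Nat.card_congr (Equiv.subtypeEquivRight fun b => by
      rw [Subgroup.mem_centralizer_singleton_iff, commute_iff_eq, eq_comm])
  have hfZ : ∀ a, (a = 1 ∨ a = z) → f a = 24 := fun a ha => by
    rw [hf, ← hH]
    refine (Nat.card_congr (Equiv.subtypeUnivEquiv fun b => ?_))
    rw [Subgroup.mem_centralizer_singleton_iff]
    rcases ha with rfl | rfl
    · rw [one_mul, mul_one]
    · exact hzc b
  have hfP : ∀ a ∈ P, a ≠ 1 → a ≠ z → f a = 4 := fun a ha h1 h2 => by
    have hc := ((hconj a ha).resolve_left h1).resolve_left h2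
    have e := card_conj_mul_centralizer a
    rw [show Nat.card {g : H // IsConj a g} = Nat.card {g : H // IsConj i g} from
      Nat.card_congr (Equiv.subtypeEquivRight fun g => ⟨fun h => hc.trans h, fun h => hc.symm.trans h⟩),
      horb, ← card_conj_mul_centralizer i, horb, ← hCdef, hC4] at e
    rw [hf]; omega
  have hfout : ∀ a, a ∉ P → f a = 6 := fun a ha => by
    rw [hf]
    set D := Subgroup.centralizer ({a} : Set H) with hD
    have hDP : D ⊓ P = (Subgroup.zpowers z) := by
      refine le_antisymm (fun p hp => ?_) ((Subgroup.zpowers_le).2 ⟨?_, hzP⟩)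
      · obtain ⟨hpD, hpP⟩ := Subgroup.mem_inf.1 hp
        rcases hconj p hpP with rfl | rfl | hc
        · exact one_mem _
        · exact Subgroup.mem_zpowers _
        · exfalso
          obtain ⟨y, rfl⟩ := isConj_iff.1 hc
          have hcomm := Subgroup.mem_centralizer_singleton_iff.1 hpD
          have h4 : y⁻¹ * a * y ∈ P := hC _ (by
            calc y⁻¹ * a * y * i = y⁻¹ * (a * (y * i * y⁻¹)) * y := by group
              _ = y⁻¹ * (y * i * y⁻¹ * a) * y := by rw [hcomm]
              _ = i * (y⁻¹ * a * y) := by group)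
          have h5 := Subgroup.Normal.conj_mem (H := P) inferInstance _ h4 y
          exact ha (by simpa [mul_assoc] using h5)
      · exact Subgroup.mem_centralizer_singleton_iff.2 (hzc a).symm
    have hz2 : z * z = 1 := by
      rcases hconj (z * z) (mul_mem hzP hzP) with e | e | e
      · exact e
      · exact absurd (mul_eq_left.1 e) hz
      · exfalso
        obtain ⟨y, hy⟩ := isConj_iff.1 e
        have h4 : i = z * z := by
          calc i = y⁻¹ * (y * i * y⁻¹) * y := by group
            _ = y⁻¹ * (z * z) * y := by rw [hy]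
            _ = (y⁻¹ * z) * z * y := by group
            _ = z * z := by rw [hzc y⁻¹, mul_assoc z, hzc y⁻¹]; group
        have h7 : Nat.card (Subgroup.centralizer ({i} : Set H)) = Nat.card H :=
          Nat.card_congr (Equiv.subtypeUnivEquiv fun b => by
            rw [Subgroup.mem_centralizer_singleton_iff, h4, ← mul_assoc, hzc b, mul_assoc, hzc b,
              mul_assoc])
        rw [← hCdef, hC4, hH] at h7
        omega
    have hz2' : Nat.card (Subgroup.zpowers z) = 2 := by
      rw [Nat.card_zpowers]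
      exact orderOf_eq_prime (by rw [sq, hz2]) hz
    have hmul := Subgroup.card_mul_index (P.subgroupOf D)
    rw [Nat.card_congr (Subgroup.subgroupOfEquivOfLe (inf_le_right (a := P) (b := D))).toEquiv.symm.symm
      |>.symm.trans (Nat.card_congr (MulEquiv.subgroupCongr (Subgroup.inf_subgroupOf_right P D)).toEquiv)
      |>.symm, inf_comm, hDP, hz2'] at hmul
    have hd : P.relIndex D ∣ 3 := h3 ▸ Subgroup.relIndex_dvd_index_of_normal P D
    have hne : P.relIndex D ≠ 1 := fun e =>
      ha ((Subgroup.relIndex_eq_one.1 e) (Subgroup.mem_centralizer_singleton_iff.2 rfl))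
    have h33 := ((Nat.dvd_prime Nat.prime_three).1 hd).resolve_left hne
    rw [← hmul]
    show 2 * P.relIndex D = 6
    rw [h33]
  have hcP : ((univ : Finset H).filter fun a => a ∈ P).card = 8 := by
    rw [← Fintype.card_subtype, ← Nat.card_eq_fintype_card, hP]
  have hout : ((univ : Finset H).filter fun a => a ∉ P).card = 16 := by
    have h1 := card_filter_add_card_filter_not (s := (univ : Finset H)) (fun x => x ∈ P)
    rw [hcP, card_univ, ← Nat.card_eq_fintype_card, hH] at h1
    omega
  have hsum : ∑ a : H, f a = 7 * 24 := by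
    rw [← sum_filter_add_sum_filter_not univ (fun a => a ∈ P),
      sum_congr rfl (fun a ha => hfout a (mem_filter.1 ha).2) (s₁ := univ.filter fun a => a ∉ P),
      sum_const, hout]
    have h2 : ({1, z} : Finset H) ⊆ univ.filter fun a => a ∈ P := fun a ha => by
      rcases mem_insert.1 ha with rfl | ha
      · exact mem_filter.2 ⟨mem_univ _, one_mem _⟩
      · exact mem_filter.2 ⟨mem_univ _, mem_singleton.1 ha ▸ hzP⟩
    rw [← sum_sdiff h2,
      sum_congr rfl (fun a ha => hfP a (mem_filter.1 (mem_sdiff.1 ha).1).2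
        (fun e => (mem_sdiff.1 ha).2 (by simp [e])) (fun e => (mem_sdiff.1 ha).2 (by simp [e])))
        (s₁ := (univ.filter fun a => a ∈ P) \ {1, z}),
      sum_congr rfl (fun a ha => hfZ a (by simpa using ha)) (s₁ := ({1, z} : Finset H)),
      sum_const, sum_const, card_sdiff_of_subset h2, hcP, card_pair hz.symm]
    rfl
  have hk : Nat.card (ConjClasses H) = 7 := by
    have key := card_comm_eq_card_conjClasses_mul_card H
    rw [show Nat.card {p : H × H // Commute p.1 p.2} = ∑ a : H, f a by
      rw [Nat.card_eq_fintype_card, Fintype.card_subtype, card_filter, Fintype.sum_prod_type]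
      exact sum_congr rfl fun a _ => (card_filter _ _).symm, hsum, hH] at key
    omega
  -- degrees
  haveI := Fintype.ofFinite P
  haveI : Fact (Nat.Prime 2) := ⟨Nat.prime_two⟩
  have hidx : (C.subgroupOf P).index = 2 := by
    have := Subgroup.card_mul_index (C.subgroupOf P)
    rw [Nat.card_congr (Subgroup.subgroupOfEquivOfLe hCP).toEquiv, hP, hC4] at this
    omega
  have hab : ∀ a ∈ C.subgroupOf P, ∀ b ∈ C.subgroupOf P, a * b = b * a := by
    intro a ha b hb
    have h4 : IsMulCommutative C := IsPGroup.isMulCommutative_of_card_eq_prime_sq (p := 2)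
      (by rw [hC4]; norm_num)
    exact Subtype.ext (congrArg (fun x : C => (x : H))
      (h4.is_comm.comm (⟨(a : H), ha⟩ : C) ⟨(b : H), hb⟩))
  have hle : ∀ χ : IrrCharacter H, charDegree (χ : H → ℂ) ≤ 3 := by
    intro χ
    obtain ⟨θ, hθ⟩ := Cfsg.Agent.Char.IsChar.exists_constituent'
      (Cfsg.Agent.Char.IsChar.res (Cfsg.Agent.Char.IsIrr.isCharacter χ.2) P)
      (show (χ : H → ℂ) ((1 : P) : H) ≠ 0 from Cfsg.Agent.Char.IsIrr.one_ne_zero χ.2)
    obtain ⟨e, he, hedvd⟩ := Cfsg.Agent.Char.Ext.ratio_dvd_index' χ.2 θ.2 hθ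
    rw [charDeg_spec' χ, charDeg_spec' θ, ← Nat.cast_mul, Nat.cast_inj] at he
    have h2 := degree_le_two (C.subgroupOf P) hab hidx θ.2 (charDeg_spec' θ)
    have hsq : charDegree (χ : H → ℂ) ^ 2 ≤ 24 := by
      rw [← hH, ← sum_charDegree_sq H]
      exact single_le_sum (f := fun ψ : IrrCharacter H => charDegree (ψ : H → ℂ) ^ 2)
        (fun _ _ => Nat.zero_le _) (mem_univ χ)
    rw [h3] at hedvd
    rw [he] at hsq ⊢
    have hpos := charDeg_pos θ
    rcases (Nat.dvd_prime Nat.prime_three).1 hedvd with rfl | rfl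
    · omega
    · interval_cases charDegree (θ : P → ℂ) <;> omega
  obtain ⟨a, b, c, ha, h1, h2, h, -⟩ := irrCount_odd hle
  rw [hk] at h1
  rw [hH] at h2
  rw [h]
  omega

end Cfsg.Agent.Block.SL2Char
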