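import Mathlib
import Cfsg.Agent.Lib.Block.SL2Char.SLTori
import Cfsg.Agent.Lib.Block.SL2Char.Tetra

/-!
The normalizer of a Sylow `2`-subgroup of `SL(2, q)`, `q` odd, has four characters of odd degree.
-/

set_option linter.unusedSectionVars false

namespace Cfsg.Agent.Block.SL2Char

open Matrix Finset
open Cfsg.Agent.Block

universe u w

variable {F : Type u} [Field F] [Fintype F] [DecidableEq F]

local notation "SS" => Matrix.SpecialLinearGroup (Fin 2) F

/-- An element of order three permuting two anticommuting square roots of `-1` and their product. -/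
theorem exists_triality (hodd : Odd (Fintype.card F)) {i j : SS} (hi : i * i = -1) (hj : j * j = -1)
    (hji : j * i = -(i * j)) :
    ∃ x : SS, x * i * x⁻¹ = i * j ∧ x * j * x⁻¹ = i := by
  have h2 : (2 : F) ≠ 0 := two_ne_zero_of_odd hodd
  set I : Matrix (Fin 2) (Fin 2) F := (i : Matrix (Fin 2) (Fin 2) F) with hIdef
  set J : Matrix (Fin 2) (Fin 2) F := (j : Matrix (Fin 2) (Fin 2) F) with hJdef
  have hII : I * I = -1 := by
    have := congrArg (fun s : SS => (s : Matrix (Fin 2) (Fin 2) F)) hi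
    simpa using this
  have hJJ : J * J = -1 := by
    have := congrArg (fun s : SS => (s : Matrix (Fin 2) (Fin 2) F)) hj
    simpa using this
  have hJI : J * I = -(I * J) := by
    have := congrArg (fun s : SS => (s : Matrix (Fin 2) (Fin 2) F)) hji
    simpa using this
  have e1 : I * (I * J) = -J := by rw [← mul_assoc, hII, neg_one_mul]
  have e2 : J * (I * J) = I := by
    rw [← mul_assoc, hJI, neg_mul, mul_assoc, hJJ, mul_neg_one, neg_neg]
  have e3 : I * J * I = J := by rw [mul_assoc, hJI, mul_neg, e1, neg_neg]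
  have e4 : I * J * J = -I := by rw [mul_assoc, hJJ, mul_neg_one]
  have e5 : I * J * (I * J) = -1 := by rw [← mul_assoc, e3, hJJ]
  set Y : Matrix (Fin 2) (Fin 2) F := -1 + I + J + I * J with hY
  have hYY : Y * Y = -(Y + Y) - (1 + 1 + 1 + 1) := by
    simp only [hY, mul_add, add_mul, neg_mul, mul_neg, one_mul, mul_one, hII, hJJ, hJI, e1, e2, e3,
      e4, e5]
    abel
  have hYI : Y * I = I * J * Y := by
    simp only [hY, mul_add, add_mul, neg_mul, mul_neg, one_mul, mul_one, hII, hJJ, hJI, e1, e2, e3,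
      e4, e5]
    abel
  have hYJ : Y * J = I * Y := by
    simp only [hY, mul_add, add_mul, neg_mul, mul_neg, one_mul, mul_one, hII, hJJ, hJI, e1, e2, e3,
      e4, e5]
    abel
  set X : Matrix (Fin 2) (Fin 2) F := (2 : F)⁻¹ • Y with hX
  have hXX : X * X + X + 1 = 0 := by
    rw [hX, smul_mul_smul_comm, hYY]
    match_scalars <;> field_simp <;> ring
  have hXI : X * I = I * J * X := by rw [hX, smul_mul_assoc, hYI, mul_smul_comm]
  have hXJ : X * J = I * X := by rw [hX, smul_mul_assoc, hYJ, mul_smul_comm]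
  have hCH : X * X = X.trace • X - X.det • (1 : Matrix (Fin 2) (Fin 2) F) := by
    rw [trace_fin_two, det_fin_two]
    ext a b
    fin_cases a <;> fin_cases b <;> simp [Matrix.mul_apply, Fin.sum_univ_two] <;> ring
  have hdet : X.det = 1 := by
    have hlin : (X.trace + 1) • X + (1 - X.det) • (1 : Matrix (Fin 2) (Fin 2) F) = 0 := by
      rw [← hXX, hCH]
      module
    by_cases ht : X.trace + 1 = 0
    · rw [ht, zero_smul, zero_add] at hlin
      have := congrFun (congrFun hlin 0) 0
      simp at this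
      exact (sub_eq_zero.1 this).symm
    · exfalso
      set r : F := -(X.trace + 1)⁻¹ * (1 - X.det) with hr
      have hXr : X = r • (1 : Matrix (Fin 2) (Fin 2) F) := by
        have := congrArg ((X.trace + 1)⁻¹ • ·) hlin
        simp only [smul_add, smul_smul, inv_mul_cancel₀ ht, one_smul, smul_zero] at this
        rw [eq_neg_of_add_eq_zero_left this, hr, neg_mul, neg_smul]
      have hr0 : r ≠ 0 := fun e => by
        rw [hXr, e, zero_smul, zero_mul, zero_add, zero_add] at hXX
        exact one_ne_zero hXX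
      rw [hXr, smul_mul_assoc, one_mul, mul_smul_comm, mul_one] at hXI
      have h3 : I = I * J := smul_right_injective _ hr0 hXI
      have h4 := congrArg (I * ·) h3
      rw [hII, e1, neg_inj] at h4
      rw [← h4, one_mul] at hJJ
      have h5 := congrFun (congrFun hJJ 0) 0
      simp at h5
      exact h2 (by linear_combination h5)
  obtain ⟨x, hx⟩ : ∃ x : SS, (x : Matrix (Fin 2) (Fin 2) F) = X := ⟨⟨X, hdet⟩, rfl⟩
  refine ⟨x, ?_, ?_⟩ <;> rw [mul_inv_eq_iff_eq_mul]
  · exact Subtype.ext (by simpa [hx] using hXI)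
  · exact Subtype.ext (by simpa [hx] using hXJ)

namespace IsTorus

variable {A : Type w} [CommGroup A] [IsCyclic A] [Finite A]
  {φ : A →* Matrix.SpecialLinearGroup (Fin 2) F} {m : ℕ}

theorem mckay_two (h : IsTorus φ m) (hodd : Odd (Fintype.card F)) (hm : 2 ∣ m)
    (hv : (Nat.card SS).factorization 2 = (2 * m).factorization 2 + 1) (S : Sylow 2 SS) :
    irrCount (Subgroup.normalizer ((S : Subgroup SS) : Set SS)) (fun d => ¬ 2 ∣ d) = 4 := by
  classical
  haveI : Fact (Nat.Prime 2) := ⟨Nat.prime_two⟩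
  have hm0 : m ≠ 0 := by have := h.two_le; omega
  set a := (2 * m).factorization 2 with ha
  have ha2 : 2 ≤ a := (Nat.Prime.pow_dvd_iff_le_factorization Nat.prime_two (by omega)).1 (by
    obtain ⟨c, rfl⟩ := hm
    exact ⟨c, by ring⟩)
  obtain ⟨b, hb⟩ : ∃ b, a = b + 2 := ⟨a - 2, by omega⟩
  set R : Subgroup SS := φ.range with hR
  set NT : Subgroup SS := Subgroup.normalizer (R : Set SS) with hNT
  obtain ⟨P₀⟩ := (inferInstance : Nonempty (Sylow 2 NT))
  set P : Subgroup SS := (P₀ : Subgroup NT).map NT.subtype with hPdef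
  have hPN : P ≤ NT := Subgroup.map_subtype_le _
  have hcP : Nat.card P = 2 ^ (a + 1) := by
    rw [hPdef, Subgroup.card_map_of_injective (Subgroup.subtype_injective _),
      Sylow.card_eq_multiplicity, h.card_normalizer, Nat.factorization_mul two_ne_zero (by omega),
      Finsupp.add_apply, Nat.Prime.factorization_self Nat.prime_two, ← ha, add_comm]
  have hP' : Nat.card P = 2 ^ (Nat.card SS).factorization 2 := by rw [hcP, hv]
  rw [irrCount_normalizer S P hP']
  -- the index two cyclic part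
  obtain ⟨hidxN, -, -, -⟩ := h.normalizer_facts
  set Q : Subgroup A := P.comap φ with hQ
  have hQcard : Nat.card Q = Nat.card (R.subgroupOf P) := by
    refine Nat.card_congr (Equiv.ofBijective (fun x => ⟨⟨φ x.1, x.2⟩, ⟨x.1, rfl⟩⟩) ⟨?_, ?_⟩)
    · intro x y e
      exact Subtype.ext (h.inj (congrArg (fun t : R.subgroupOf P => ((t : P) : SS)) e))
    · rintro ⟨⟨g, hg⟩, hgR⟩
      obtain ⟨x, hx⟩ := hgR
      exact ⟨⟨x, show φ x ∈ P by rw [hx]; exact hg⟩, Subtype.ext (Subtype.ext hx)⟩
  have hnot : ¬ P ≤ R := fun hle => by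
    have h1 := Subgroup.card_dvd_of_le hle
    rw [hcP, h.card_range, Nat.Prime.pow_dvd_iff_le_factorization Nat.prime_two (by omega), ← ha] at h1
    omega
  have hout2 : ∀ p q : SS, p ∈ NT → q ∈ NT → p ∉ R → q ∉ R → p * q ∈ R := fun p q hp hq hpR hqR =>
    (Subgroup.mul_mem_iff_of_index_two (a := (⟨p, hp⟩ : NT)) (b := ⟨q, hq⟩) hidxN).2
      (iff_of_false hpR hqR)
  obtain ⟨w, hwP, hwR⟩ := SetLike.not_le_iff_exists.1 hnot
  have hidx : (R.subgroupOf P).index = 2 := by
    refine Subgroup.index_eq_two_iff.2 ⟨⟨w, hwP⟩, fun p => ?_⟩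
    simp only [Subgroup.mem_subgroupOf, Subgroup.coe_mul]
    by_cases hp : (p : SS) ∈ R
    · exact Or.inr ⟨hp, fun hpw => hwR ((Subgroup.mul_mem_cancel_left _ hp).1 hpw)⟩
    · exact Or.inl ⟨hout2 _ _ (hPN p.2) (hPN hwP) hp hwR, hp⟩
  have hcR : Nat.card (R.subgroupOf P) = 2 ^ a := by
    have := Subgroup.card_mul_index (R.subgroupOf P)
    rw [hidx, hcP, pow_succ] at this
    exact Nat.eq_of_mul_eq_mul_right two_pos this
  rw [hcR] at hQcard
  have hmemQ : ∀ x : A, φ x ∈ P ↔ x ^ 2 ^ a = 1 := by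
    have hle : Q ≤ (powMonoidHom (2 ^ a) : A →* A).ker := fun x hx => by
      have := pow_card_eq_one' (x := (⟨x, hx⟩ : Q))
      rw [hQcard] at this
      exact congrArg Subtype.val this
    have he := Subgroup.eq_of_le_of_card_ge hle (by
      rw [IsCyclic.card_powMonoidHom_ker, h.card, hQcard]
      exact Nat.le_of_dvd (Nat.two_pow_pos a) (Nat.gcd_dvd_right _ _))
    intro x
    show x ∈ Q ↔ _
    rw [he]
    rfl
  have hsqQ : ∀ x : A, φ (x * x) ∈ P → φ x ∈ P := fun x hx => by
    rw [hmemQ] at hx ⊢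
    rw [← sq, ← pow_mul, ← pow_succ', ← orderOf_dvd_iff_pow_eq_one] at hx
    rw [← orderOf_dvd_iff_pow_eq_one]
    obtain ⟨j, hj, hj'⟩ := (Nat.dvd_prime_pow Nat.prime_two).1 hx
    rw [hj']
    refine Nat.pow_dvd_pow 2 ((Nat.Prime.pow_dvd_iff_le_factorization Nat.prime_two (by omega)).1 ?_)
    rw [← hj', ← h.card]
    exact orderOf_dvd_natCard x
  have hinvP : ∀ p ∈ P, p ∉ R → ∀ x, p * φ x * p⁻¹ = φ x⁻¹ := fun p hp hpR =>
    (((h.mem_normalizer_iff).1 (hPN hp)).resolve_left hpR).2
  -- the normalizer of `P` meets the torus in `P`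
  have hNR : ∀ g ∈ Subgroup.normalizer (P : Set SS), g ∈ R → g ∈ P := by
    rintro g hg ⟨x, rfl⟩
    refine hsqQ x ?_
    have h1 := mul_mem ((Subgroup.mem_normalizer_iff.1 hg w).1 hwP) (inv_mem hwP)
    have h2 := hinvP w hwP hwR x⁻¹
    rw [inv_inv] at h2
    rw [map_mul]
    convert h1 using 1
    calc φ x * φ x = φ x * (w * φ x⁻¹ * w⁻¹) := by rw [h2]
      _ = φ x * w * (φ x)⁻¹ * w⁻¹ := by rw [map_inv]; group
  -- a generator of the cyclic part
  haveI : IsCyclic Q := inferInstance
  obtain ⟨⟨e, heQ⟩, he⟩ := IsCyclic.exists_ofOrder_eq_natCard (α := Q)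
  rw [hQcard, Subgroup.orderOf_mk] at he
  have heP : φ e ∈ P := heQ
  have hee : e * e ≠ 1 := fun e1 => by
    have h1 := orderOf_dvd_iff_pow_eq_one.2 (show e ^ 2 = 1 by rw [sq, e1])
    rw [he, hb] at h1
    have := Nat.le_of_dvd two_pos h1
    rw [pow_add] at this
    have := Nat.two_pow_pos b
    omega
  by_cases hb0 : b = 0
  swap
  · -- the normalizer is `P`
    have hN : Subgroup.normalizer (P : Set SS) = P := by
      refine le_antisymm (fun g hg => ?_) Subgroup.le_normalizer
      have h1 := (Subgroup.mem_normalizer_iff.1 hg _).1 heP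
      have hR1 : g * φ e * g⁻¹ ∈ R := by
        by_contra hn
        have h2 := h.sq_eq_neg_one hodd (hPN h1) hn
        have h4 : (g * φ e * g⁻¹) ^ 4 = 1 := by
          rw [show 4 = 2 * 2 from rfl, pow_mul, sq, sq, h2, neg_mul_neg, one_mul]
        have h5 : e ^ 4 = 1 := h.inj (by
          rw [map_pow, map_one, ← mul_left_cancel_iff (a := g), ← mul_right_cancel_iff (a := g⁻¹),
            ← conj_pow, h4, mul_one, mul_inv_cancel])
        have h6 := orderOf_dvd_iff_pow_eq_one.2 h5
        rw [he, hb, show 4 = 2 ^ 2 from rfl, Nat.pow_dvd_pow_iff_le_right (by norm_num)] at h6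
        omega
      rcases h.mem_or_inverts hee hR1 with hgR | ⟨hgR, hgi⟩
      · exact hNR g hg hgR
      · have hgN : g ∈ NT := (h.mem_normalizer_iff).2 (Or.inr ⟨hgR, hgi⟩)
        have hgw := hNR _ (mul_mem hg (Subgroup.le_normalizer hwP))
          (hout2 g w hgN (hPN hwP) hgR hwR)
        exact (Subgroup.mul_mem_cancel_right P hwP).1 hgw
    haveI : IsCyclic (R.subgroupOf P) := by
      let f : Q →* R.subgroupOf P :=
        { toFun := fun x => ⟨⟨φ x.1, x.2⟩, ⟨x.1, rfl⟩⟩
          map_one' := Subtype.ext (Subtype.ext (map_one φ))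
          map_mul' := fun x y => Subtype.ext (Subtype.ext (map_mul φ _ _)) }
      refine isCyclic_of_surjective f ?_
      rintro ⟨⟨g, hg⟩, hgR⟩
      obtain ⟨x, hx⟩ := hgR
      exact ⟨⟨x, show φ x ∈ P by rw [hx]; exact hg⟩, Subtype.ext (Subtype.ext hx)⟩
    have hab : ∀ x ∈ R.subgroupOf P, ∀ y ∈ R.subgroupOf P, x * y = y * x := by
      rintro x ⟨s, hs⟩ y ⟨t, ht⟩
      refine Subtype.ext ?_
      show (x : SS) * (y : SS) = (y : SS) * (x : SS)
      rw [show (x : SS) = φ s from hs.symm, show (y : SS) = φ t from ht.symm, ← map_mul, ← map_mul,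
        mul_comm]
    have hk : Nat.card (ConjClasses P) = 2 ^ (b + 1) + 3 :=
      dicyclic_classes (R.subgroupOf P) hidx (fun p hp t ht => by
        obtain ⟨x, hx⟩ := ht
        refine Subtype.ext ?_
        show (p : SS) * (t : SS) * (p : SS)⁻¹ = (t : SS)⁻¹
        rw [show (t : SS) = φ x from hx.symm, hinvP p p.2 hp, map_inv])
        (by rw [hcR, hb, pow_succ' 2 (b + 1)])
    rw [irrCount_congr (MulEquiv.subgroupCongr hN)]
    haveI := Fintype.ofFinite P
    have hle : ∀ χ : IrrCharacter P, charDegree (χ : P → ℂ) ≤ 2 := fun χ =>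
      degree_le_two (R.subgroupOf P) hab hidx χ.2 (charDeg_spec' χ)
    obtain ⟨x, y, z, hx, h1, h2, h3, h4⟩ := irrCount_odd fun χ => (hle χ).trans (by norm_num)
    have hz : z = 0 := by
      by_contra hz
      obtain ⟨χ, hχ⟩ := h4 hz
      have := hle χ; omega
    rw [hk] at h1
    rw [hcP, hb, show b + 2 + 1 = (b + 1) + 2 from rfl, pow_add] at h2
    rw [h3]
    omega
  -- the quaternion case
  subst hb0
  have he4 : orderOf e = 4 := by rw [he, hb]; norm_num
  set i := φ e with hidef
  have hord : orderOf i = 4 := by rw [hidef, orderOf_injective φ h.inj, he4]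
  have hi : i * i = -1 := by
    rcases neg_inj_sq hodd (s := i * i) (by
      rw [← sq, ← sq, ← pow_mul, show 2 * 2 = orderOf i by rw [hord], pow_orderOf_eq_one]) with e' | e'
    · exfalso
      have := orderOf_dvd_iff_pow_eq_one.2 (show i ^ 2 = 1 by rw [sq, e'])
      rw [hord] at this
      norm_num at this
    · exact e'
  have hmR : ∀ p ∈ P, p ∈ R → p = 1 ∨ p = i ∨ p = -1 ∨ p = -i := by
    rintro p hp ⟨x, rfl⟩
    have hx4 : x ^ 4 = 1 := by
      have := (hmemQ x).1 hp
      rwa [hb] at this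
    have hx : x ∈ Subgroup.zpowers e := by
      have hk : (powMonoidHom 4 : A →* A).ker = Subgroup.zpowers e := by
        refine (Subgroup.eq_of_le_of_card_ge (Subgroup.zpowers_le.2 ?_) ?_).symm
        · show e ^ 4 = 1
          rw [← he4, pow_orderOf_eq_one]
        · rw [IsCyclic.card_powMonoidHom_ker, Nat.card_zpowers, he4]
          exact Nat.le_of_dvd (by norm_num) (Nat.gcd_dvd_right _ _)
      rw [← hk]; exact hx4
    rw [← mem_powers_iff_mem_zpowers, Submonoid.mem_powers_iff] at hx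
    obtain ⟨n, rfl⟩ := hx
    rw [← pow_mod_orderOf, he4, map_pow, ← hidef]
    have := Nat.mod_lt n (show 4 > 0 by norm_num)
    interval_cases n % 4
    · left; exact pow_zero i
    · right; left; exact pow_one i
    · right; right; left; rw [sq, hi]
    · right; right; right; rw [pow_succ, sq, hi, neg_one_mul]
  have hneg : (-1 : SS) ≠ 1 := fun e' => by
    rw [e'] at hi
    have := orderOf_dvd_iff_pow_eq_one.2 (show i ^ 2 = 1 by rw [sq, hi])
    rw [hord] at this
    norm_num at this
  have hw : w * w = -1 := h.sq_eq_neg_one hodd (hPN hwP) hwR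
  have hiinv : i⁻¹ = -i := inv_eq_of_mul_eq_one_right (by rw [mul_neg, hi, neg_neg])
  have hwi : w * i = -(i * w) := by
    have := hinvP w hwP hwR e
    rw [map_inv, ← hidef, hiinv, mul_inv_eq_iff_eq_mul, neg_mul] at this
    exact this
  obtain ⟨x, hx1, hx2⟩ := exists_triality hodd hi hw hwi
  have hcases : ∀ p ∈ P, p = 1 ∨ p = -1 ∨ p = i ∨ p = -i ∨ p = w ∨ p = -w ∨ p = i * w ∨ p = -(i * w) := by
    intro p hp
    by_cases hpR : p ∈ R
    · rcases hmR p hp hpR with e' | e' | e' | e'
      · left; exact e'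
      · right; right; left; exact e'
      · right; left; exact e'
      · right; right; right; left; exact e'
    · have h1 := hmR (p * w⁻¹) (mul_mem hp (inv_mem hwP))
        (hout2 p w⁻¹ (hPN hp) (hPN (inv_mem hwP)) hpR fun hh => hwR (inv_mem_iff.1 hh))
      simp only [mul_inv_eq_iff_eq_mul] at h1
      rcases h1 with e' | e' | e' | e'
      · right; right; right; right; left; rw [e', one_mul]
      · right; right; right; right; right; right; left; exact e'
      · right; right; right; right; right; left; rw [e', neg_one_mul]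
      · right; right; right; right; right; right; right; rw [e', neg_mul]
  have hnegP : (-1 : SS) ∈ P := hi ▸ mul_mem heP heP
  have hiwP : i * w ∈ P := mul_mem heP hwP
  have hxP : ∀ p ∈ P, x * p * x⁻¹ ∈ P := by
    have key : ∀ p, x * p * x⁻¹ ∈ P → x * (-p) * x⁻¹ ∈ P := fun p hp => by
      rw [mul_neg, neg_mul, ← neg_one_mul]
      exact mul_mem hnegP hp
    intro p hp
    have h1 : x * (1 : SS) * x⁻¹ ∈ P := by rw [mul_one, mul_inv_cancel]; exact one_mem _
    have hx3 : x * (i * w) * x⁻¹ ∈ P := by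
      rw [show x * (i * w) * x⁻¹ = x * i * x⁻¹ * (x * w * x⁻¹) by group, hx1, hx2]
      exact mul_mem hiwP heP
    have hxi : x * i * x⁻¹ ∈ P := hx1 ▸ hiwP
    have hxw : x * w * x⁻¹ ∈ P := hx2 ▸ heP
    rcases hcases p hp with rfl | rfl | rfl | rfl | rfl | rfl | rfl | rfl
    exacts [h1, key _ h1, hxi, key _ hxi, hxw, key _ hxw, hx3, key _ hx3]
  have hxN : x ∈ Subgroup.normalizer (P : Set SS) := by
    have hfin : P.map (MulAut.conj x).toMonoidHom = P := by
      refine Subgroup.eq_of_le_of_card_ge ?_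
        (Subgroup.card_map_of_injective (MulEquiv.injective _)).ge
      rintro _ ⟨p, hp, rfl⟩
      exact hxP p hp
    refine Subgroup.mem_normalizer_iff.2 fun p => ⟨hxP p, fun hp => ?_⟩
    rw [← hfin] at hp
    obtain ⟨q, hq, hq'⟩ := hp
    rwa [show p = q from mul_left_cancel (mul_right_cancel hq'.symm)]
  set N := Subgroup.normalizer (P : Set SS) with hNdef
  have hPle : P ≤ N := Subgroup.le_normalizer
  set iN : N := ⟨i, hPle heP⟩ with hiN
  have hconjN : ∀ (g : SS) (hg : g ∈ N) (p : SS) (hp : p ∈ N), g * i * g⁻¹ = p →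
      IsConj iN ⟨p, hp⟩ := fun g hg p hp e' => isConj_iff.2 ⟨⟨g, hg⟩, Subtype.ext e'⟩
  have hcentral : ∀ g : SS, g * (-1) = (-1) * g := fun g => by rw [mul_neg, mul_one, neg_mul, one_mul]
  have hcomm : ∀ g ∈ N, g * i = i * g → g ∈ P := fun g hg hc => hNR g hg (h.cent e hee g hc)
  haveI : (P.subgroupOf N).Normal := Subgroup.normal_subgroupOf_iff_le_normalizer hPle |>.2 le_rfl
  refine tetra_facts (P.subgroupOf N) ?_ (z := ⟨-1, hPle hnegP⟩) (i := iN) ?_ hnegP ?_ ?_ ?_ heP ?_
    ?_ ?_
  · rw [Nat.card_congr (Subgroup.subgroupOfEquivOfLe hPle).toEquiv, hcP, hb]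
    norm_num
  · exact fun e' => hneg (congrArg Subtype.val e')
  · exact fun g => Subtype.ext (hcentral g)
  · exact fun e' => by
      rw [show i = 1 from congrArg Subtype.val e'] at hord
      rw [orderOf_one] at hord
      norm_num at hord
  · exact fun e' => by
      rw [show i = -1 from congrArg Subtype.val e', neg_mul_neg, one_mul] at hi
      exact hneg hi.symm
  · rintro ⟨p, hpN⟩ hp
    have hwN := hPle hwP
    have hiiN := hPle heP
    have hneg' : ∀ g : SS, ∀ q : SS, g * i * g⁻¹ = q → g * w * i * (g * w)⁻¹ = -q := fun g q hq => by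
      rw [show g * w * i * (g * w)⁻¹ = g * (w * i * w⁻¹) * g⁻¹ by group, hwi, neg_mul,
        mul_inv_cancel_right, mul_neg, neg_mul, hq]
    have g0 : (1 : SS) * i * 1⁻¹ = i := by group
    have gw : x⁻¹ * i * x⁻¹⁻¹ = w := by rw [← hx2]; group
    rcases hcases p hp with rfl | rfl | rfl | rfl | rfl | rfl | rfl | rfl
    · exact Or.inl rfl
    · exact Or.inr (Or.inl rfl)
    all_goals refine Or.inr (Or.inr ?_)
    · exact IsConj.refl _
    · exact hconjN _ (mul_mem (one_mem N) hwN) _ hpN (hneg' 1 _ g0)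
    · exact hconjN _ (inv_mem hxN) _ hpN gw
    · exact hconjN _ (mul_mem (inv_mem hxN) hwN) _ hpN (hneg' x⁻¹ _ gw)
    · exact hconjN _ hxN _ hpN hx1
    · exact hconjN _ (mul_mem hxN hwN) _ hpN (hneg' x _ hx1)
  · exact fun g hg => hcomm g g.2 (congrArg Subtype.val hg)
  · have h4 : Nat.card (R.subgroupOf P) = 4 := by rw [hcR, hb]; norm_num
    rw [← h4]
    refine Nat.card_congr (Equiv.ofBijective (fun g : Subgroup.centralizer ({iN} : Set N) =>
      (⟨⟨((g : N) : SS), hcomm _ g.1.2
        (congrArg Subtype.val (Subgroup.mem_centralizer_singleton_iff.1 g.2))⟩,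
        h.cent e hee _ (congrArg Subtype.val (Subgroup.mem_centralizer_singleton_iff.1 g.2))⟩ :
        R.subgroupOf P)) ⟨?_, ?_⟩)
    · intro g g' e'
      exact Subtype.ext (Subtype.ext (congrArg (fun t : R.subgroupOf P => ((t : P) : SS)) e'))
    · rintro ⟨⟨p, hp⟩, hpR⟩
      obtain ⟨t, ht⟩ := hpR
      refine ⟨⟨⟨p, hPle hp⟩, Subgroup.mem_centralizer_singleton_iff.2 (Subtype.ext ?_)⟩, rfl⟩
      show p * φ e = φ e * p
      rw [show p = φ t from ht.symm]
      rw [← map_mul, ← map_mul, mul_comm]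

end IsTorus

end Cfsg.Agent.Block.SL2Char
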