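import Mathlib
import Cfsg.Agent.Lib.Block.SL2Char.SLUnipotent
import Cfsg.Agent.Lib.Block.SL2Char.McKayBase
import Cfsg.Agent.Lib.Char.ExtendMain

/-!
The Borel subgroup of `SL(2, q)`: normalizer of the unipotent subgroup, class number, degrees.
-/

set_option linter.unusedSectionVars false

namespace Cfsg.Agent.Block.SL2Char

open Matrix Finset
open Cfsg.Agent.Block

universe u

variable {F : Type u} [Field F] [Fintype F] [DecidableEq F]

local notation "GG" => GL (Fin 2) F
local notation "SS" => Matrix.SpecialLinearGroup (Fin 2) F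
local notation "tg" => (Matrix.SpecialLinearGroup.toGL : SS →* GG)

/-- The upper triangular subgroup of `SL(2, F)`. -/
noncomputable def borelS : Subgroup SS := (Cfsg.upperTriangularGL 2 F).comap tg

theorem mem_borelS {g : SS} : g ∈ borelS ↔ (g : Matrix (Fin 2) (Fin 2) F) 1 0 = 0 := by
  rw [borelS, Subgroup.mem_comap, mem_BB]
  rfl

theorem uT_injective : Function.Injective (uT (F := F)) := fun a b h => by
  have := congrArg (fun s : SS => (s : Matrix (Fin 2) (Fin 2) F) 0 1) h
  exact Multiplicative.toAdd.injective this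

theorem card_uRange : Nat.card (uT (F := F)).range = Fintype.card F := by
  rw [← Nat.card_congr (MonoidHom.ofInjective uT_injective).toEquiv, Nat.card_eq_fintype_card,
    Fintype.card_multiplicative]

/-- Coordinates on the Borel subgroup. -/
noncomputable def borelEquiv : Fˣ × F ≃ borelS (F := F) where
  toFun p := ⟨⟨!![(p.1 : F), p.2; 0, ((p.1⁻¹ : Fˣ) : F)], by simp [det_fin_two]⟩,
    mem_borelS.2 (by simp)⟩
  invFun g := (Units.mk0 (((g : SS) : Matrix (Fin 2) (Fin 2) F) 0 0) (fun h => by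
      have h1 := (g : SS).2
      rw [det_fin_two, h, mem_borelS.1 g.2, zero_mul, mul_zero, sub_zero] at h1
      exact zero_ne_one h1), ((g : SS) : Matrix (Fin 2) (Fin 2) F) 0 1)
  left_inv p := by simp
  right_inv g := by
    refine Subtype.ext (Subtype.ext (Matrix.ext fun i j => ?_))
    have h1 := (g : SS).2
    rw [det_fin_two, mem_borelS.1 g.2, mul_zero, sub_zero] at h1
    fin_cases i <;> fin_cases j
    · simp
    · simp
    · simpa using (mem_borelS.1 g.2).symm
    · simp [(eq_inv_of_mul_eq_one_right h1).symm]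

theorem borelEquiv_val (p : Fˣ × F) :
    (((borelEquiv p : borelS (F := F)) : SS) : Matrix (Fin 2) (Fin 2) F) =
      !![(p.1 : F), p.2; 0, ((p.1⁻¹ : Fˣ) : F)] := rfl

theorem card_borelS : Nat.card (borelS (F := F)) = (Fintype.card F - 1) * Fintype.card F := by
  rw [← Nat.card_congr borelEquiv, Nat.card_eq_fintype_card, Fintype.card_prod,
    Fintype.card_units]

theorem commute_borel {p r : Fˣ × F} :
    Commute (borelEquiv p) (borelEquiv r) ↔
      (p.1 : F) * r.2 + p.2 * ((r.1⁻¹ : Fˣ) : F) = r.1 * p.2 + r.2 * ((p.1⁻¹ : Fˣ) : F) := by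
  rw [commute_iff_eq, ← Subtype.coe_inj, Subgroup.coe_mul, Subgroup.coe_mul,
    ← Matrix.SpecialLinearGroup.toGL_injective.eq_iff, Units.ext_iff, map_mul, map_mul,
    GeneralLinearGroup.coe_mul, GeneralLinearGroup.coe_mul]
  show !![(p.1 : F), p.2; 0, ((p.1⁻¹ : Fˣ) : F)] * !![(r.1 : F), r.2; 0, ((r.1⁻¹ : Fˣ) : F)] =
      !![(r.1 : F), r.2; 0, ((r.1⁻¹ : Fˣ) : F)] * !![(p.1 : F), p.2; 0, ((p.1⁻¹ : Fˣ) : F)] ↔ _
  simp only [Matrix.mul_fin_two, mul_zero, add_zero, zero_mul, zero_add]
  refine ⟨fun h => by simpa using congrFun (congrFun h 0) 1, fun h => ?_⟩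
  ext i j
  fin_cases i <;> fin_cases j <;> simp [mul_comm] <;>
    simp only [Units.val_inv_eq_inv_val] at h <;> linear_combination h

theorem borel_classes (hodd : Odd (Fintype.card F)) :
    Nat.card (ConjClasses (borelS (F := F))) = Fintype.card F + 3 := by
  classical
  set q := Fintype.card F with hq
  have h3 : 3 ≤ q := three_le_card hodd
  let R : Fˣ × F → Fˣ × F → Prop := fun p r =>
    (p.1 : F) * r.2 + p.2 * ((r.1⁻¹ : Fˣ) : F) = r.1 * p.2 + r.2 * ((p.1⁻¹ : Fˣ) : F)
  let f : Fˣ × F → ℕ := fun p => ((univ : Finset (Fˣ × F)).filter (R p)).card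
  have hreg : ∀ a, a ∉ Z2 F → ∀ b, f (a, b) = q - 1 := fun a ha b => by
    have hne : (a : F) - ((a⁻¹ : Fˣ) : F) ≠ 0 :=
      sub_ne_zero.2 fun e => (ne_inv_iff.2 ha) (Units.ext e)
    rw [hq, ← Fintype.card_units, ← card_univ]
    refine card_bij' (fun r _ => r.1) (fun c _ => (c, b * ((c : F) - ((c⁻¹ : Fˣ) : F)) /
      ((a : F) - ((a⁻¹ : Fˣ) : F)))) (fun _ _ => mem_univ _) (fun c _ => ?_) (fun r hr => ?_)
      (fun _ _ => rfl)
    · simp only [mem_filter, mem_univ, true_and, R]
      field_simp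
      ring
    · simp only [mem_filter, mem_univ, true_and, R] at hr
      refine Prod.ext rfl ?_
      show _ = r.2
      rw [div_eq_iff hne]
      linear_combination -hr
  have hinv : ∀ a ∈ Z2 F, ((a⁻¹ : Fˣ) : F) = (a : F) := fun a ha => by rw [inv_eq_of_mem_Z2 ha]
  have hzero : ∀ a ∈ Z2 F, f (a, 0) = (q - 1) * q := fun a ha => by
    rw [hq, ← Fintype.card_units, ← Fintype.card_prod, ← card_univ]
    refine congrArg card (filter_true_of_mem fun r _ => ?_)
    simp only [R, hinv a ha]; ring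
  have hne0 : ∀ a ∈ Z2 F, ∀ b, b ≠ 0 → f (a, b) = 2 * q := fun a ha b hb => by
    rw [hq, ← card_Z2_odd hodd, ← card_univ, ← card_product]
    refine congrArg card (Finset.ext fun r => ?_)
    simp only [mem_filter, mem_univ, true_and, and_true, mem_product, R, hinv a ha]
    refine ⟨fun h => mem_Z2.2 ?_, fun h => by rw [hinv r.1 h]; ring⟩
    have h1 : b * (((r.1⁻¹ : Fˣ) : F) - r.1) = 0 := by linear_combination h
    have h2 : (r.1⁻¹ : Fˣ) = r.1 := Units.ext (sub_eq_zero.1 ((mul_eq_zero.1 h1).resolve_left hb))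
    nth_rewrite 2 [← h2]
    exact mul_inv_cancel _
  have hinner : ∀ a, ∑ b : F, f (a, b) = if a ∈ Z2 F then 3 * ((q - 1) * q) else q * (q - 1) := by
    intro a
    split_ifs with ha
    · rw [← Finset.add_sum_erase univ _ (mem_univ (0 : F)), hzero a ha,
        sum_congr rfl (fun b hb => hne0 a ha b (mem_erase.1 hb).1), sum_const, card_erase_of_mem
        (mem_univ _), card_univ, smul_eq_mul]
      ring
    · rw [sum_congr rfl (fun b _ => hreg a ha b), sum_const, card_univ, smul_eq_mul]
  have hpairs : Nat.card {p : borelS (F := F) × borelS (F := F) // Commute p.1 p.2} =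
      ∑ p : Fˣ × F, f p := by
    rw [← Nat.card_congr ((borelEquiv.prodCongr borelEquiv).subtypeEquiv
      (p := fun p => R p.1 p.2) (fun p => commute_borel.symm))]
    rw [Nat.card_eq_fintype_card, Fintype.card_subtype, card_filter, Fintype.sum_prod_type]
    exact sum_congr rfl fun a _ => (card_filter _ _).symm
  have key := card_comm_eq_card_conjClasses_mul_card (borelS (F := F))
  rw [hpairs, Fintype.sum_prod_type, sum_congr rfl (fun a _ => hinner a), card_borelS, sum_ite,
    sum_const, sum_const, smul_eq_mul, smul_eq_mul,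
    show (univ.filter fun a => a ∈ Z2 F) = Z2 F by simp, card_Z2_odd hodd,
    show (univ.filter fun a => a ∉ Z2 F).card = q - 3 by
      rw [filter_not, show (univ.filter fun a => a ∈ Z2 F) = Z2 F by simp,
        card_sdiff, inter_univ, card_univ, Fintype.card_units, card_Z2_odd hodd]
      omega] at key
  have hpos : 0 < (q - 1) * q := Nat.mul_pos (by omega) (by omega)
  refine Nat.eq_of_mul_eq_mul_right hpos (key.symm.trans ?_)
  obtain ⟨k, hk⟩ : ∃ k, q = k + 3 := ⟨q - 3, by omega⟩
  rw [hk, Nat.add_sub_cancel, show k + 3 - 1 = k + 2 by omega]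
  ring

theorem normalizer_uRange :
    Subgroup.normalizer ((uT (F := F)).range : Set SS) = borelS := by
  ext g
  refine ⟨fun h => mem_borelS.2 ?_, fun h => ?_⟩
  · obtain ⟨t, ht⟩ := (Subgroup.mem_normalizer_iff.1 h _).1 ⟨Multiplicative.ofAdd (1 : F), rfl⟩
    rw [eq_mul_inv_iff_mul_eq] at ht
    have h1 := congrArg (fun s : SS => (s : Matrix (Fin 2) (Fin 2) F) 1 1) ht
    simp only [Matrix.SpecialLinearGroup.coe_mul] at h1
    rw [show t = Multiplicative.ofAdd t.toAdd from rfl, uT_val, uT_val] at h1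
    simpa [Matrix.mul_apply, Fin.sum_univ_two, eq_comm] using h1
  · have key : ∀ g ∈ borelS (F := F), ∀ x ∈ (uT (F := F)).range, g * x * g⁻¹ ∈ (uT (F := F)).range := by
      rintro g hg _ ⟨t, rfl⟩
      refine ⟨Multiplicative.ofAdd ((g : Matrix (Fin 2) (Fin 2) F) 0 0 ^ 2 * t.toAdd), ?_⟩
      rw [eq_mul_inv_iff_mul_eq]
      have h10 := mem_borelS.1 hg
      have hd := g.2
      rw [det_fin_two, h10, mul_zero, sub_zero] at hd
      refine Subtype.ext (Matrix.ext fun i j => ?_)
      rw [Matrix.SpecialLinearGroup.coe_mul, Matrix.SpecialLinearGroup.coe_mul, uT_val,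
        show t = Multiplicative.ofAdd t.toAdd from rfl, uT_val, toAdd_ofAdd]
      fin_cases i <;> fin_cases j <;>
        simp [Matrix.mul_apply, Fin.sum_univ_two, h10]
      linear_combination ((g : Matrix (Fin 2) (Fin 2) F) 0 0 * t.toAdd) * hd
    refine Subgroup.mem_normalizer_iff.2 fun x => ⟨key g h x, fun hx => ?_⟩
    have := key g⁻¹ (inv_mem h) _ hx
    rwa [show g⁻¹ * (g * x * g⁻¹) * g⁻¹⁻¹ = x by group] at this

/-- All degrees of the Borel subgroup divide `q - 1`. -/
theorem borel_degree (χ : IrrCharacter (borelS (F := F))) :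
    charDegree (χ : borelS (F := F) → ℂ) ∣ Fintype.card F - 1 := by
  classical
  haveI := Fintype.ofFinite (borelS (F := F))
  have hle : (uT (F := F)).range ≤ borelS := by
    rw [← normalizer_uRange]; exact Subgroup.le_normalizer
  set U := (uT (F := F)).range.subgroupOf borelS with hU
  haveI : U.Normal := Subgroup.normal_subgroupOf_iff_le_normalizer hle |>.2
    normalizer_uRange.ge
  haveI := Fintype.ofFinite U
  have hcU : Nat.card U = Fintype.card F := by
    rw [Nat.card_congr (Subgroup.subgroupOfEquivOfLe hle).toEquiv, card_uRange]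
  have hidx : U.index = Fintype.card F - 1 := by
    have := Subgroup.card_mul_index U
    rw [hcU, card_borelS, mul_comm (Fintype.card F - 1)] at this
    exact Nat.eq_of_mul_eq_mul_left Fintype.card_pos this
  obtain ⟨θ, hθ⟩ := Cfsg.Agent.Char.IsChar.exists_constituent'
    (Cfsg.Agent.Char.IsChar.res (Cfsg.Agent.Char.IsIrr.isCharacter χ.2) U)
    (show (χ : borelS (F := F) → ℂ) (1 : U) ≠ 0 from Cfsg.Agent.Char.IsIrr.one_ne_zero χ.2)
  obtain ⟨e, he, hedvd⟩ := Cfsg.Agent.Char.Ext.ratio_dvd_index' χ.2 θ.2 hθ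
  have hlin : (θ : U → ℂ) 1 = 1 := Cfsg.Agent.Char.IsIrr.one_of_comm (fun a b => by
    obtain ⟨s, hs⟩ := a.2
    obtain ⟨t, ht⟩ := b.2
    refine Subtype.ext (Subtype.ext ?_)
    show ((a : borelS (F := F)) : SS) * ((b : borelS (F := F)) : SS) =
      ((b : borelS (F := F)) : SS) * ((a : borelS (F := F)) : SS)
    rw [show ((a : borelS (F := F)) : SS) = uT s from hs.symm,
      show ((b : borelS (F := F)) : SS) = uT t from ht.symm, ← map_mul, ← map_mul, mul_comm]) θ.2
  rw [hlin, mul_one, charDeg_spec' χ, Nat.cast_inj] at he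
  rw [he, ← hidx]
  exact hedvd

end Cfsg.Agent.Block.SL2Char
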