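import Mathlib
import Cfsg.Agent.Lib.Block.SL2Char.SLTori
import Cfsg.Agent.Lib.Block.SL2Char.McKayBase

/-!
The normalizer of a Sylow subgroup for an odd prime dividing `q - 1` or `q + 1`.
-/

set_option linter.unusedSectionVars false

namespace Cfsg.Agent.Block.SL2Char

open Matrix Finset
open Cfsg.Agent.Block

universe u w

variable {F : Type u} [Field F] [Fintype F] [DecidableEq F]

local notation "SS" => Matrix.SpecialLinearGroup (Fin 2) F

namespace IsTorus

variable {A : Type w} [CommGroup A] [IsCyclic A] [Finite A]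
  {φ : A →* Matrix.SpecialLinearGroup (Fin 2) F} {m : ℕ}

theorem mckay_odd (h : IsTorus φ m) {ℓ : ℕ} [hℓ : Fact ℓ.Prime] (h2 : ℓ ≠ 2) (hd : ℓ ∣ 2 * m)
    (hv : (Nat.card SS).factorization ℓ = (2 * m).factorization ℓ) (S : Sylow ℓ SS) :
    irrCount (Subgroup.normalizer ((S : Subgroup SS) : Set SS)) (fun d => ¬ ℓ ∣ d) = m + 3 := by
  classical
  obtain ⟨P⟩ := (inferInstance : Nonempty (Sylow ℓ A))
  have hcard : Nat.card ((P : Subgroup A).map φ) = ℓ ^ (Nat.card SS).factorization ℓ := by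
    rw [Subgroup.card_map_of_injective h.inj, Sylow.card_eq_multiplicity, h.card, hv]
  rw [irrCount_normalizer S _ hcard]
  -- a regular element
  have hdvd : ℓ ∣ Nat.card A := by rw [h.card]; exact hd
  have hPne : (P : Subgroup A) ≠ ⊥ := fun e => by
    have h1 := P.dvd_card_of_dvd_card hdvd
    rw [e, Subgroup.card_bot] at h1
    exact hℓ.out.one_lt.ne' (Nat.dvd_one.1 h1)
  obtain ⟨a, haP, ha1⟩ := (Subgroup.ne_bot_iff_exists_ne_one.1 hPne).elim fun x hx =>
    (⟨x.1, x.2, fun e => hx (Subtype.ext e)⟩ : ∃ a : A, a ∈ (P : Subgroup A) ∧ a ≠ 1)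
  have ha : a * a ≠ 1 := fun e => ha1 (by
    obtain ⟨k, hk⟩ := P.isPGroup' ⟨a, haP⟩
    have h1 : orderOf a ∣ 2 := orderOf_dvd_iff_pow_eq_one.2 (by rw [sq, e])
    have h3 : orderOf a ∣ ℓ ^ k := orderOf_dvd_iff_pow_eq_one.2 (congrArg Subtype.val hk)
    exact orderOf_eq_one_iff.1 (Nat.eq_one_of_dvd_coprimes
      (((Nat.coprime_primes Nat.prime_two hℓ.out).2 h2.symm).pow_right k) h1 h3))
  rw [irrCount_congr (MulEquiv.subgroupCongr
    (h.normalizer_sub (Subgroup.map_le_range φ _) ha ⟨a, haP, rfl⟩))]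
  obtain ⟨hidx, hcyc, -, -⟩ := h.normalizer_facts
  haveI := Fintype.ofFinite (Subgroup.normalizer (φ.range : Set SS))
  rw [irrCount_all fun χ => ?_, h.classes_normalizer]
  haveI := hcyc
  letI : CommGroup (φ.range.subgroupOf (Subgroup.normalizer (φ.range : Set SS))) := IsCyclic.commGroup
  have hle := degree_le_two (φ.range.subgroupOf (Subgroup.normalizer (φ.range : Set SS)))
    (fun x hx y hy => congrArg Subtype.val (mul_comm
      (⟨x, hx⟩ : φ.range.subgroupOf (Subgroup.normalizer (φ.range : Set SS))) ⟨y, hy⟩))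
    hidx χ.2 (charDeg_spec' χ)
  intro hdvd'
  have h4 := Nat.le_of_dvd (charDeg_pos χ) hdvd'
  have := hℓ.out.two_le
  omega

end IsTorus

end Cfsg.Agent.Block.SL2Char
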