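import Mathlib
import Cfsg.Agent.Lib.Block.SL2Char.SLTable

set_option linter.unusedSectionVars false

namespace Cfsg.Agent.Block.SL2Char

open Matrix Finset

universe u v

variable {F : Type u} [Field F] [Fintype F] [DecidableEq F] (K : Type v) [Field K] [Algebra F K]
  [Fintype K] [DecidableEq K] (hK : Module.finrank F K = 2)

local notation "SS" => Matrix.SpecialLinearGroup (Fin 2) F

theorem card_wholes :
    (wholes K hK).card = 2 + (famC (F := F)).card + (famD K hK).card := by
  classical
  have hq : (Fintype.card F : ℂ) ≠ 0 := (cardF_cast_ne (F := F)).1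
  have hC : ∀ f ∈ famC (F := F), f 1 = (Fintype.card F : ℂ) + 1 ∧ f uS = 1 := fun f hf => by
    obtain ⟨α, -, rfl⟩ := mem_famC.1 hf
    exact ⟨vIS_one α, vIS_uS α⟩
  have hD : ∀ f ∈ famD K hK, f uS = -1 := fun f hf => by
    obtain ⟨φ, -, rfl⟩ := (mem_famD K hK).1 hf
    exact vDS_uS K hK φ
  rw [wholes, card_union_of_disjoint, card_union_of_disjoint, card_union_of_disjoint,
    card_singleton, card_singleton]
  all_goals rw [disjoint_left]; intro f hf hf'
  · rw [mem_singleton] at hf hf'
    have h := congrFun (hf.symm.trans hf') uS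
    rw [vSS_uS] at h
    exact one_ne_zero h
  · obtain ⟨h1, -⟩ := hC f hf'
    simp only [mem_union, mem_singleton] at hf
    rcases hf with rfl | rfl
    · exact hq (by linear_combination -h1)
    · rw [vSS_one] at h1
      exact one_ne_zero (by linear_combination -h1 : (1 : ℂ) = 0)
  · have h2 := hD f hf'
    simp only [mem_union, mem_singleton] at hf
    rcases hf with (rfl | rfl) | hf
    · norm_num at h2
    · rw [vSS_uS] at h2; norm_num at h2
    · rw [(hC f hf).2] at h2; norm_num at h2

end Cfsg.Agent.Block.SL2Char
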