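import Mathlib
import Cfsg.Agent.Lib.Block.SL2Char.SLFacts
import Cfsg.Agent.Lib.Block.SL2Char.SLCount
import Cfsg.Agent.Lib.Block.ClassMul

/-!
Counting the irreducible characters of `SL(2, q)`, `q` odd, by a property of the degree.
-/

set_option linter.unusedSectionVars false

namespace Cfsg.Agent.Block.SL2Char

open Matrix Finset

universe u v

variable {F : Type u} [Field F] [Fintype F] [DecidableEq F]

local notation "SS" => Matrix.SpecialLinearGroup (Fin 2) F

theorem charDegree_eq_of_one {G : Type*} [Group G] {f : G → ℂ} {n : ℕ} (h : f 1 = n) :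
    charDegree f = n := by
  rw [charDegree, h, Complex.natCast_re, Nat.floor_natCast]

/-- The number of irreducible characters whose degree satisfies `P`. -/
theorem card_irr_filter (hodd : Odd (Fintype.card F)) (P : ℕ → Prop) [DecidablePred P] :
    Nat.card {χ : IrrCharacter SS // P (charDegree (χ : SS → ℂ))} =
      (if P 1 then 1 else 0) + (if P (Fintype.card F) then 1 else 0) +
      (if P (Fintype.card F + 1) then (Fintype.card F - 3) / 2 else 0) +
      (if P (Fintype.card F - 1) then (Fintype.card F - 1) / 2 else 0) +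
      (if P ((Fintype.card F + 1) / 2) then 2 else 0) +
      (if P ((Fintype.card F - 1) / 2) then 2 else 0) := by
  classical
  obtain ⟨K, _, _, _, _, hK⟩ := exists_model F
  obtain ⟨α, a, b, x, a1, a2, -, ha, hb, hab, he, -⟩ := exists_pairI K hK hodd
  obtain ⟨φ, c, d, y, c1, c2, -, hc, hd, hcd, ge, -⟩ := exists_pairD K hK hodd
  have hI := halfI_facts K hK ha
  have hJ := halfI_facts K hK hb
  have hU := halfD_facts K hK hc
  have hV := halfD_facts K hK hd
  have h3 := three_le_card hodd
  obtain ⟨k, hk⟩ := hodd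
  have hodd' : Odd (Fintype.card F) := ⟨k, hk⟩
  have hplus : ((Fintype.card F : ℂ) + 1) / 2 = (((Fintype.card F + 1) / 2 : ℕ) : ℂ) := by
    rw [hk, show (2 * k + 1 + 1) / 2 = k + 1 by omega]; push_cast; ring
  have hminus : ((Fintype.card F : ℂ) - 1) / 2 = (((Fintype.card F - 1) / 2 : ℕ) : ℂ) := by
    rw [hk, show (2 * k + 1 - 1) / 2 = k by omega]; push_cast; ring
  have hneq : ∀ f g : SS → ℂ, f 1 = ((Fintype.card F : ℂ) + 1) / 2 →
      g 1 = ((Fintype.card F : ℂ) - 1) / 2 → f ≠ g :=
    fun f g h1 h2 e => one_ne_zero (show (1 : ℂ) = 0 by rw [e, h2] at h1; linear_combination -h1)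
  have hAB : Disjoint ({a, b} : Finset (SS → ℂ)) {c, d} := disjoint_left.2 fun f hf hf' => by
    simp only [mem_insert, mem_singleton] at hf hf'
    have h1 : f 1 = ((Fintype.card F : ℂ) + 1) / 2 := by
      rcases hf with rfl | rfl
      exacts [hI.2.2, hJ.2.2]
    have h2 : f 1 = ((Fintype.card F : ℂ) - 1) / 2 := by
      rcases hf' with rfl | rfl
      exacts [hU.2.2, hV.2.2]
    exact hneq f f h1 h2 rfl
  have hset : ∀ f : SS → ℂ, IsIrrCharacter SS f ↔ f ∈ wholes K hK ∪ ({a, b} ∪ {c, d}) := by
    intro f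
    simp only [mem_union, mem_insert, mem_singleton]
    refine ⟨fun h => ?_, fun h => ?_⟩
    · rcases irr_cases_odd K hK hodd' h with h | h | h
      · exact Or.inl h
      · exact Or.inr (Or.inl (halfI_eq K hK hodd' a1 a2 hI.1 hJ.1 he h))
      · exact Or.inr (Or.inr (halfD_eq K hK hodd' c1 c2 hU.1 hV.1 ge h))
    · rcases h with h | (rfl | rfl) | (rfl | rfl)
      exacts [wholes_irr K hK f h, hI.1, hJ.1, hU.1, hV.1]
  have hdis : Disjoint (wholes K hK) ({a, b} ∪ {c, d}) := disjoint_left.2 fun f hf h => by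
    simp only [mem_union, mem_insert, mem_singleton] at h
    have hinv := wholes_inv K hK f hf
    rcases h with (rfl | rfl) | (rfl | rfl)
    exacts [hI.2.1 hinv, hJ.2.1 hinv, hU.2.1 hinv, hV.2.1 hinv]
  -- the four whole families are disjoint
  have hcw := card_wholes K hK
  set A1 : Finset (SS → ℂ) := {fun _ => 1} with hA1
  set A2 : Finset (SS → ℂ) := {vSS} with hA2
  have c1' : A1.card = 1 := card_singleton _
  have c2' : A2.card = 1 := card_singleton _
  rw [show wholes K hK = A1 ∪ A2 ∪ famC ∪ famD K hK from rfl] at hcw hdis hset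
  have u1 := card_union_le A1 A2
  have u2 := card_union_le (A1 ∪ A2) (famC (F := F))
  have u3 := card_union_le (A1 ∪ A2 ∪ famC) (famD K hK)
  have d1 : Disjoint A1 A2 := card_union_eq_card_add_card.1 (by omega)
  have d2 : Disjoint (A1 ∪ A2) (famC (F := F)) := card_union_eq_card_add_card.1 (by omega)
  have d3 : Disjoint (A1 ∪ A2 ∪ famC) (famD K hK) := card_union_eq_card_add_card.1 (by omega)
  have hconst : ∀ (S : Finset (SS → ℂ)) (n : ℕ), (∀ f ∈ S, f 1 = n) →
      (∑ f ∈ S, if P (charDegree f) then 1 else 0) = if P n then S.card else 0 := by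
    intro S n hn
    rw [sum_congr rfl (fun f hf => by rw [charDegree_eq_of_one (hn f hf)]), sum_const, smul_eq_mul]
    split_ifs <;> simp
  have e : Nat.card {χ : IrrCharacter SS // P (charDegree (χ : SS → ℂ))} =
      ((A1 ∪ A2 ∪ famC ∪ famD K hK ∪ ({a, b} ∪ {c, d})).filter fun f => P (charDegree f)).card := by
    rw [← Nat.card_eq_finsetCard]
    exact Nat.card_congr
      { toFun := fun χ => ⟨χ.1.1, mem_filter.2 ⟨(hset _).1 χ.1.2, χ.2⟩⟩
        invFun := fun f => ⟨⟨f.1, (hset _).2 (mem_filter.1 f.2).1⟩, (mem_filter.1 f.2).2⟩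
        left_inv := fun χ => rfl
        right_inv := fun f => rfl }
  have hC := card_famC (F := F) K hK
  have hD := card_famD K hK
  rw [card_Z2_odd hodd'] at hC hD
  rw [e, card_filter, sum_union hdis, sum_union d3, sum_union d2, sum_union d1, sum_union hAB,
    hconst A1 1 (fun f hf => by rw [mem_singleton.1 hf]; norm_num),
    hconst A2 (Fintype.card F) (fun f hf => by rw [mem_singleton.1 hf, vSS_one]),
    hconst famC (Fintype.card F + 1) (fun f hf => famC_one hf),
    hconst (famD K hK) (Fintype.card F - 1) (fun f hf => by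
      obtain ⟨ψ, -, rfl⟩ := (mem_famD K hK).1 hf
      rw [vDS_one, cardF_sub_one Fintype.card_pos]),
    hconst {a, b} ((Fintype.card F + 1) / 2) (fun f hf => by
      rw [← hplus]
      rcases mem_insert.1 hf with h | h
      · exact h ▸ hI.2.2
      · exact mem_singleton.1 h ▸ hJ.2.2),
    hconst {c, d} ((Fintype.card F - 1) / 2) (fun f hf => by
      rw [← hminus]
      rcases mem_insert.1 hf with h | h
      · exact h ▸ hU.2.2
      · exact mem_singleton.1 h ▸ hV.2.2),
    c1', c2', card_pair hab, card_pair hcd,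
    show (famC (F := F)).card = (Fintype.card F - 3) / 2 by omega,
    show (famD K hK).card = (Fintype.card F - 1) / 2 by omega]
  split_ifs <;> omega

end Cfsg.Agent.Block.SL2Char
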